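import Cfsg.Agent.Mrg.Omega.Lie.CubSQ
import Cfsg.Agent.Mrg.Omega.Lie.LayerPerf
import Cfsg.Agent.Mrg.Omega.HOne.SameOf

section


/-!
# II.0h1, SPLIT, all `q ≥ 4`: the group `E = ⟨A^H⟩` (bb #15121 (a)-(c))

* `EE V R i j = ⟨A^H⟩`; `EE_eq_even`: it is the product of the components of even order contained in `H⁰`;
* `cen_EE`: `C_{Z(W i)/R i}(E) = 1`; `KN_odd'`: `|N₀|` odd; `cenE_odd`: `|C_{H⁰}(E)|` odd if `W i / Z(W i) = ⟨V^E⟩`;
* `not_UD`: `C(X) ≠ 1` implies `U j ⊄ D`.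
-/

set_option autoImplicit false
set_option linter.unusedSectionVars false

namespace Cfsg.Agent.Omega.HOneQ.ECen

open Subgroup Cfsg Cfsg.Agent.Omega.BTwo Cfsg.Agent.Omega.Lie Cfsg.Agent.Omega.Lie.Quot
open Cfsg.Agent.Omega.Lie.Layer (OddC InnC InnA Cps)
open Cfsg.Agent.Omega.HOne.ModZ

universe u v w

variable {G : Type u} [Group G] {ι : Type w} {V : Subgroup G} {R : ι → Subgroup G} {i j : ι}
  {F : Type v} [Field F] {vv : F → F → G} {w1 w2 t : F → G}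

variable (V R i j) in
/-- `E = ⟨A^H⟩` -/
def EE : Subgroup (HQ (R i)) := normalClosure (AA V R i j : Set (HQ (R i)))

theorem EE_normal : (EE V R i j).Normal := normalClosure_normal

theorem AA_le_EE : AA V R i j ≤ EE V R i j := le_normalClosure

theorem EE_le_H0 (b : BT V R) : EE V R i j ≤ H0 R i := by
  have hH0 : (H0 R i).Normal := Layer.H0_normal R i
  refine normalClosure_le_normal fun a ha => ?_
  obtain ⟨u, hu, rfl⟩ := (mem_AA b).1 ha
  refine (pr_mem_im_iff (Q_le_C b i) (U_le_N b i j hu)).2 ?_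
  rw [mem_centralizer_iff]
  exact fun r hr => mem_centralizer_iff.1 (UU_le_cen j hu) r (b.R_le i hr)

/-- `C(X) ≠ 1` implies `U j ⊄ D` -/
theorem not_UD [Finite G] [Finite F] [CharP F 2] (b : BTS V R) (hF : ∃ a : F, a ≠ 0 ∧ a ≠ 1)
    (c : Coord V R i j vv w1 w2)
    (hodd : Odd ((normalizer (V : Set G)).relIndex (normalizer (R i : Set G)))) (hC : CenX V R ≠ ⊥) :
    ¬ UU V R j ≤ DD V R := by
  intro hU
  obtain ⟨z, hz, h1⟩ := exists_ZZ_of_coord b (coord_swap c) hF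
    (S := normalizer (V : Set G) ⊓ normalizer (R j : Set G)) inf_le_right inf_le_left
    (by rw [inf_relIndex_right, relIndex_eq b.toBT i j]; exact hodd) (Ne.symm c.ne) hC
  have hzU : z ∈ UU V R j := zU_le j hz
  exact h1 (b.W_le_Q i (D_le_W V R i (hU hzU)))

section all

variable [Finite G] [Finite F] [CharP F 2] (b : BTS V R) (hF : ∃ a : F, a ≠ 0 ∧ a ≠ 1)
  (c : Coord V R i j vv w1 w2) (τ : TorD V R i j vv t)
  (hodd : Odd ((normalizer (V : Set G)).relIndex (normalizer (R i : Set G))))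
  (hUD : ¬ UU V R j ≤ DD V R)
  {S : Subgroup (HQ (R i))} (I : SylI τ S) (hinn : InnC V R i j) (hoddC : OddC V R i j)

include b hF c τ hodd hUD I hinn hoddC

/-- **(b)** `C_{Z(W i)/R i}(E) = 1` -/
theorem cen_EE {z : G} (hz : z ∈ BTwo.ZZ V R i) (h : ∀ g ∈ lift (R i) (EE V R i j), g * z * g⁻¹ * z⁻¹ ∈ R i) :
    z ∈ R i :=
  cen_rad b hF c τ hodd EE_normal AA_le_EE (EE_le_H0 b.toBT)
    (E_perf b hF c τ hodd hUD I hinn hoddC).ge ⟨hz, h⟩

/-- **(c)** `S ∩ N₀ = 1` -/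
theorem S_inf_KN' {s : HQ (R i)} (hs : s ∈ S) (hs0 : s ∈ KN V R i) : s = 1 :=
  S_inf_KN b hF c τ hodd EE_normal AA_le_EE (EE_le_H0 b.toBT)
    (E_perf b hF c τ hodd hUD I hinn hoddC).ge I
    (fun _ hL hn => E_gen b hF c τ hodd hUD I hinn hoddC hL hn)
    (fun _ hn _ hx => KN_comm_E b hF c τ hodd hn hx) hs hs0

/-- **(c)** `N₀` has odd order -/
theorem KN_odd' : Odd (Nat.card (KN V R i)) :=
  KN_odd b hF c τ hodd EE_normal AA_le_EE (EE_le_H0 b.toBT)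
    (E_perf b hF c τ hodd hUD I hinn hoddC).ge I
    (fun _ hL hn => E_gen b hF c τ hodd hUD I hinn hoddC hL hn)
    (fun _ hn _ hx => KN_comm_E b hF c τ hodd hn hx)

/-- **(c)** a component of even order contained in `H⁰` is met by `A` -/
theorem met_of_even {K : Subgroup (HQ (R i))} (hK : Cps (H0 R i) K) (h2 : 2 ∣ Nat.card K) : Met V R i j K := by
  by_contra hn
  have h3 := comp_le_N0 b hF c τ hodd hUD hK.1 hK.2 h2 (comm_of_not_met hinn hK hn) I
  have h4 := KN_odd' b hF c τ hodd hUD I hinn hoddC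
  exact (Nat.not_even_iff_odd.2 h4) (even_iff_two_dvd.2 (h2.trans (card_dvd_of_le h3)))

theorem met_iff {K : Subgroup (HQ (R i))} : Met V R i j K ↔ Cps (H0 R i) K ∧ 2 ∣ Nat.card K :=
  ⟨fun h => ⟨h.1, h.two_dvd b.toBT c.ne⟩, fun h => met_of_even b hF c τ hodd hUD I hinn hoddC h.1 h.2⟩

/-- **`E` is the product of the components of even order contained in `H⁰`** -/
theorem EE_eq_even : EE V R i j =
    ⨆ K ∈ {K : Subgroup (HQ (R i)) | Cps (H0 R i) K ∧ 2 ∣ Nat.card K}, K := by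
  rw [EE, E_eq b hF c τ hodd hUD I hinn hoddC]
  congr 1
  funext K
  rw [Set.mem_ofPred_eq, Set.mem_ofPred_eq, met_iff b hF c τ hodd hUD I hinn hoddC]

variable {M : Type u} [AddCommGroup M] [DistribMulAction (HQ (R i)) M] {p : G → M} (m : MZ V R i M p)
  (hM : ∀ L : AddSubgroup M, (∀ x ∈ V, p x ∈ L) → (∀ g ∈ EE V R i j, ∀ x ∈ L, g • x ∈ L) → L = ⊤)

include m hM

/-- `C_S(E) = 1` -/
theorem S_inf_cenE {s : HQ (R i)} (hs : s ∈ S) (hc : ∀ x ∈ EE V R i j, s * x = x * s) : s = 1 := by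
  obtain ⟨g, hg, hgV, rfl⟩ := I.rep s hs
  have hgR : g ∈ centralizer (R i : Set G) := by
    rw [mem_centralizer_iff]
    exact fun r hr => mem_centralizer_iff.1 hgV r (b.R_le i hr)
  let L : AddSubgroup M :=
    { carrier := {x | pr (R i) ⟨g, hg⟩ • x = x}
      zero_mem' := smul_zero _
      add_mem' := fun {x y} hx hy => by
        change _ • (x + y) = x + y
        rw [smul_add, hx, hy]
      neg_mem' := fun {x} hx => by
        change _ • (-x) = -x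
        rw [smul_neg, hx] }
  have hL : L = ⊤ := by
    refine hM L (fun x hx => ?_) fun y hy x hx => ?_
    · change _ • p x = p x
      rw [m.p_act g hg x (V_le_WW V (R i) hx), (mem_centralizer_iff.1 hgV x hx).symm, mul_inv_cancel_right]
    · change _ • y • x = y • x
      rw [smul_smul, hc y hy, ← smul_smul]
      exact congrArg _ hx
  refine S_inf_KN' b hF c τ hodd hUD I hinn hoddC hs ((pr_mem_KN b.toBT hg).2 ⟨hgR, ?_⟩)
  refine ⟨LemNS.N_le_NZ i hg, fun w hw => ?_⟩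
  have h1 : p w ∈ L := by rw [hL]; exact AddSubgroup.mem_top _
  change _ • p w = p w at h1
  have hw' := conj_mem_of_normalizer (normalizer_le_WW V (R i) hg) hw
  rw [m.p_act g hg w hw, m.p_eq_iff hw' hw] at h1
  exact h1

/-- **`C_{H⁰}(E)` has odd order** -/
theorem cenE_odd : Odd (Nat.card (centralizer (EE V R i j : Set (HQ (R i))) ⊓ H0 R i : Subgroup (HQ (R i)))) := by
  set C := centralizer (EE V R i j : Set (HQ (R i))) ⊓ H0 R i with hC
  have hSC : S ⊓ C = ⊥ := by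
    rw [Subgroup.eq_bot_iff_forall]
    intro x hx
    exact S_inf_cenE b hF c τ hodd hUD I hinn hoddC m hM hx.1 fun y hy =>
      (mem_centralizer_iff.1 hx.2.1 y hy).symm
  have hCn : C.Normal := by
    have h1 : (EE V R i j).Normal := EE_normal
    have h2 : (H0 R i).Normal := Layer.H0_normal R i
    infer_instance
  rw [← Nat.not_even_iff_odd, even_iff_two_dvd]
  intro h2
  obtain ⟨x, hx⟩ := exists_prime_orderOf_dvd_card' 2 h2
  have h1 : zpowers (x : HQ (R i)) ≤ S := by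
    refine I.syl C hCn.isSubnormal inf_le_right _ (zpowers_le.2 x.2) ?_ (by rw [hSC]; exact bot_le)
    rw [IsPGroup.iff_card]
    refine ⟨1, ?_⟩
    rw [Nat.card_zpowers, Subgroup.orderOf_coe, hx, pow_one]
  have h3 : zpowers (x : HQ (R i)) ≤ S ⊓ C := le_inf h1 (zpowers_le.2 x.2)
  rw [hSC, le_bot_iff, zpowers_eq_bot] at h3
  have h4 : x = 1 := Subtype.ext h3
  rw [h4, orderOf_one] at hx
  exact absurd hx (by norm_num)

end all

end Cfsg.Agent.Omega.HOneQ.ECen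

end

section


/-!
# II.0h1, SPLIT, all `q ≥ 4`: `D ∩ C(X) ≠ 1` (OMEGA #17641 (1)); helper499

`comm_R` : `D ∩ C(X) = 1` implies `[Z(W i), U j] ≤ R i`; `comm_EE` : then `⟨A^H⟩` centralises `Z(W i) / R i`;
`dcx_ne` : with `C_{Z(W i)/R i}(E) = 1` this contradicts `Z(W i) ≠ R i`; `dH : DH K`.
-/

set_option autoImplicit false
set_option linter.unusedSectionVars false

namespace Cfsg.Agent.Omega.HOneQ.DHof

open Subgroup Cfsg Cfsg.Agent.Omega.BTwo Cfsg.Agent.Omega.Lie Cfsg.Agent.Omega.Lie.Quot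
open Cfsg.Agent.Omega.Lie.Layer (OddC InnC InnA Cps)
open Cfsg.Agent.Omega.HOneQ.ECen

universe u v w

section bt

variable {G : Type u} [Group G] {ι : Type w} {V : Subgroup G} {R : ι → Subgroup G} {i j : ι}

/-- `D ∩ C(X) = 1` implies `[Z(W i), U j] ≤ R i` -/
theorem comm_R (b : BTS V R) (hij : i ≠ j) (hD : DD V R ⊓ CenX V R = ⊥) {z u : G} (hz : z ∈ BTwo.ZZ V R i)
    (hu : u ∈ UU V R j) : u * z * u⁻¹ * z⁻¹ ∈ R i := by
  obtain ⟨h1, h2⟩ := b.cen_W_U hij (mem_inf.1 hz).2 hu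
  obtain ⟨a, ha, h3⟩ := b.cen_DW h1 h2
  rw [hD, mem_bot] at h3
  have h4 : z * u * z⁻¹ * u⁻¹ = a⁻¹ := eq_inv_of_mul_eq_one_right h3
  have e : u * z * u⁻¹ * z⁻¹ = (z * u * z⁻¹ * u⁻¹)⁻¹ := by group
  rw [e, h4, inv_inv]
  exact ha

/-- the elements of `N(R i)` which centralise `Z(W i) / R i` -/
def CZ (V : Subgroup G) (R : ι → Subgroup G) (i : ι) : Subgroup G where
  carrier := {x | x ∈ normalizer (R i : Set G) ∧ ∀ z ∈ BTwo.ZZ V R i, x * z * x⁻¹ * z⁻¹ ∈ R i}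
  one_mem' := ⟨one_mem _, fun z _ => by
    rw [show (1 : G) * z * 1⁻¹ * z⁻¹ = 1 by group]; exact one_mem _⟩
  mul_mem' := by
    rintro x y ⟨hx, hx'⟩ ⟨hy, hy'⟩
    refine ⟨mul_mem hx hy, fun z hz => ?_⟩
    have e : x * y * z * (x * y)⁻¹ * z⁻¹ = (x * (y * z * y⁻¹ * z⁻¹) * x⁻¹) * (x * z * x⁻¹ * z⁻¹) := by group
    rw [e]
    exact mul_mem (conj_mem_of_normalizer hx (hy' z hz)) (hx' z hz)
  inv_mem' := by
    rintro x ⟨hx, hx'⟩
    refine ⟨inv_mem hx, fun z hz => ?_⟩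
    have h1 := conj_mem_of_normalizer (inv_mem hx) (inv_mem (hx' z hz))
    have e : x⁻¹ * (x * z * x⁻¹ * z⁻¹)⁻¹ * x⁻¹⁻¹ = x⁻¹ * z * x⁻¹⁻¹ * z⁻¹ := by group
    rwa [e] at h1

theorem mem_CZ {x : G} : x ∈ CZ V R i ↔ x ∈ normalizer (R i : Set G) ∧
    ∀ z ∈ BTwo.ZZ V R i, x * z * x⁻¹ * z⁻¹ ∈ R i := Iff.rfl

theorem Q_le_CZ (b : BT V R) : QQ (R i) ≤ CZ V R i := by
  intro g hg
  exact ⟨b.Q_le i hg, fun z hz => b.WQ i hg (mem_inf.1 hz).1⟩

theorem im_CZ_normal : (im (R i) (CZ V R i)).Normal := by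
  refine Layer.im_normal fun g hg x hx => ?_
  obtain ⟨hx, hx'⟩ := hx
  refine ⟨mul_mem (mul_mem hg hx) (inv_mem hg), fun z hz => ?_⟩
  have hz' := conj_mem_of_normalizer (LemNS.N_le_NZ i (inv_mem hg)) hz
  rw [inv_inv] at hz'
  have h1 := conj_mem_of_normalizer hg (hx' _ hz')
  have e : g * (x * (g⁻¹ * z * g) * x⁻¹ * (g⁻¹ * z * g)⁻¹) * g⁻¹ = g * x * g⁻¹ * z * (g * x * g⁻¹)⁻¹ * z⁻¹ := by
    group
  rwa [e] at h1

/-- `⟨A^H⟩` centralises `Z(W i) / R i` -/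
theorem comm_EE (b : BTS V R) (hij : i ≠ j) (hD : DD V R ⊓ CenX V R = ⊥) {g : G}
    (hg : g ∈ lift (R i) (EE V R i j)) {z : G} (hz : z ∈ BTwo.ZZ V R i) : g * z * g⁻¹ * z⁻¹ ∈ R i := by
  have hn : (im (R i) (CZ V R i)).Normal := im_CZ_normal
  have h1 : EE V R i j ≤ im (R i) (CZ V R i) := by
    refine normalClosure_le_normal fun a ha => ?_
    obtain ⟨u, hu, rfl⟩ := (mem_AA b.toBT).1 ha
    exact (pr_mem_im_iff (Q_le_CZ b.toBT) _).2 ⟨U_le_N b.toBT i j hu, fun z hz => comm_R b hij hD hz hu⟩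
  obtain ⟨hgN, hgE⟩ := mem_lift.1 hg
  exact ((pr_mem_im_iff (Q_le_CZ b.toBT) hgN).1 (h1 hgE)).2 z hz

end bt

section all

variable {G : Type u} [Group G] {ι : Type w} {V : Subgroup G} {R : ι → Subgroup G} {i j : ι}
  {F : Type v} [Field F] {vv : F → F → G} {w1 w2 t : F → G}
  [Finite G] [Finite F] [CharP F 2] (b : BTS V R) (hF : ∃ a : F, a ≠ 0 ∧ a ≠ 1)
  (c : Coord V R i j vv w1 w2) (τ : TorD V R i j vv t)
  (hodd : Odd ((normalizer (V : Set G)).relIndex (normalizer (R i : Set G))))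
  {S : Subgroup (HQ (R i))} (I : SylI τ S) (hinn : InnC V R i j) (hoddC : OddC V R i j)

include b hF c τ hodd I hinn hoddC

/-- **`D ∩ C(X) ≠ 1`** -/
theorem dcx_ne (hC : CenX V R ≠ ⊥) : DD V R ⊓ CenX V R ≠ ⊥ := by
  intro hD
  have hUD := not_UD b hF c hodd hC
  obtain ⟨z, hz, hzQ⟩ := exists_ZZ_of_coord b c hF
    (S := normalizer (V : Set G) ⊓ normalizer (R i : Set G)) inf_le_right inf_le_left
    (by rw [inf_relIndex_right]; exact hodd) c.ne hC
  have h1 := cen_EE b hF c τ hodd hUD I hinn hoddC hz fun g hg => comm_EE b c.ne hD hg hz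
  exact hzQ (b.W_le_Q j (V_le_WW V (R j) (b.R_le i h1)))

end all

section sockets

open Cfsg.Agent.ZN Cfsg.Agent.Omega.MinPar Cfsg.Agent.Omega.Frame
open Cfsg.Agent.Omega.NatPair (NatMod)
open Cfsg.Agent.Omega.IIa4 (LayAll)
open Cfsg.Agent.Omega.HOne.SameOf (Sit4 DH)

/-- `D ∩ C(X) ≠ 1` in the situation of `Same4` -/
theorem dcx_sit {G : Type u} [Group G] [Finite G] {S : Sylow 2 G} {P : Subgroup G} {g : G} {F : Type} [Field F]
    [Finite F] [CharP F 2] {N : Subgroup G} {M : NatMod F N} (h : Sit4 S P g M) (hl : LayAll N (pt M) F) :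
    DD N (pt M) ⊓ CenX N (pt M) ≠ ⊥ := by
  obtain ⟨i, j, hij⟩ := h.exists_pair
  obtain ⟨v, w1, w2, c⟩ := h.exists_coord hij
  obtain ⟨t, τ⟩ := h.exists_torD c
  obtain ⟨S₁, hV, hR⟩ := h.exists_sylow i
  have l := hl i j c.ne v w1 w2 t c τ S₁ hV hR
  exact dcx_ne h.bts h.exists_ne c τ (h.odd i)
    (ECen.sylI_of_sylow h.bt τ (Crd.of_coord c) c.ne S₁ hV hR) l.innC l.odd h.CenX_ne

/-- **The socket `DH K`.** -/
theorem dH {K : Cls.{u}} : DH K := by
  intro G _ _ _ S P g F _ _ _ N M h hl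
  exact dcx_sit h hl

end sockets

end Cfsg.Agent.Omega.HOneQ.DHof

end
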