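import Cfsg.Agent.Mrg.Omega.HOneQ.Entry
import Cfsg.Agent.Mrg.Omega.BTwo.RadQ
import Cfsg.Agent.Mrg.Omega.HOne.ModZ
import Cfsg.Agent.Mrg.Omega.Lie.LayerPerf

section


/-!
# II.0h1, SPLIT, all `q ≥ 4` (bb #15121 (a)): the components of `H⁰` centralised by `A`

`H = HQ (R i)`, `A = AA V R i j`, `T = TT τ`, `N₀ = N0 V R i` the kernel of `C(R i)` on `W i / Z(W i)`.

* `SylI τ S`: what is used of `S` (for `S₁ : Sylow 2 G` with `S₁ ≤ N(V) ∩ N(R i)`: `sylI_of_sylow`);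
* `comp_le_N0`: a component `K ≤ H⁰` of even order centralised by `A` is contained in `N₀`;
* `E_eq`: `⟨A^H⟩` is the product of the components `K ≤ H⁰` with `A ∩ K ≠ 1`; `E_gen`: `⟨A^H⟩ = ⟨A^E⟩`; `E_perf`.
-/

set_option autoImplicit false
set_option linter.unusedSectionVars false

namespace Cfsg.Agent.Omega.HOneQ.ECen

open Subgroup Cfsg Cfsg.Agent.Omega.BTwo Cfsg.Agent.Omega.Lie Cfsg.Agent.Omega.Lie.Quot
open Cfsg.Agent.Omega.HOne.ModZ (MZ exists_MZ Fq)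
open Cfsg.Agent.Omega.Lie.Layer (OddC InnC InnA Cps)

universe u v w

variable {G : Type u} [Group G] {ι : Type w} {V : Subgroup G} {R : ι → Subgroup G} {i j : ι}
  {F : Type v} [Field F] {vv : F → F → G} {w1 w2 t : F → G}

/-- the group `S` -/
structure SylI (τ : TorD V R i j vv t) (S : Subgroup (HQ (R i))) : Prop where
  S2 : IsPGroup 2 S
  AS : AA V R i j ≤ S
  rep : ∀ s ∈ S, ∃ (g : G) (hg : g ∈ normalizer (R i : Set G)), g ∈ centralizer (V : Set G) ∧ pr (R i) ⟨g, hg⟩ = s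
  ST : ∀ x ∈ TT τ, ∀ s ∈ S, s⁻¹ * (x * s * x⁻¹) ∈ AA V R i j
  syl : ∀ K : Subgroup (HQ (R i)), K.IsSubnormal → K ≤ H0 R i → ∀ P ≤ K, IsPGroup 2 P → S ⊓ K ≤ P → P ≤ S

theorem sylI_of_sylow [Finite G] (b : BT V R) (τ : TorD V R i j vv t) (C : Crd V R i j vv w1 w2) (hij : i ≠ j)
    (S₁ : Sylow 2 G) (hV : (S₁ : Subgroup G) ≤ normalizer (V : Set G))
    (hR : (S₁ : Subgroup G) ≤ normalizer (R i : Set G)) : SylI τ (SS R i S₁) where
  S2 := S_isPGroup S₁
  AS := A_le_S b S₁ i j hV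
  rep s hs := by
    rw [S_eq_im b C S₁ hV hR] at hs
    obtain ⟨g, hg, hgS, e⟩ := mem_im.1 hs
    exact ⟨g, hg, (mem_inf.1 hgS).2, e⟩
  ST _ hx _ hs := ST_mem b τ C S₁ hij hV hR hx hs
  syl _ hK hK0 _ hPK hP hSP := syl b S₁ hR hK hK0 hPK hP hSP

/-! ### `N₀` in `H` -/

section NN

variable (V R i)

/-- the image of `N₀` in `H` -/
def KN : Subgroup (HQ (R i)) := im (R i) (LemNS.N0 V R i)

instance KN_normal : (KN V R i).Normal := Layer.im_normal fun _ hg _ hx => LemNS.N_le_NN0 i hg hx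

variable {V R i}

theorem Q_le_N0 (b : BT V R) : QQ (R i) ≤ LemNS.N0 V R i := by
  intro g hg
  refine mem_inf.2 ⟨Q_le_C b i hg, LemNS.N_le_NZ i (b.Q_le i hg), fun w hw => ?_⟩
  exact b.R_le_Z i (b.WQ i hg hw)

theorem pr_mem_KN (b : BT V R) {g : G} (hg : g ∈ normalizer (R i : Set G)) :
    pr (R i) ⟨g, hg⟩ ∈ KN V R i ↔ g ∈ LemNS.N0 V R i := pr_mem_im_iff (Q_le_N0 b) hg

theorem KN_le_H0 : KN V R i ≤ H0 R i := im_mono inf_le_left

variable [Finite G] [Finite F] [CharP F 2]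

/-- `A ∩ N₀ = 1` -/
theorem AA_inf_KN (b : BTS V R) (hF : ∃ a : F, a ≠ 0 ∧ a ≠ 1) (c : Coord V R i j vv w1 w2)
    (τ : TorD V R i j vv t) (hodd : Odd ((normalizer (V : Set G)).relIndex (normalizer (R i : Set G))))
    {a : HQ (R i)} (ha : a ∈ AA V R i j) (h : a ∈ KN V R i) : a = 1 := by
  obtain ⟨u, hu, rfl⟩ := (mem_AA b.toBT).1 ha
  rw [pr_mem_KN b.toBT] at h
  rw [pr_eq_one, U_inf_Q b.toBT c.ne hu]
  refine LemNS.faithful b hF c τ hodd hu fun w hw => ?_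
  have h1 := inv_mem (h.2.2 w hw)
  rwa [show (u * w * u⁻¹ * w⁻¹)⁻¹ = w * u * w⁻¹ * u⁻¹ by group] at h1

/-- `N₀` centralises `A` -/
theorem KN_comm_A (b : BTS V R) (hF : ∃ a : F, a ≠ 0 ∧ a ≠ 1) (c : Coord V R i j vv w1 w2)
    (τ : TorD V R i j vv t) (hodd : Odd ((normalizer (V : Set G)).relIndex (normalizer (R i : Set G))))
    {n a : HQ (R i)} (hn : n ∈ KN V R i) (ha : a ∈ AA V R i j) : n * a = a * n := by
  obtain ⟨u, hu, rfl⟩ := (mem_AA b.toBT).1 ha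
  obtain ⟨g, hg, hg0, rfl⟩ := mem_im.1 hn
  have huN := U_le_N b.toBT i j hu
  have hM := LemNS.N_le_NM0 b.toBT i
  -- `[n, u] ∈ Q i`
  have h1 : g * u * g⁻¹ * u⁻¹ ∈ QQ (R i) := by
    refine LemNS.N1_le b ?_ fun w hw => ?_
    · have e : g * u * g⁻¹ * u⁻¹ = g * (u * g⁻¹ * u⁻¹) := by group
      rw [e]
      exact mul_mem hg0 (LemNS.N_le_NN0 i huN (inv_mem hg0))
    · -- `u` and `g u g⁻¹` act trivially on `W i / M₀`
      have k1 : ∀ w ∈ WW V (R i), u * w * u⁻¹ * w⁻¹ ∈ LemNS.M0 b.toBT i := by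
        intro w hw
        have h2 := inv_mem (LemNS.comm_M0 b hF c τ hodd hw hu)
        rwa [show (w * u * w⁻¹ * u⁻¹)⁻¹ = u * w * u⁻¹ * w⁻¹ by group] at h2
      have k2 : ∀ w ∈ WW V (R i), u⁻¹ * w * u * w⁻¹ ∈ LemNS.M0 b.toBT i := by
        intro w hw
        have h2 := inv_mem (k1 _ (conj_inv_mem_of_normalizer (normalizer_le_WW V (R i) huN) hw))
        rwa [show (u * (u⁻¹ * w * u) * u⁻¹ * (u⁻¹ * w * u)⁻¹)⁻¹ = u⁻¹ * w * u * w⁻¹ by group] at h2
      have hw1 : u⁻¹ * w * u ∈ WW V (R i) := conj_inv_mem_of_normalizer (normalizer_le_WW V (R i) huN) hw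
      have hw2 : g⁻¹ * (u⁻¹ * w * u) * g ∈ WW V (R i) :=
        conj_inv_mem_of_normalizer (normalizer_le_WW V (R i) hg) hw1
      have k3 := conj_mem_of_normalizer (hM hg) (k1 _ hw2)
      have e : g * u * g⁻¹ * u⁻¹ * w * (g * u * g⁻¹ * u⁻¹)⁻¹ * w⁻¹ =
          g * (u * (g⁻¹ * (u⁻¹ * w * u) * g) * u⁻¹ * (g⁻¹ * (u⁻¹ * w * u) * g)⁻¹) * g⁻¹ * (u⁻¹ * w * u * w⁻¹) := by
        group
      rw [e]
      exact mul_mem k3 (k2 w hw)
  have h2 : pr (R i) ⟨g, hg⟩ * pr (R i) ⟨u, huN⟩ * (pr (R i) ⟨g, hg⟩)⁻¹ * (pr (R i) ⟨u, huN⟩)⁻¹ = 1 := by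
    have e : pr (R i) ⟨g, hg⟩ * pr (R i) ⟨u, huN⟩ * (pr (R i) ⟨g, hg⟩)⁻¹ * (pr (R i) ⟨u, huN⟩)⁻¹ =
        pr (R i) ⟨g * u * g⁻¹ * u⁻¹, mul_mem (mul_mem (mul_mem hg huN) (inv_mem hg)) (inv_mem huN)⟩ := rfl
    rw [e, pr_eq_one]
    exact h1
  rw [mul_inv_eq_one, mul_inv_eq_iff_eq_mul] at h2
  exact h2

/-- `N₀` centralises `⟨A^H⟩` -/
theorem KN_comm_E (b : BTS V R) (hF : ∃ a : F, a ≠ 0 ∧ a ≠ 1) (c : Coord V R i j vv w1 w2)
    (τ : TorD V R i j vv t) (hodd : Odd ((normalizer (V : Set G)).relIndex (normalizer (R i : Set G))))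
    {n x : HQ (R i)} (hn : n ∈ KN V R i) (hx : x ∈ normalClosure (AA V R i j : Set (HQ (R i)))) : n * x = x * n := by
  have h1 : normalClosure (AA V R i j : Set (HQ (R i))) ≤ centralizer (KN V R i : Set (HQ (R i))) := by
    refine normalClosure_le_normal fun a ha => ?_
    change a ∈ centralizer (KN V R i : Set (HQ (R i)))
    rw [mem_centralizer_iff]
    exact fun n hn => KN_comm_A b hF c τ hodd hn ha
  exact mem_centralizer_iff.1 (h1 hx) n hn

end NN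

/-! ### components -/

section comp

variable {H : Type*} [Group H]

/-- a subgroup of a component `K`, normalised by `K` and not central, is `K` -/
theorem comp_le {K L : Subgroup H} (hK : IsComponent K) (hn : ∀ g ∈ K, ∀ l ∈ L, g * l * g⁻¹ ∈ L)
    {x : H} (hxL : x ∈ L) (hxK : x ∈ K) (hx : ¬ ∀ y ∈ K, x * y = y * x) : K ≤ L := by
  have hN : (L.subgroupOf K).Normal := ⟨fun y hy g => by
    rw [mem_subgroupOf] at hy ⊢
    exact hn _ g.2 _ hy⟩
  rcases SignalizersComponents.Components.quasisimple_normal hK.2 _ hN with h | h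
  · exact subgroupOf_eq_top.1 h
  · exfalso
    apply hx
    intro y hy
    have h1 := mem_center_iff.1 (h (mem_subgroupOf.2 hxL : (⟨x, hxK⟩ : K) ∈ L.subgroupOf K)) ⟨y, hy⟩
    exact (congrArg Subtype.val h1).symm

theorem comp_perf {K : Subgroup H} (hK : IsComponent K) : ⁅K, K⁆ = K := by
  have hp := hK.2.1
  have h3 : (commutator K).map K.subtype = ⁅K, K⁆ := by
    rw [_root_.commutator_def, map_commutator, ← MonoidHom.range_eq_map, K.range_subtype]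
  rw [← h3, hp.commutator_eq_top, ← MonoidHom.range_eq_map, K.range_subtype]

end comp

/-- a 2-element of a component of `H` which is central in it is `1` -/
theorem two_cen [Finite G] {R₀ : Subgroup G} {K P : Subgroup (HQ R₀)} (hK : IsComponent K) (hP : IsPGroup 2 P)
    {x : HQ R₀} (hxP : x ∈ P) (hxK : x ∈ K) (hc : ∀ y ∈ K, x * y = y * x) : x = 1 := by
  have h1 := LemmaT.comp_of_isComponent hK (pCore_HQ R₀)
  by_contra hne
  obtain ⟨n, hn⟩ := hP ⟨x, hxP⟩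
  have hn' : x ^ 2 ^ n = 1 := congrArg Subtype.val hn
  have ho := orderOf_dvd_of_pow_eq_one hn'
  obtain ⟨k, hk, hk'⟩ := (Nat.dvd_prime_pow Nat.prime_two).1 ho
  have hk0 : k ≠ 0 := by
    rintro rfl
    rw [pow_zero, orderOf_eq_one_iff] at hk'
    exact hne hk'
  obtain ⟨l, rfl⟩ := Nat.exists_eq_succ_of_ne_zero hk0
  have h2 : x ^ 2 ^ l * x ^ 2 ^ l = 1 := by
    rw [← pow_add, ← two_mul, ← pow_succ', ← hk']
    exact pow_orderOf_eq_one x
  have h3 : x ^ 2 ^ l = 1 := h1.cen _ (K.pow_mem hxK _) h2 fun y hy => (show Commute x y from hc y hy).pow_left _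
  have h4 := orderOf_dvd_of_pow_eq_one h3
  rw [hk'] at h4
  have h5 := Nat.le_of_dvd (by positivity) h4
  have h6 : 2 ^ l < 2 ^ (l + 1) := Nat.pow_lt_pow_right (by norm_num) (Nat.lt_succ_self l)
  omega

theorem S_inf_ne {τ : TorD V R i j vv t} {S : Subgroup (HQ (R i))} [Finite G] (I : SylI τ S)
    {K : Subgroup (HQ (R i))} (hK : IsComponent K) (hK0 : K ≤ H0 R i) (h2 : 2 ∣ Nat.card K) :
    ∃ x ∈ S, x ∈ K ∧ x ≠ 1 := by
  obtain ⟨x, hx⟩ := exists_prime_orderOf_dvd_card' 2 h2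
  by_contra hcon
  push Not at hcon
  have hSK : S ⊓ K = ⊥ := (Subgroup.eq_bot_iff_forall _).2 fun x hx => hcon x hx.1 hx.2
  have h1 : (zpowers (x : HQ (R i))) ≤ S := by
    refine I.syl K hK.1 hK0 _ (zpowers_le.2 x.2) ?_ (by rw [hSK]; exact bot_le)
    rw [IsPGroup.iff_card]
    refine ⟨1, ?_⟩
    rw [Nat.card_zpowers, Subgroup.orderOf_coe, hx, pow_one]
  have h3 := hcon x (h1 (mem_zpowers _)) x.2
  have h4 : x = 1 := Subtype.ext h3
  rw [h4, orderOf_one] at hx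
  exact absurd hx (by norm_num)

section main

variable [Finite G] [Finite F] [CharP F 2] (b : BTS V R) (hF : ∃ a : F, a ≠ 0 ∧ a ≠ 1)
  (c : Coord V R i j vv w1 w2) (τ : TorD V R i j vv t)
  (hodd : Odd ((normalizer (V : Set G)).relIndex (normalizer (R i : Set G))))
  (hUD : ¬ UU V R j ≤ DD V R)
  {S : Subgroup (HQ (R i))} (I : SylI τ S)

include b hF c τ hodd hUD

/-- `C_M(A) ≤ P` -/
theorem cenA {M : Type u} [AddCommGroup M] [DistribMulAction (HQ (R i)) M] {p : G → M} (m : MZ V R i M p)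
    {x : G} (hx : x ∈ WW V (R i)) (h : ∀ a ∈ AA V R i j, a • p x = p x) : x ∈ UU V R i := by
  by_contra hxU
  obtain ⟨y, hy, hyD⟩ := SetLike.not_le_iff_exists.1 hUD
  have hZU : BTwo.ZZ V R i ≤ UU V R i := zU_le i
  have hyN := U_le_N b.toBT i j hy
  -- `A` centralises `p x`, in `G`
  have h0 : ∀ u ∈ UU V R j, u * x * u⁻¹ * x⁻¹ ∈ BTwo.ZZ V R i := by
    intro u hu
    have h1 := h _ ((mem_AA b.toBT).2 ⟨u, hu, rfl⟩)
    have hN := U_le_N b.toBT i j hu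
    rw [m.p_act _ hN _ hx] at h1
    exact (m.p_eq_iff (conj_mem_of_normalizer (normalizer_le_WW V (R i) hN) hx) hx).1 h1
  -- `U i ≤ D Z i`
  have h1 : ∀ u ∈ UU V R i, ∃ d ∈ DD V R, ∃ z ∈ BTwo.ZZ V R i, u = z * d := by
    intro u hu
    obtain ⟨u', hu', h2⟩ := b.surj (Ne.symm c.ne) hx hxU hu
    refine ⟨_, h2, x * u' * x⁻¹ * u'⁻¹, ?_, by group⟩
    have h3 := inv_mem (h0 u' hu')
    rwa [show (u' * x * u'⁻¹ * x⁻¹)⁻¹ = x * u' * x⁻¹ * u'⁻¹ by group] at h3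
  -- `D ≤ V Z i`
  have h2 : ∀ d ∈ DD V R, ∃ v ∈ V, ∃ z ∈ BTwo.ZZ V R i, d = v * z := by
    intro d hd
    obtain ⟨v, hv, h3⟩ := b.cen_DU (i := i) hd fun u hu => by
      obtain ⟨d', hd', z, hz, rfl⟩ := h1 u hu
      have e1 : Commute d z := (z_comm hz (D_le_W V R i hd)).symm
      have e2 : Commute d d' := b.D_comm hd hd'
      exact (e1.mul_right e2).eq
    refine ⟨v⁻¹, inv_mem hv, v * d, ?_, by group⟩
    exact mem_inf.2 ⟨D_le_W V R i h3.1, cen_X_le i h3.2⟩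
  -- `A` centralises `U i / Z i`
  have h3 : ∀ g ∈ UU V R i, y * g * y⁻¹ * g⁻¹ ∈ BTwo.ZZ V R i := by
    intro g hg
    obtain ⟨d, hd, z, hz, rfl⟩ := h1 g hg
    obtain ⟨v, hv, z', hz', rfl⟩ := h2 d hd
    have hZN : BTwo.ZZ V R i ≤ WW V (R i) := inf_le_left
    have k1 : y * (z * (v * z')) * y⁻¹ * (z * (v * z'))⁻¹ =
        (y * z * y⁻¹) * ((y * v * y⁻¹) * (y * z' * y⁻¹) * z'⁻¹ * v⁻¹) * z⁻¹ := by group
    have k2 : y * v * y⁻¹ = v := by
      rw [← mem_centralizer_iff.1 (UU_le_cen j hy) v hv, mul_inv_cancel_right]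
    have k3 : y * z * y⁻¹ ∈ BTwo.ZZ V R i := conj_mem_of_normalizer (LemNS.N_le_NZ i hyN) hz
    have k4 : y * z' * y⁻¹ ∈ BTwo.ZZ V R i := conj_mem_of_normalizer (LemNS.N_le_NZ i hyN) hz'
    rw [k1, k2]
    have k5 := z_comm (mul_mem k4 (inv_mem hz')) (V_le_WW V (R i) (inv_mem hv))
    have k6 : v * (y * z' * y⁻¹) * z'⁻¹ * v⁻¹ = (y * z' * y⁻¹) * z'⁻¹ := by
      calc v * (y * z' * y⁻¹) * z'⁻¹ * v⁻¹ = v * (((y * z' * y⁻¹) * z'⁻¹) * v⁻¹) := by group
        _ = v * (v⁻¹ * ((y * z' * y⁻¹) * z'⁻¹)) := by rw [k5]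
        _ = _ := by group
    rw [k6]
    exact mul_mem (mul_mem k3 (mul_mem k4 (inv_mem hz'))) (inv_mem hz)
  -- `A` centralises `W i / Z i`
  have h4 : ∀ w ∈ WW V (R i), ∀ a ∈ AA V R i j, a • p w = p w := by
    intro w hw a ha
    obtain ⟨s, hs⟩ := c.W1_act x hx
    obtain ⟨s', hs'⟩ := c.W1_act w hw
    have hs0 : s ≠ 0 := by
      rintro rfl
      apply hxU
      refine mem_inf.2 ⟨hx, mem_centralizer_iff.2 fun v hv => ?_⟩
      obtain ⟨β, γ, rfl⟩ := (c.mem_V v).1 hv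
      have h5 := hs β γ
      rw [zero_mul, add_zero, mul_inv_eq_iff_eq_mul] at h5
      exact h5.symm
    -- `A` is trivial on `p g` for `g ∈ U i`
    have hU : ∀ g ∈ UU V R i, ∀ a ∈ AA V R i j, a • p g = p g := by
      have _ := h3
      intro g hg a ha
      obtain ⟨d, hd, z, hz, rfl⟩ := h1 g hg
      obtain ⟨v, hv, z', hz', rfl⟩ := h2 d hd
      have hvW := V_le_WW V (R i) hv
      have e1 : p (z * (v * z')) = p v := by
        rw [m.p_mul _ hz.1 _ (mul_mem hvW hz'.1), m.p_mul _ hvW _ hz'.1, (m.p_ker _ hz.1).2 hz,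
          (m.p_ker _ hz'.1).2 hz', zero_add, add_zero]
      obtain ⟨u, hu, rfl⟩ := (mem_AA b.toBT).1 ha
      rw [e1, m.p_act _ (U_le_N b.toBT i j hu) _ hvW, ← mem_centralizer_iff.1 (UU_le_cen j hu) v hv,
        mul_inv_cancel_right]
    by_cases h5 : s' = 0
    · apply hU _ _ a ha
      refine mem_inf.2 ⟨hw, mem_centralizer_iff.2 fun v hv => ?_⟩
      obtain ⟨β, γ, rfl⟩ := (c.mem_V v).1 hv
      have h6 := hs' β γ
      rw [h5, zero_mul, add_zero, mul_inv_eq_iff_eq_mul] at h6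
      exact h6.symm
    · obtain ⟨α, hα⟩ := FiniteField.isSquare_of_char_two (ringChar.eq F 2) (s' / s)
      have hα0 : α ≠ 0 := by
        rintro rfl
        rw [mul_zero, div_eq_zero_iff] at hα
        exact hα.elim h5 hs0
      have hTN := τ.normR hα0
      set g := t α * x * (t α)⁻¹ with hg
      have hgW : g ∈ WW V (R i) := conj_mem_of_normalizer (normalizer_le_WW V (R i) hTN) hx
      have hgw : g⁻¹ * w ∈ UU V R i := by
        refine mem_inf.2 ⟨mul_mem (inv_mem hgW) hw, mem_centralizer_iff.2 fun v hv => ?_⟩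
        obtain ⟨β, γ, rfl⟩ := (c.mem_V v).1 hv
        have k1 : ∀ β γ, g * vv β γ * g⁻¹ = vv (β + s' * γ) γ := by
          intro β γ
          have e1 : g * vv β γ * g⁻¹ = t α * (x * ((t α)⁻¹ * vv β γ * t α) * x⁻¹) * (t α)⁻¹ := by
            rw [hg]; group
          rw [e1, LemNS.t_act_inv τ hα0, hs, τ.act _ _ _ hα0]
          congr 1
          · have e2 : s' = α * α * s := by rw [← hα, div_mul_cancel₀ _ hs0]
            rw [e2]
            field_simp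
          · field_simp
        have k2 : w * vv β γ * w⁻¹ = g * vv β γ * g⁻¹ := by rw [hs', k1]
        calc vv β γ * (g⁻¹ * w) = g⁻¹ * (g * vv β γ * g⁻¹) * w := by group
          _ = g⁻¹ * (w * vv β γ * w⁻¹) * w := by rw [k2]
          _ = g⁻¹ * w * vv β γ := by group
      have e3 : w = g * (g⁻¹ * w) := by group
      have hgt : p g = pr (R i) ⟨t α, hTN⟩ • p x := (m.p_act _ hTN _ hx).symm
      have hta : (pr (R i) ⟨t α, hTN⟩)⁻¹ * a * pr (R i) ⟨t α, hTN⟩ ∈ AA V R i j := by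
        have h6 := TA_mem b.toBT τ (inv_mem ((mem_TT τ).2 ⟨α, hα0, rfl⟩)) ha
        rwa [inv_inv] at h6
      rw [e3, m.p_mul _ hgW _ (mul_mem (inv_mem hgW) hw), smul_add, hU _ hgw a ha, hgt]
      congr 1
      have h7 := h _ hta
      rw [mul_smul, mul_smul, inv_smul_eq_iff] at h7
      exact h7
  apply hyD
  refine LemNS.faithful b hF c τ hodd hy fun w hw => ?_
  have h5 := h4 w hw _ ((mem_AA b.toBT).2 ⟨y, hy, rfl⟩)
  rw [m.p_act _ hyN _ hw] at h5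
  have h6 := inv_mem ((m.p_eq_iff (conj_mem_of_normalizer (normalizer_le_WW V (R i) hyN) hw) hw).1 h5)
  rwa [show (y * w * y⁻¹ * w⁻¹)⁻¹ = w * y * w⁻¹ * y⁻¹ by group] at h6

/-- `t a` acts fixed-point-freely on `W i / D Z i` -/
theorem tfix {M : Type u} [AddCommGroup M] [DistribMulAction (HQ (R i)) M] {p : G → M} (m : MZ V R i M p)
    {a : F} (ha : a ≠ 0) (ha1 : a ≠ 1) {x : M} (h : pr (R i) ⟨t a, τ.normR ha⟩ • x = x) : x ∈ m.sb (DD V R) := by
  have htwo := TorD.two b.toBT τ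
  have hac : a + 1 ≠ 0 := by
    intro h0
    apply ha1
    exact add_right_cancel (h0.trans (htwo 1).symm)
  obtain ⟨w, hw, rfl⟩ := m.p_surj x
  have hZU : BTwo.ZZ V R i ≤ UU V R i := zU_le i
  have hN := τ.normR ha
  have hN' := τ.normR hac
  have hW := conj_mem_of_normalizer (normalizer_le_WW V (R i) hN) hw
  rw [m.p_act _ hN _ hw, m.p_eq_iff hW hw] at h
  set z := t a * w * (t a)⁻¹ * w⁻¹ with hz
  have e1 : t a * w * (t a)⁻¹ = z * w := by rw [hz]; group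
  have hsq : w * w ∈ BTwo.ZZ V R i := b.R_le_Z i (b.W_sq i hw)
  have hUt : ∀ g, t (a + 1) * g * (t (a + 1))⁻¹ ∈ UU V R i → g ∈ UU V R i := by
    intro g hg
    have h1 : cj (t (a + 1)) (UU V R i) = UU V R i :=
      b.cj_UU (b.X_le_NV (τ.memX _ hac)) (cj_eq_self_iff.2 hN')
    rw [← h1, mem_cj] at hg
    rwa [show (t (a + 1))⁻¹ * (t (a + 1) * g * (t (a + 1))⁻¹) * t (a + 1) = g by group] at hg
  -- `w ∈ U i`
  have hwU : w ∈ UU V R i := by
    apply hUt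
    have h1 := τ.wW a 1 ha one_ne_zero hac w hw
    rw [τ.one, inv_one, one_mul, mul_one, e1] at h1
    have h2 : z * w * w ∈ UU V R i := by rw [mul_assoc]; exact mul_mem (hZU h) (hZU hsq)
    have h3 := mul_mem h1 h2
    rwa [inv_mul_cancel_right] at h3
  -- `w ∈ D Z i`
  have h1 := τ.wU a 1 ha one_ne_zero hac w hwU
  rw [τ.one, inv_one, one_mul, mul_one, e1] at h1
  set d := t (a + 1) * w * (t (a + 1))⁻¹ * (z * w * w)⁻¹ with hd
  have h2 : z * w * w ∈ BTwo.ZZ V R i := by rw [mul_assoc]; exact mul_mem h hsq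
  have e2 : w = ((t (a + 1))⁻¹ * d * t (a + 1)) * ((t (a + 1))⁻¹ * (z * w * w) * t (a + 1)) := by
    rw [hd]; group
  have h3 : (t (a + 1))⁻¹ * d * t (a + 1) ∈ DD V R :=
    conj_inv_mem_of_normalizer (b.NV_le_ND (b.X_le_NV (τ.memX _ hac))) h1
  have h4 : (t (a + 1))⁻¹ * (z * w * w) * t (a + 1) ∈ BTwo.ZZ V R i :=
    conj_inv_mem_of_normalizer (LemNS.N_le_NZ i hN') h2
  refine ⟨_, h3, D_le_W V R i h3, ?_⟩
  conv_rhs => rw [e2]
  rw [m.p_mul _ (D_le_W V R i h3) _ h4.1, (m.p_ker _ h4.1).2 h4, add_zero]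

/-- **LEMMA E0**: a component `K ≤ H⁰` of even order centralised by `A` is contained in `N₀` -/
theorem comp_le_N0 {K : Subgroup (HQ (R i))} (hK : IsComponent K) (hK0 : K ≤ H0 R i)
    (h2 : 2 ∣ Nat.card K) (hKA : ∀ a ∈ AA V R i j, ∀ x ∈ K, a * x = x * a) {S : Subgroup (HQ (R i))}
    (I : SylI τ S) : K ≤ KN V R i := by
  obtain ⟨M, _, _, p, m⟩ := exists_MZ (V := V) (R := R) b.toBT i
  obtain ⟨md, f, e, ω, σ, κ, q⟩ := m.exists_fq hF b.toBT c τ
  obtain ⟨a, ha, ha1⟩ := hF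
  have hF : ∃ a : F, a ≠ 0 ∧ a ≠ 1 := ⟨a, ha, ha1⟩
  have hTN := τ.normR ha
  set x₀ := pr (R i) ⟨t a, hTN⟩ with hx₀
  have hx₀T : x₀ ∈ TT τ := (mem_TT τ).2 ⟨a, ha, rfl⟩
  -- elements of `S ⊓ K`
  have hcenS : ∀ s ∈ S, s ∈ K → (∀ y ∈ K, s * y = y * s) → s = 1 := fun s hs hsK h =>
    two_cen hK I.S2 hs hsK h
  obtain ⟨s₀, hs₀S, hs₀K, hs₀1⟩ := S_inf_ne I hK hK0 h2
  -- `T` normalises `K`
  have hTK : ∀ k ∈ K, x₀ * k * x₀⁻¹ ∈ K := by
    rcases (LemmaT.comp_of_isComponent hK (pCore_HQ (R i))).conj x₀ with h | h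
    · exact fun k hk => (h k).1 hk
    · exfalso
      apply hs₀1
      refine hcenS _ hs₀S hs₀K fun y hy => ?_
      have h1 := I.ST x₀ hx₀T s₀ hs₀S
      have c1 : Commute (x₀ * s₀ * x₀⁻¹) y := (h y hy s₀ hs₀K).symm
      have c2 : Commute (s₀⁻¹ * (x₀ * s₀ * x₀⁻¹)) y := hKA _ h1 y hy
      have e1 : s₀ = (x₀ * s₀ * x₀⁻¹) * (s₀⁻¹ * (x₀ * s₀ * x₀⁻¹))⁻¹ := by group
      rw [e1]
      exact (c1.mul_left c2.inv_left).eq
  -- `[S ⊓ K, T] = 1`
  have hSt : ∀ s ∈ S ⊓ K, x₀ * s = s * x₀ := by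
    rintro s ⟨hs, hsK⟩
    have h1 := I.ST x₀ hx₀T s hs
    have h3 : s⁻¹ * (x₀ * s * x₀⁻¹) ∈ K := mul_mem (inv_mem hsK) (hTK s hsK)
    have h4 := hcenS _ (I.AS h1) h3 fun y hy => hKA _ h1 y hy
    rw [inv_mul_eq_one, eq_mul_inv_iff_mul_eq] at h4
    exact h4.symm
  have hfH : ∀ h ∈ H0 R i, ∀ x y : M, f (h • x) (h • y) = f x y := fun h hh x y => q.H0_isom c hh x y
  let f' : M →+ M →+ F := AddMonoidHom.mk' (fun x => (f x).toAddMonoidHom) (by
    intro x y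
    apply AddMonoidHom.ext
    intro z
    change f (x + y) z = f x z + f y z
    rw [map_add, LinearMap.add_apply])
  have hf' : ∀ x y, f' x y = f x y := fun _ _ => rfl
  have hZU : BTwo.ZZ V R i ≤ UU V R i := zU_le i
  have hVe : ∀ x, x ∈ m.sb V ↔ ∃ γ, x = e γ := by
    intro x
    constructor
    · rintro ⟨z, hz, hzW, rfl⟩
      obtain ⟨β, γ, rfl⟩ := (c.mem_V z).1 hz
      exact ⟨γ, q.e_eq β γ⟩
    · rintro ⟨γ, rfl⟩
      rw [← q.e_eq 0 γ]
      exact m.p_mem (V_le_WW V (R i) (c.v_mem 0 γ)) (c.v_mem 0 γ)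
  have hP : ∀ x, x ∈ m.sb (UU V R i) ↔ ω x = 0 := by
    intro x
    obtain ⟨g, hg, rfl⟩ := m.p_surj x
    rw [q.mem_P c hg, m.p_mem_iff hg hZU]
  have hAu : ∀ a ∈ AA V R i j, ∃ (u : G) (hu : u ∈ UU V R j), pr (R i) ⟨u, U_le_N b.toBT i j hu⟩ = a :=
    fun a ha => (mem_AA b.toBT).1 ha
  have hAH0 : AA V R i j ≤ H0 R i := Layer.A_le_H0 b.toBT
  have d : Dat (AA V R i j) (S ⊓ K) K x₀ (orderOf (t a)) (m.sb V) (m.sb (DD V R)) (m.sb (UU V R i)) f' :=
    { two := m.two b.toBT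
      symm := fun x y => q.symm x y
      nd := fun x h => q.nd x h
      eD := m.sb_mono (V_le_D V R)
      DP := m.sb_mono (b.D_le_U i)
      neTop := by
        refine ⟨p (w1 1), ?_⟩
        rw [hP, q.ω_w1 c]
        exact one_ne_zero
      perp := by
        intro x
        rw [hP]
        constructor
        · intro hx y hy
          obtain ⟨γ, rfl⟩ := (hVe y).1 hy
          rw [hf', q.fe, hx, zero_mul]
        · intro h
          have h1 := h (e 1) ((hVe _).2 ⟨1, rfl⟩)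
          rwa [hf', q.fe, mul_one] at h1
      surj := by
        intro y hy x hx
        obtain ⟨w, hw, rfl⟩ := m.p_surj y
        rw [m.p_mem_iff hw hZU] at hy
        obtain ⟨u, hu, huW, rfl⟩ := hx
        obtain ⟨u', hu', h1⟩ := b.surj (Ne.symm c.ne) hw hy (inv_mem hu)
        have hN := U_le_N b.toBT i j hu'
        refine ⟨pr (R i) ⟨u', hN⟩, (mem_AA b.toBT).2 ⟨u', hu', rfl⟩, ?_⟩
        have hcW := MZ.comm_mem_W (V := V) hN hw
        rw [m.smul_sub hN hw, ← neg_sub, sub_eq_add_neg, ← m.p_inv huW, ← m.p_mul _ hcW _ (inv_mem huW)]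
        refine neg_mem (m.p_mem (mul_mem hcW (inv_mem huW)) ?_)
        have e1 : (u' * w * u'⁻¹ * w⁻¹) * u⁻¹ = (w * u' * w⁻¹ * u'⁻¹)⁻¹ * u⁻¹ := by group
        rw [e1]
        exact h1
      A2 := by
        rintro a' ha' _ ⟨u, hu, huW, rfl⟩
        obtain ⟨u', hu', rfl⟩ := hAu a' ha'
        have hN := U_le_N b.toBT i j hu'
        rw [m.smul_sub hN huW]
        exact m.p_mem (MZ.comm_mem_W (V := V) hN huW) (b.UU_comm (Ne.symm c.ne) hu' hu)
      A3 := by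
        rintro a' ha' _ ⟨u, hu, huW, rfl⟩
        obtain ⟨u', hu', rfl⟩ := hAu a' ha'
        have hN := U_le_N b.toBT i j hu'
        rw [m.smul_sub hN huW]
        refine m.p_mem (MZ.comm_mem_W (V := V) hN huW) ?_
        have h1 := inv_mem (b.DU hu hu')
        rw [show (u * u' * u⁻¹ * u'⁻¹)⁻¹ = u' * u * u'⁻¹ * u⁻¹ by group] at h1
        exact b.R_le j h1
      A4 := by
        rintro a' ha' _ ⟨u, hu, huW, rfl⟩
        obtain ⟨u', hu', rfl⟩ := hAu a' ha'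
        rw [m.p_act _ (U_le_N b.toBT i j hu') _ huW, ← mem_centralizer_iff.1 (UU_le_cen j hu') u hu,
          mul_inv_cancel_right]
      cenA := by
        intro x h
        obtain ⟨w, hw, rfl⟩ := m.p_surj x
        exact m.p_mem hw (cenA b hF c τ hodd hUD m hw h)
      ker0 := by
        rintro _ ⟨d, hd, hdW, rfl⟩ h
        have h1 : ∀ u ∈ UU V R j, d * u = u * d := by
          intro u hu
          have hN := U_le_N b.toBT i j hu
          have h1 := h _ ((mem_AA b.toBT).2 ⟨u, hu, rfl⟩)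
          rw [m.p_act _ hN _ hdW, m.p_eq_iff (conj_mem_of_normalizer (normalizer_le_WW V (R i) hN) hdW) hdW] at h1
          have h2 := inv_mem (b.DU hd hu)
          rw [show (d * u * d⁻¹ * u⁻¹)⁻¹ = u * d * u⁻¹ * d⁻¹ by group] at h2
          have h3 := b.cen_VW (b.R_le j h2) h1.2
          have h4 := b.eq_one c.ne h3 h2
          rw [mul_inv_eq_one, mul_inv_eq_iff_eq_mul] at h4
          exact h4.symm
        obtain ⟨v, hv, h2⟩ := b.cen_DU hd h1
        refine ⟨v⁻¹, inv_mem hv, V_le_WW V (R i) (inv_mem hv), ?_⟩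
        rw [m.p_eq_iff (V_le_WW V (R i) (inv_mem hv)) hdW]
        have h3 : v⁻¹ * d⁻¹ = (v * d)⁻¹ := by
          rw [mul_inv_rev, mem_centralizer_iff.1 (b.D_le_cen (inv_mem hd)) _ (inv_mem hv)]
        rw [h3]
        exact inv_mem (mem_inf.2 ⟨D_le_W V R i h2.1, cen_X_le i h2.2⟩)
      fA := fun a' ha' x y => hfH _ (hAH0 ha') x y
      odd := τ.odd a ha
      tn := by
        rw [hx₀, ← map_pow]
        have e1 : (⟨t a, hTN⟩ : ↥(normalizer (R i : Set G))) ^ orderOf (t a) = 1 :=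
          Subtype.ext (pow_orderOf_eq_one (t a))
        rw [e1, map_one]
      te := by
        intro y hy
        exact m.sb_smul hTN (b.X_le_NV (τ.memX a ha)) hy
      tfix := fun x h => tfix b hF c τ hodd hUD m ha ha1 h
      tfix0 := by
        intro x hx h
        obtain ⟨γ, rfl⟩ := (hVe x).1 hx
        have h1 := q.t_e c τ (Units.mk0 a ha) γ
        have h3 : (a⁻¹ - 1) • e γ = 0 := by
          rw [sub_smul, one_smul, sub_eq_zero]
          exact h1.symm.trans h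
        rcases smul_eq_zero.1 h3 with h4 | h4
        · exfalso
          apply ha1
          rw [← inv_inv a, sub_eq_zero.1 h4, inv_one]
        · exact h4
      tD := by
        rintro _ ⟨d, hd, hdW, rfl⟩
        rw [m.smul_sub hTN hdW]
        exact m.p_mem (MZ.comm_mem_W (V := V) hTN hdW) (b.XD (τ.memX a ha) hd)
      tf := by
        intro x y h
        have h1 := q.t_f c τ (Units.mk0 a ha) x y
        rw [hf'] at h ⊢
        rw [h, mul_zero] at h1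
        exact h1
      SK := inf_le_right
      St := hSt
      Se := by
        rintro s ⟨hs, -⟩ _ ⟨v, hv, hvW, rfl⟩
        obtain ⟨g, hg, hgV, rfl⟩ := I.rep s hs
        rw [m.p_act _ hg _ hvW, ← mem_centralizer_iff.1 hgV v hv, mul_inv_cancel_right]
      SD := by
        rintro s ⟨hs, -⟩ x hx
        obtain ⟨g, hg, hgV, rfl⟩ := I.rep s hs
        exact m.sb_smul hg (b.NV_le_ND (cen_le_NV V hgV)) hx
      fK := fun k hk x y => hfH k (hK0 hk) x y
      KA := fun k hk a' ha' => (hKA a' ha' k hk).symm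
      tK := hTK
      gen := by
        intro L hSL hLK hn
        refine le_antisymm hLK (comp_le hK hn (hSL ⟨hs₀S, hs₀K⟩) hs₀K fun h => hs₀1 (hcenS _ hs₀S hs₀K h))
      perf := comp_perf hK }
  intro k hk
  obtain ⟨g, hg, hgC, rfl⟩ := mem_im.1 (hK0 hk)
  unfold KN
  refine mem_im.2 ⟨g, hg, mem_inf.2 ⟨hgC, LemNS.N_le_NZ i hg, fun w hw => ?_⟩, rfl⟩
  have h1 := d.fix hk (p w)
  rw [m.p_act _ hg _ hw] at h1
  exact (m.p_eq_iff (conj_mem_of_normalizer (normalizer_le_WW V (R i) hg) hw) hw).1 h1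

end main

/-! ### `E = ⟨A^H⟩` -/

/-- the components in `H⁰` met by `A` -/
def Met (V : Subgroup G) (R : ι → Subgroup G) (i j : ι) (K : Subgroup (HQ (R i))) : Prop :=
  Cps (H0 R i) K ∧ AA V R i j ⊓ K ≠ ⊥

theorem Met.exists {K : Subgroup (HQ (R i))} (h : Met V R i j K) : ∃ x ∈ AA V R i j, x ∈ K ∧ x ≠ 1 := by
  obtain ⟨x, hx1⟩ := (Subgroup.ne_bot_iff_exists_ne_one).1 h.2
  exact ⟨x, x.2.1, x.2.2, fun h => hx1 (Subtype.ext h)⟩

theorem Met.of_mem {K : Subgroup (HQ (R i))} (hK : Cps (H0 R i) K) {x : HQ (R i)} (hxA : x ∈ AA V R i j)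
    (hxK : x ∈ K) (hx1 : x ≠ 1) : Met V R i j K := by
  refine ⟨hK, fun h => hx1 ?_⟩
  have h1 : x ∈ AA V R i j ⊓ K := ⟨hxA, hxK⟩
  rw [h] at h1
  exact mem_bot.1 h1

theorem Met.two_dvd [Finite G] (b : BT V R) (hij : i ≠ j) {K : Subgroup (HQ (R i))} (h : Met V R i j K) :
    2 ∣ Nat.card K := by
  obtain ⟨x, hxA, hxK, hx1⟩ := h.exists
  have h1 : orderOf (⟨x, hxK⟩ : K) = 2 := by
    refine orderOf_eq_prime ?_ fun h => hx1 (congrArg Subtype.val h)
    rw [pow_two]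
    exact Subtype.ext (A_sq b hij hxA)
  have h2 := orderOf_dvd_natCard (⟨x, hxK⟩ : K)
  rwa [h1] at h2

/-- a component not met by `A` is centralised by `A` -/
theorem comm_of_not_met (hinn : InnC V R i j) {K : Subgroup (HQ (R i))} (hK : Cps (H0 R i) K)
    (h : ¬ Met V R i j K) : ∀ a ∈ AA V R i j, ∀ x ∈ K, a * x = x * a := by
  intro a ha x hx
  obtain ⟨d, hd, hact⟩ := hinn K hK.1 hK.2 a ha
  have h1 : d = 1 := by
    by_contra hne
    exact h (Met.of_mem hK hd.1 hd.2 hne)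
  subst h1
  have h2 := hact x hx
  rw [one_mul, inv_one, mul_one, mul_inv_eq_iff_eq_mul] at h2
  exact h2

/-- an element `≠ 1` of `A ∩ K` is not central in `K` -/
theorem Met.not_cen [Finite G] (b : BT V R) (hij : i ≠ j) {K : Subgroup (HQ (R i))} (h : Met V R i j K) :
    ∃ x ∈ AA V R i j, x ∈ K ∧ ¬ ∀ y ∈ K, x * y = y * x := by
  obtain ⟨x, hxA, hxK, hx1⟩ := h.exists
  refine ⟨x, hxA, hxK, fun hc => hx1 ?_⟩
  refine two_cen (P := AA V R i j) h.1.1 ?_ hxA hxK hc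
  intro y
  refine ⟨1, Subtype.ext ?_⟩
  change (y : HQ (R i)) ^ 2 ^ 1 = 1
  rw [pow_one, pow_two]
  exact A_sq b hij y.2

section E

variable [Finite G] [Finite F] [CharP F 2] (b : BTS V R) (hF : ∃ a : F, a ≠ 0 ∧ a ≠ 1)
  (c : Coord V R i j vv w1 w2) (τ : TorD V R i j vv t)
  (hodd : Odd ((normalizer (V : Set G)).relIndex (normalizer (R i : Set G))))
  (hUD : ¬ UU V R j ≤ DD V R)
  {S : Subgroup (HQ (R i))} (I : SylI τ S) (hinn : InnC V R i j)

include b hF c τ hodd hUD I hinn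

/-- a conjugate of a component met by `A` is met by `A` -/
theorem Met.conj {K : Subgroup (HQ (R i))} (h : Met V R i j K) (g : HQ (R i)) :
    Met V R i j (K.map (MulAut.conj g).toMonoidHom) := by
  have hH0 : (H0 R i).Normal := Layer.H0_normal R i
  have hK' : Cps (H0 R i) (K.map (MulAut.conj g).toMonoidHom) := by
    refine ⟨SignalizersComponents.Components.isComponent_conj g h.1.1, ?_⟩
    rintro _ ⟨x, hx, rfl⟩
    exact hH0.conj_mem x (h.1.2 hx) g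
  by_contra hn
  have h2 : 2 ∣ Nat.card (K.map (MulAut.conj g).toMonoidHom) := by
    have e : Nat.card (K.map (MulAut.conj g).toMonoidHom) = Nat.card K :=
      Nat.card_congr (K.equivMapOfInjective _ (MulAut.conj g).injective).toEquiv.symm
    rw [e]
    exact h.two_dvd b.toBT c.ne
  have h3 := comp_le_N0 b hF c τ hodd hUD hK'.1 hK'.2 h2 (comm_of_not_met hinn hK' hn) I
  obtain ⟨x, hxA, hxK, hx1⟩ := h.exists
  apply hx1
  refine AA_inf_KN b hF c τ hodd hxA ?_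
  have h4 : g * x * g⁻¹ ∈ KN V R i := h3 ⟨x, hxK, rfl⟩
  have h5 := (KN_normal V R i).conj_mem _ h4 g⁻¹
  rwa [show g⁻¹ * (g * x * g⁻¹) * g⁻¹⁻¹ = x by group] at h5

/-- **`⟨A^H⟩` is the product of the components met by `A`** -/
theorem E_eq (hoddC : OddC V R i j) : normalClosure (AA V R i j : Set (HQ (R i))) =
    ⨆ K ∈ {K : Subgroup (HQ (R i)) | Met V R i j K}, K := by
  apply le_antisymm
  · have hn : (⨆ K ∈ {K : Subgroup (HQ (R i)) | Met V R i j K}, K).Normal := by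
      refine ⟨fun x hx g => ?_⟩
      have h1 : (⨆ K ∈ {K : Subgroup (HQ (R i)) | Met V R i j K}, K) ≤
          (⨆ K ∈ {K : Subgroup (HQ (R i)) | Met V R i j K}, K).comap (MulAut.conj g).toMonoidHom := by
        refine iSup₂_le fun K hK => ?_
        rw [← map_le_iff_le_comap]
        exact le_iSup₂ (f := fun (K : Subgroup (HQ (R i))) (_ : K ∈ {K | Met V R i j K}) => K) _
          (Met.conj b hF c τ hodd hUD I hinn hK g)
      exact h1 hx
    refine normalClosure_le_normal fun a ha => ?_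
    have h1 := Layer.A_le_iSup b.toBT c.ne hoddC hinn ha
    have h2 : (⨆ K ∈ {K : Subgroup (HQ (R i)) | Cps (H0 R i) K}, AA V R i j ⊓ K) ≤
        ⨆ K ∈ {K : Subgroup (HQ (R i)) | Met V R i j K}, K := by
      refine iSup₂_le fun K hK => ?_
      by_cases h : AA V R i j ⊓ K = ⊥
      · rw [h]; exact bot_le
      · exact inf_le_right.trans (le_iSup₂
          (f := fun (K : Subgroup (HQ (R i))) (_ : K ∈ {K | Met V R i j K}) => K) K ⟨hK, h⟩)
    exact h2 h1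
  · refine iSup₂_le fun K hK => ?_
    exact Layer.le_normalClosure (pCore_HQ (R i)) (fun a ha => A_sq b.toBT c.ne ha) hK.1.1 hK.2

theorem met_le_E (hoddC : OddC V R i j) {K : Subgroup (HQ (R i))} (hK : Met V R i j K) :
    K ≤ normalClosure (AA V R i j : Set (HQ (R i))) := by
  rw [E_eq b hF c τ hodd hUD I hinn hoddC]
  exact le_iSup₂ (f := fun (K : Subgroup (HQ (R i))) (_ : K ∈ {K | Met V R i j K}) => K) K hK

/-- **`E = ⟨A^E⟩`** -/
theorem E_gen (hoddC : OddC V R i j) {L : Subgroup (HQ (R i))} (hAL : AA V R i j ≤ L)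
    (hn : ∀ g ∈ normalClosure (AA V R i j : Set (HQ (R i))), ∀ l ∈ L, g * l * g⁻¹ ∈ L) :
    normalClosure (AA V R i j : Set (HQ (R i))) ≤ L := by
  rw [E_eq b hF c τ hodd hUD I hinn hoddC]
  refine iSup₂_le fun K hK => ?_
  obtain ⟨x, hxA, hxK, hx⟩ := Met.not_cen b.toBT c.ne hK
  exact comp_le hK.1.1 (fun g hg l hl => hn g (met_le_E b hF c τ hodd hUD I hinn hoddC hK hg) l hl)
    (hAL hxA) hxK hx

/-- `E` is perfect -/
theorem E_perf (hoddC : OddC V R i j) :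
    ⁅normalClosure (AA V R i j : Set (HQ (R i))), normalClosure (AA V R i j : Set (HQ (R i)))⁆ =
      normalClosure (AA V R i j : Set (HQ (R i))) := by
  apply le_antisymm
  · exact commutator_le_left _ _
  · conv_lhs => rw [E_eq b hF c τ hodd hUD I hinn hoddC]
    refine iSup₂_le fun K hK => ?_
    have h1 := met_le_E b hF c τ hodd hUD I hinn hoddC hK
    calc K = ⁅K, K⁆ := (comp_perf hK.1.1).symm
      _ ≤ _ := commutator_mono h1 h1

end E

end Cfsg.Agent.Omega.HOneQ.ECen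

end

section


/-!
# `SylI` from a 2-subgroup `T₁` of `N(V) ∩ N(R i)` which is Sylow in `N(R i)` (no Sylow group of `G`)

`TSyl V R i T₁` : `T₁` is a 2-subgroup of `N(V) ∩ N(R i)` of odd index in `N(R i)`.  `sylI_of` : then
`SS R i T₁ = (T₁ ∩ C(R i))/O₂(N(R i))` satisfies `ECen.SylI`.  Also `QQ_le`, `W_le`, `Y_le`, `exists_P`.
-/

set_option autoImplicit false
set_option linter.unusedSectionVars false

namespace Cfsg.Agent.Omega.HOneQ.SylIOf

open Subgroup Cfsg Cfsg.Agent.Omega.BTwo Cfsg.Agent.Omega.Lie Cfsg.Agent.Omega.Lie.Quot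
open Cfsg.Agent.Omega.HOneQ.ECen (SylI)

universe u v w

variable {G : Type u} [Group G] {ι : Type w} {V : Subgroup G} {R : ι → Subgroup G} {i j : ι}
  {F : Type v} [Field F] {vv : F → F → G} {w1 w2 t : F → G} {T₁ : Subgroup G}

/-- `T₁` is a 2-subgroup of `N(V) ∩ N(R i)` of odd index in `N(R i)` -/
structure TSyl (V : Subgroup G) (R : ι → Subgroup G) (i : ι) (T₁ : Subgroup G) : Prop where
  p2 : IsPGroup 2 T₁
  leV : T₁ ≤ normalizer (V : Set G)
  leR : T₁ ≤ normalizer (R i : Set G)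
  odd : Odd (T₁.relIndex (normalizer (R i : Set G)))

theorem TSyl.of_sylow [Finite G] (S₁ : Sylow 2 G) (hV : (S₁ : Subgroup G) ≤ normalizer (V : Set G))
    (hR : (S₁ : Subgroup G) ≤ normalizer (R i : Set G)) : TSyl V R i (S₁ : Subgroup G) where
  p2 := S₁.isPGroup'
  leV := hV
  leR := hR
  odd := by
    have hf : Fact (Nat.Prime 2) := ⟨Nat.prime_two⟩
    have h1 := (S₁.subtype hR).not_dvd_index
    rw [← even_iff_two_dvd, Nat.not_even_iff_odd] at h1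
    exact h1

namespace TSyl

variable (h : TSyl V R i T₁)
include h

/-- `T₁` as a Sylow 2-subgroup of `N(R i)` -/
theorem exists_sylow [Finite G] : ∃ P : Sylow 2 (normalizer (R i : Set G)),
    (P : Subgroup (normalizer (R i : Set G))) = T₁.subgroupOf (normalizer (R i : Set G)) := by
  have hf : Fact (Nat.Prime 2) := ⟨Nat.prime_two⟩
  have h1 : IsPGroup 2 (T₁.subgroupOf (normalizer (R i : Set G))) :=
    h.p2.comap_of_injective _ (Subgroup.subtype_injective _)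
  have h2 : ¬ 2 ∣ (T₁.subgroupOf (normalizer (R i : Set G))).index := by
    rw [← even_iff_two_dvd, Nat.not_even_iff_odd]
    exact h.odd
  exact ⟨h1.toSylow h2, rfl⟩

theorem QQ_le [Finite G] : QQ (R i) ≤ T₁ := by
  obtain ⟨P, hP⟩ := h.exists_sylow
  rintro _ ⟨x, hx, rfl⟩
  have h1 : x ∈ (P : Subgroup (normalizer (R i : Set G))) := Lib.Cores.pCore_le_sylow P hx
  rw [hP] at h1
  exact h1

theorem W_le [Finite G] (b : BT V R) : WW V (R i) ≤ T₁ := (b.W_le_Q i).trans h.QQ_le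

/-- a 2-subgroup of `N(R i)` containing `T₁` is `T₁` -/
theorem eq_of_le [Finite G] {Q : Subgroup G} (hQ : Q ≤ normalizer (R i : Set G)) (h2 : IsPGroup 2 Q)
    (hle : T₁ ≤ Q) : Q ≤ T₁ := by
  obtain ⟨P, hP⟩ := h.exists_sylow
  have h3 := P.is_maximal' (Q := Q.subgroupOf (normalizer (R i : Set G)))
    (h2.comap_of_injective _ (Subgroup.subtype_injective _)) (by
      rw [hP]
      intro x hx
      exact mem_subgroupOf.2 (hle (mem_subgroupOf.1 hx)))
  intro x hx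
  have h4 : (⟨x, hQ hx⟩ : normalizer (R i : Set G)) ∈ Q.subgroupOf (normalizer (R i : Set G)) :=
    mem_subgroupOf.2 hx
  rw [h3, hP] at h4
  exact mem_subgroupOf.1 h4

theorem Y_le [Finite G] (b : BT V R) : YY V R ≤ T₁ := by
  have hN : T₁ ≤ normalizer (YY V R : Set G) := h.leV.trans b.NV_le_NY
  have h1 : IsPGroup 2 (T₁ ⊔ YY V R : Subgroup G) := h.p2.to_sup_of_normal_right' (Y_isPGroup b) hN
  exact le_sup_right.trans (h.eq_of_le (sup_le h.leR (YY_le_cen.trans (b.cen_le_N i))) h1 le_sup_left)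

theorem A_le [Finite G] (b : BT V R) (j : ι) : AA V R i j ≤ SS R i T₁ := by
  refine im_mono (le_inf ((UU_le_YY j).trans (h.Y_le b)) ?_)
  exact (UU_le_cen j).trans (centralizer_le (b.R_le i))

/-- `T₁ ⊓ C(R i) = (T₁ ⊓ C(V)) W i` -/
theorem S_eq [Finite G] (b : BT V R) (C : Crd V R i j vv w1 w2) :
    T₁ ⊓ centralizer (R i : Set G) = (T₁ ⊓ centralizer (V : Set G)) ⊔ WW V (R i) := by
  have hWR : WW V (R i) ≤ centralizer (R i : Set G) := (b.W_le_Q i).trans (Q_le_C b i)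
  apply le_antisymm
  · intro g hg
    obtain ⟨w, hw, hwg⟩ := cen_fact b C (P := T₁ ⊓ centralizer (R i : Set G))
      (h.p2.to_le inf_le_left) (inf_le_left.trans h.leV) inf_le_right (le_inf (h.W_le b) hWR) hg
    have e : g = w⁻¹ * (w * g) := by group
    rw [e]
    refine mul_mem (mem_sup_right (inv_mem hw)) (mem_sup_left (mem_inf.2 ⟨?_, hwg⟩))
    exact mul_mem (h.W_le b hw) (mem_inf.1 hg).1
  · refine sup_le (inf_le_inf_left _ (centralizer_le (b.R_le i))) (le_inf (h.W_le b) hWR)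

theorem S_eq_im [Finite G] (b : BT V R) (C : Crd V R i j vv w1 w2) :
    SS R i T₁ = im (R i) (T₁ ⊓ centralizer (V : Set G)) := by
  unfold SS
  rw [h.S_eq b C, im_sup (inf_le_right.trans (b.cen_le_N i)) (b.W_le_N i), im_eq_bot (b.W_le_Q i), sup_bot_eq]

theorem ST_mem [Finite G] (b : BT V R) (τ : TorD V R i j vv t) (C : Crd V R i j vv w1 w2) (hij : i ≠ j)
    {x s : HQ (R i)} (hx : x ∈ TT τ) (hs : s ∈ SS R i T₁) : s⁻¹ * (x * s * x⁻¹) ∈ AA V R i j := by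
  obtain ⟨a, ha, rfl⟩ := (mem_TT τ).1 hx
  obtain ⟨g, hg, hgS, rfl⟩ := mem_im.1 hs
  rw [h.S_eq b C] at hgS
  have hle : T₁ ⊓ centralizer (V : Set G) ⊔ WW V (R i) ≤ centralizer (V : Set G) ⊔ WW V (R i) :=
    sup_le (inf_le_right.trans le_sup_left) le_sup_right
  have hgS' : g ∈ centralizer (V : Set G) ⊔ WW V (R i) := hle hgS
  have h1 := comm_X_sup b i (inv_mem hgS') (τ.memX a ha) (τ.normR ha)
  rw [Y_sup_W b hij] at h1
  have htN := τ.normR ha
  have e : (pr (R i) ⟨g, hg⟩)⁻¹ * (pr (R i) ⟨t a, htN⟩ * pr (R i) ⟨g, hg⟩ * (pr (R i) ⟨t a, htN⟩)⁻¹) =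
      pr (R i) ⟨g⁻¹ * t a * g⁻¹⁻¹ * (t a)⁻¹, mul_mem (mul_mem (mul_mem (inv_mem hg) htN) (inv_mem (inv_mem hg)))
        (inv_mem htN)⟩ := by
    have e1 : (⟨g⁻¹ * t a * g⁻¹⁻¹ * (t a)⁻¹, mul_mem (mul_mem (mul_mem (inv_mem hg) htN) (inv_mem (inv_mem hg)))
        (inv_mem htN)⟩ : ↥(normalizer (R i : Set G))) = (⟨g, hg⟩)⁻¹ * (⟨t a, htN⟩ * ⟨g, hg⟩ * (⟨t a, htN⟩)⁻¹) := by
      apply Subtype.ext
      change g⁻¹ * t a * g⁻¹⁻¹ * (t a)⁻¹ = g⁻¹ * (t a * g * (t a)⁻¹)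
      group
    rw [e1]; rfl
  rw [e]
  have h2 : im (R i) (UU V R j ⊔ WW V (R i)) = AA V R i j := by
    rw [im_sup (U_le_N b i j) (b.W_le_N i), im_eq_bot (b.W_le_Q i), sup_bot_eq]
    rfl
  rw [← h2]
  exact pr_mem_im _ h1

/-- the image of `T₁` is a Sylow 2-subgroup of `HQ (R i)` -/
theorem exists_P [Finite G] (b : BT V R) :
    ∃ P : Sylow 2 (HQ (R i)), (P : Subgroup (HQ (R i))) ⊓ H0 R i = SS R i T₁ := by
  have hf : Fact (Nat.Prime 2) := ⟨Nat.prime_two⟩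
  obtain ⟨P₁, hP₁⟩ := h.exists_sylow
  refine ⟨P₁.mapSurjective (pr_surjective (R i)), ?_⟩
  have h1 : ((P₁.mapSurjective (pr_surjective (R i)) : Sylow 2 (HQ (R i))) : Subgroup (HQ (R i))) =
      im (R i) T₁ := by
    change (P₁ : Subgroup (normalizer (R i : Set G))).map (pr (R i)) = im (R i) T₁
    rw [hP₁]
    rfl
  rw [h1]
  exact (im_inf h.QQ_le (Q_le_C b i)).symm

/-- `S ⊓ K` is a Sylow 2-subgroup of every subnormal subgroup `K ≤ H⁰` -/
theorem syl [Finite G] (b : BT V R) {K : Subgroup (HQ (R i))} (hK : K.IsSubnormal)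
    (hK0 : K ≤ H0 R i) {P : Subgroup (HQ (R i))} (hPK : P ≤ K) (hP : IsPGroup 2 P) (hSP : SS R i T₁ ⊓ K ≤ P) :
    P ≤ SS R i T₁ := by
  obtain ⟨P₀, hP₀⟩ := h.exists_P b
  obtain ⟨Q, hQ⟩ := Cfsg.Agent.S0542.result 2 K hK P₀
  have h1 : (Q : Subgroup K) ≤ P.subgroupOf K := by
    rw [hQ]
    intro x hx
    refine mem_subgroupOf.2 (hSP ?_)
    rw [← hP₀]
    exact ⟨⟨mem_subgroupOf.1 hx, hK0 x.2⟩, x.2⟩
  have h2 : P.subgroupOf K = Q := Q.is_maximal' (hP.comap_of_injective _ K.subtype_injective) h1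
  intro x hx
  have h3 : (⟨x, hPK hx⟩ : K) ∈ (Q : Subgroup K) := by
    rw [← h2]
    exact mem_subgroupOf.2 hx
  rw [hQ] at h3
  rw [← hP₀]
  exact ⟨mem_subgroupOf.1 h3, hK0 (hPK hx)⟩

/-- **`SylI`** -/
theorem sylI [Finite G] (b : BT V R) (τ : TorD V R i j vv t) (C : Crd V R i j vv w1 w2) (hij : i ≠ j) :
    SylI τ (SS R i T₁) where
  S2 := im_isPGroup (h.p2.to_le inf_le_left)
  AS := h.A_le b j
  rep s hs := by
    rw [h.S_eq_im b C] at hs
    obtain ⟨g, hg, hgS, e⟩ := mem_im.1 hs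
    exact ⟨g, hg, (mem_inf.1 hgS).2, e⟩
  ST _ hx _ hs := h.ST_mem b τ C hij hx hs
  syl _ hK hK0 _ hPK hP hSP := h.syl b hK hK0 hPK hP hSP

end TSyl

/-- **`SylI`**, structure-free -/
theorem sylI_of [Finite G] (b : BT V R) (τ : TorD V R i j vv t) (C : Crd V R i j vv w1 w2) (hij : i ≠ j)
    (T : Subgroup G) (h2 : IsPGroup 2 T) (hV : T ≤ normalizer (V : Set G)) (hR : T ≤ normalizer (R i : Set G))
    (hodd : Odd (T.relIndex (normalizer (R i : Set G)))) : SylI τ (SS R i T) :=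
  TSyl.sylI ⟨h2, hV, hR, hodd⟩ b τ C hij

end Cfsg.Agent.Omega.HOneQ.SylIOf

end
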