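import Cfsg.Agent.Mrg.Omega.Lie.End.ExcDead
import Cfsg.Agent.Mrg.Omega.Lie.End.OfLay
import Cfsg.Agent.Mrg.Omega.HOneQ.ECen
import Cfsg.Agent.Mrg.Omega.Lie.CubSQ
import Cfsg.Agent.Mrg.Omega.Lie.End.Real
import Cfsg.Agent.Mrg.Omega.IIa4.Lay
import Cfsg.Agent.Mrg.Omega.HOne.SameOf

section


/-!
# II.0h1, SPLIT, `q = 4`: the exception `KExc` of the K-side is dead (`BTS`, `M' = W i / Z(W i)`)

As `Omega/Lie/End/ExcDead.lean` (NODE LIE), whose abstract theorem `core` is applied to `M' = W i / Z(W i)`.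

* `nv_of_normE` : the hypothesis `hNV` from helper407's LEMMA NE;
* `excDead`, `not_kExc`, `not_kExc_lay` : the exception does not occur; `S` is only given by `ECen.SylI τ S`.
-/

set_option autoImplicit false
set_option linter.unusedSectionVars false

namespace Cfsg.Agent.Omega.HOneQ.ExcDead

open Subgroup Cfsg.Agent.Omega.BTwo Cfsg.Agent.Omega.Lie Cfsg.Agent.Omega.Lie.Quot
open Cfsg.Agent.Omega.Lie.End.ExcModel Cfsg.Agent.Omega.Lie.End
open Cfsg.Agent.Omega.HOne.ModZ (MZ exists_MZ Fq)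
open Cfsg.Agent.Omega.HOneQ.ECen (SylI)

universe u v w

/-! ### a `DistribMulAction` as a homomorphism into `MulAut (Multiplicative M)` -/

section act

variable {H : Type*} {M : Type*} [Group H] [AddCommGroup M] [DistribMulAction H M]

/-- the action of `H` on `M`, written multiplicatively -/
def rhoM (H : Type*) (M : Type*) [Group H] [AddCommGroup M] [DistribMulAction H M] :
    H →* MulAut (Multiplicative M) where
  toFun h := AddEquiv.toMultiplicative (DistribMulAction.toAddEquiv M h)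
  map_one' := MulEquiv.ext fun m => one_smul H (Multiplicative.toAdd m)
  map_mul' g h := MulEquiv.ext fun m => mul_smul g h (Multiplicative.toAdd m)

theorem rhoM_apply (h : H) (m : M) : rhoM H M h (Multiplicative.ofAdd m) = Multiplicative.ofAdd (h • m) := rfl

theorem rhoM_eq {h : H} {m : Multiplicative M} :
    rhoM H M h m = m ↔ h • (Multiplicative.toAdd m) = Multiplicative.toAdd m := Iff.rfl

end act

variable {G : Type u} [Group G] {ι : Type w} {V : Subgroup G} {R : ι → Subgroup G} {i j : ι}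
  {F : Type v} [Field F] {vv : F → F → G} {t : F → G} {w1 w2 : F → G}

/-- an element of `N(V) ∩ N(R i)` normalises `A` -/
theorem nrmA (b : BT V R) (hij : i ≠ j) {g : G} (hg : g ∈ normalizer (R i : Set G))
    (hgV : g ∈ normalizer (V : Set G)) {a : HQ (R i)} (ha : a ∈ AA V R i j) :
    pr (R i) ⟨g, hg⟩ * a * (pr (R i) ⟨g, hg⟩)⁻¹ ∈ AA V R i j := by
  obtain ⟨u, hu, rfl⟩ := (mem_AA b).1 ha
  have hy : g * u * g⁻¹ ∈ YY V R := BTwo.conj_mem_of_normalizer (b.NV_le_NY hgV) (UU_le_YY j hu)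
  rw [b.Y_eq hij] at hy
  have h1 : im (R i) (UU V R i ⊔ UU V R j) = AA V R i j := by
    rw [im_sup (U_le_N b i i) (U_le_N b i j), im_eq_bot ((UU_le_WW i).trans (b.W_le_Q i)), bot_sup_eq]
    rfl
  rw [CubQ.pr_conj, ← h1]
  exact pr_mem_im _ hy

/-- the hypothesis `hNV` of `excDead` from LEMMA NE -/
theorem nv_of_normE [Finite G] [Finite F] [CharP F 2] (b : BT V R) (c : Coord V R i j vv w1 w2)
    (τ : TorD V R i j vv t) (hF : ∃ a : F, a ≠ 0 ∧ a ≠ 1)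
    (hodd : Odd ((normalizer (V : Set G)).relIndex (normalizer (R i : Set G))))
    (hd : ∀ z ∈ ZZ V R i, (∀ u ∈ UU V R j, u * z * u⁻¹ * z⁻¹ ∈ R i) →
      ∀ a, a ≠ 0 → t a * z * (t a)⁻¹ * z⁻¹ ∈ R i)
    {g : G} (hg : g ∈ normalizer (R i : Set G)) (h : ∀ x ∈ V, g * x * g⁻¹ * x⁻¹ ∈ ZZ V R i) :
    g ∈ normalizer (V : Set G) := by
  obtain ⟨M, _, _, p, m⟩ := exists_MZ b i
  obtain ⟨_, f, e, ω, σ, κ, q⟩ := m.exists_fq hF b c τ
  refine NormE.normE q b c τ hF hodd hd hg ⟨1, ?_⟩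
  have hV := V_le_WW V (R i) (c.v_mem 0 1)
  rw [← q.e_eq 0 1, m.p_act g hg _ hV,
    m.p_eq_iff (BTwo.conj_mem_of_normalizer (normalizer_le_WW V (R i) hg) hV) hV]
  exact h _ (c.v_mem 0 1)

/-- an element of `C(V)` which commutes with `A` and `T` modulo `O₂(N(R i))` centralises `C_{M'}(T)` -/
theorem fix_real [Finite G] [Finite F] [CharP F 2] (b : BTS V R) (c : Coord V R i j vv w1 w2)
    (hF : ∃ a : F, a ≠ 0 ∧ a ≠ 1) (τ : TorD V R i j vv t)
    {M : Type u} [AddCommGroup M] [DistribMulAction (HQ (R i)) M] {p : G → M} (m : MZ V R i M p)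
    {g : G} (hg : g ∈ normalizer (R i : Set G)) (hgV : g ∈ centralizer (V : Set G))
    (huA : ∀ a ∈ AA V R i j, pr (R i) ⟨g, hg⟩ * a = a * pr (R i) ⟨g, hg⟩)
    (huT : ∀ x ∈ TT τ, x * pr (R i) ⟨g, hg⟩ = pr (R i) ⟨g, hg⟩ * x) {x : M}
    (hxD : x ∈ m.sb (DD V R)) (hm : ∀ y ∈ TT τ, y • x = x) : pr (R i) ⟨g, hg⟩ • x = x := by
  have hij := c.ne
  obtain ⟨d, hd, hdW, rfl⟩ := hxD
  have hgd : g * d * g⁻¹ ∈ DD V R := BTwo.conj_mem_of_normalizer (b.NV_le_ND (cen_le_NV V hgV)) hd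
  have hn : d⁻¹ * (g * d * g⁻¹) ∈ DD V R := mul_mem (inv_mem hd) hgd
  -- `[g, d]` commutes with `U j`
  have hc : ∀ x ∈ UU V R j, d⁻¹ * (g * d * g⁻¹) * x = x * (d⁻¹ * (g * d * g⁻¹)) := by
    intro x hx
    obtain ⟨y, hy⟩ : ∃ y, y = x⁻¹ * (g⁻¹ * x * g) := ⟨_, rfl⟩
    have hx' : g⁻¹ * x * g ∈ UU V R j := by
      have := BTwo.conj_mem_of_normalizer (inv_mem (b.cen_le_NU j hgV)) hx
      rwa [inv_inv] at this
    have hyD : y ∈ DD V R := by
      have hxN := U_le_N b.toBT i j hx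
      have h1 := huA _ ((mem_AA b.toBT).2 ⟨x, hx, rfl⟩)
      have h2 : pr (R i) ⟨x, hxN⟩ = pr (R i) ⟨g⁻¹ * x * g, mul_mem (mul_mem (inv_mem hg) hxN) hg⟩ := by
        have e : pr (R i) ⟨g⁻¹ * x * g, mul_mem (mul_mem (inv_mem hg) hxN) hg⟩ =
          (pr (R i) ⟨g, hg⟩)⁻¹ * pr (R i) ⟨x, hxN⟩ * pr (R i) ⟨g, hg⟩ := rfl
        rw [e, mul_assoc, ← h1, inv_mul_cancel_left]
      rw [hy]
      exact (U_inf_Q b.toBT hij (mul_mem (inv_mem hx) hx')).1 ((pr_eq_pr _ _).1 h2)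
    obtain ⟨r, hr⟩ : ∃ r, r = d * x * d⁻¹ * x⁻¹ := ⟨_, rfl⟩
    have hrV : r ∈ V := by rw [hr]; exact b.R_le j (b.DU hd hx)
    have hrg : g * r = r * g := (mem_centralizer_iff.1 hgV r hrV).symm
    have e1 : g * d * g⁻¹ * x = d * x * d⁻¹ * (g * d * g⁻¹) := by
      have e2 : d * (g⁻¹ * x * g) = r * (g⁻¹ * x * g) * d := by
        have e3 : g⁻¹ * x * g = x * y := by rw [hy]; group
        have e4 : d * y = y * d := b.D_comm hd hyD
        rw [e3, hr]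
        calc d * (x * y) = d * x * d⁻¹ * (d * y) := by group
          _ = d * x * d⁻¹ * x⁻¹ * (x * y) * d := by rw [e4]; group
      calc g * d * g⁻¹ * x = g * (d * (g⁻¹ * x * g)) * g⁻¹ := by group
        _ = (g * r) * (g⁻¹ * x * g) * d * g⁻¹ := by rw [e2]; group
        _ = r * x * (g * d * g⁻¹) := by rw [hrg]; group
        _ = _ := by rw [hr]; group
    rw [mul_assoc, e1]
    group
  -- so it is in `V Z i`
  obtain ⟨v, hv, h3⟩ := b.cen_DU (i := j) hn hc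
  obtain ⟨z, hz⟩ : ∃ z, z = v * (d⁻¹ * (g * d * g⁻¹)) := ⟨_, rfl⟩
  have hzZ : z ∈ BTwo.ZZ V R i := by
    rw [hz]
    exact mem_inf.2 ⟨D_le_W V R i h3.1, cen_X_le i h3.2⟩
  have hvW := V_le_WW V (R i) hv
  have hp : p (d⁻¹ * (g * d * g⁻¹)) = p v⁻¹ := by
    have e : d⁻¹ * (g * d * g⁻¹) = v⁻¹ * z := by rw [hz]; group
    rw [e, m.p_mul _ (inv_mem hvW) _ hzZ.1, (m.p_ker _ hzZ.1).2 hzZ, add_zero]
  have e1 : pr (R i) ⟨g, hg⟩ • p d = p d + p v⁻¹ := by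
    rw [m.p_act g hg d hdW, ← hp, ← m.p_mul _ hdW _ (D_le_W V R i hn)]
    congr 1
    group
  -- the class of `v⁻¹` is `T`-invariant
  have hnT : ∀ y ∈ TT τ, y • p v⁻¹ = p v⁻¹ := by
    intro y hy
    have h1 : y • (pr (R i) ⟨g, hg⟩ • p d) = pr (R i) ⟨g, hg⟩ • p d := by
      rw [← mul_smul, huT y hy, mul_smul, hm y hy]
    rw [e1, smul_add, hm y hy] at h1
    exact add_left_cancel h1
  have hn1 : p v⁻¹ = 0 := by
    obtain ⟨a, ha, ha1⟩ := hF
    have h1 := hnT _ ((mem_TT τ).2 ⟨a, ha, rfl⟩)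
    have hviW := inv_mem hvW
    rw [m.p_act _ _ _ hviW, m.p_eq_iff (BTwo.conj_mem_of_normalizer (normalizer_le_WW V (R i) (τ.normR ha)) hviW) hviW] at h1
    rw [m.p_ker _ hviW]
    obtain ⟨x, y, e⟩ := (τ.v_mem _).1 (inv_mem hv)
    rw [← e] at h1 ⊢
    rw [τ.act a x y ha] at h1
    have h4 : vv (a * x) (a⁻¹ * y) * (vv x y)⁻¹ ∈ R i :=
      b.cen_VW (mul_mem ((τ.v_mem _).2 ⟨_, _, rfl⟩) (inv_mem ((τ.v_mem _).2 ⟨_, _, rfl⟩))) h1.2
    obtain ⟨z, hz⟩ := (τ.Ri _).1 h4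
    have h5 : vv (z + x) (0 + y) = vv (a * x) (a⁻¹ * y) := by
      rw [τ.v_add, hz]; group
    have h6 := τ.v_add (z + x - a * x) (0 + y - a⁻¹ * y) (a * x) (a⁻¹ * y)
    rw [sub_add_cancel, sub_add_cancel, h5] at h6
    obtain ⟨-, h7⟩ := τ.v_inj _ _ (right_eq_mul.1 h6)
    have hy0 : y = 0 := by
      have h8 : (1 - a⁻¹) * y = 0 := by linear_combination h7
      refine (mul_eq_zero.1 h8).resolve_left (sub_ne_zero.2 fun h9 => ha1 ?_)
      rw [← inv_inv a, ← h9, inv_one]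
    rw [hy0]
    exact b.R_le_Z i ((τ.Ri _).2 ⟨x, rfl⟩)
  rw [e1, hn1, add_zero]

variable [Finite G] [Finite F] [CharP F 2]

/-- **(L0), the exception**: `q = 4`, `K ≅ L₂(Q)`, `T` fixes an involution of `S ⊓ K`. -/
theorem excDead (b : BTS V R) (hodd : Odd ((normalizer (V : Set G)).relIndex (normalizer (R i : Set G))))
    (hq : Nat.card F = 4) (c : Coord V R i j vv w1 w2) (τ : TorD V R i j vv t)
    (hNV : ∀ g ∈ normalizer (R i : Set G), (∀ x ∈ V, g * x * g⁻¹ * x⁻¹ ∈ BTwo.ZZ V R i) →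
      g ∈ normalizer (V : Set G))
    {S : Subgroup (HQ (R i))} (I : SylI τ S) {K : Subgroup (HQ (R i))}
    (h : CompB.Hyp S (AA V R i j) (TT τ) K) (hne : ∃ a ∈ AA V R i j, ∃ x ∈ K, a * x ≠ x * a)
    {F' : Type*} [Field F'] [Finite F'] (hF' : ringChar F' = 2)
    (e : K ≃* Matrix.ProjectiveSpecialLinearGroup (Fin 2) F') {u : HQ (R i)} (hu : u ∈ S ⊓ K) (hu1 : u ≠ 1)
    (huT : ∀ x ∈ TT τ, x * u * x⁻¹ = u) : False := by
  have hij := c.ne
  have : CharP F' 2 := ringChar.of_eq hF'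
  have hF : ∃ a : F, a ≠ 0 ∧ a ≠ 1 := CubQ.exists_ne' (by omega)
  have hT := card_T b.toBT τ
  have hT3 : Nat.card (TT τ) = 3 := by omega
  have hUD : ¬ UU V R j ≤ DD V R := by
    intro hUD
    obtain ⟨a, ha, x, hx, hne⟩ := hne
    obtain ⟨y, hy, rfl⟩ := (mem_AA b.toBT).1 ha
    apply hne
    have h1 : pr (R i) ⟨y, U_le_N b.toBT i j hy⟩ = 1 := by
      rw [pr_eq_one, U_inf_Q b.toBT hij hy]
      exact hUD hy
    rw [h1, one_mul, mul_one]
  obtain ⟨M, _, _, p, m⟩ := exists_MZ b.toBT i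
  -- a generator of `T`
  have : Fact (Nat.Prime 3) := ⟨Nat.prime_three⟩
  obtain ⟨x, hx, hx1⟩ := exists_T b.toBT τ (CrdOf.crd c) (by omega)
  have hgen : ∀ y ∈ TT τ, y ∈ zpowers x := by
    intro y hy
    have h1 : zpowers (⟨x, hx⟩ : TT τ) = ⊤ := zpowers_eq_top_of_prime_card hT3 (fun h => hx1 (congrArg Subtype.val h))
    have h2 : (⟨y, hy⟩ : TT τ) ∈ zpowers (⟨x, hx⟩ : TT τ) := by rw [h1]; exact mem_top _
    obtain ⟨n, hn⟩ := mem_zpowers_iff.1 h2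
    exact mem_zpowers_iff.2 ⟨n, congrArg Subtype.val hn⟩
  have hx3 : x * x * x = 1 := by
    have h1 : (⟨x, hx⟩ : TT τ) ^ 3 = 1 := by rw [← hT3]; exact pow_card_eq_one'
    have h2 : x ^ 3 = 1 := congrArg Subtype.val h1
    rw [← h2, pow_succ, pow_two]
  -- the automorphism of `K`
  have hxN : ∀ y, y ∈ K ↔ x * y * x⁻¹ ∈ K := fun y => (h.TK_iff hx).symm
  let α : MulAut K := ((MulAut.conj x).subgroupMap K).trans (MulEquiv.subgroupCongr (by
    ext y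
    constructor
    · rintro ⟨z, hz, rfl⟩
      exact (hxN z).1 hz
    · intro hy
      refine ⟨x⁻¹ * y * x, (hxN _).2 (by
        have e1 : x * (x⁻¹ * y * x) * x⁻¹ = y := by group
        rwa [e1]), ?_⟩
      change x * (x⁻¹ * y * x) * x⁻¹ = y
      group))
  have hα : ∀ y : K, (α y : HQ (R i)) = x * y * x⁻¹ := fun y => rfl
  obtain ⟨g, y, D, hm⟩ := exists_mod (e.trans (pslEquiv F')) (α := α) (fun y => by
      apply Subtype.ext
      rw [hα, hα, hα]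
      calc x * (x * (x * y * x⁻¹) * x⁻¹) * x⁻¹ = (x * x * x) * y * (x * x * x)⁻¹ := by group
        _ = y := by rw [hx3]; group)
    (U := S.subgroupOf K) (h.S2.comap_of_injective _ K.subtype_injective) (fun P hP hle => by
      refine le_antisymm (fun z hz => ?_) hle
      have h1 := h.syl (P.map K.subtype) (by
        rintro _ ⟨z, -, rfl⟩
        exact z.2) (hP.map _) (fun z hz => ⟨⟨z, hz.2⟩, hle (mem_subgroupOf.2 hz.1), rfl⟩)
      exact mem_subgroupOf.2 (h1 ⟨z, hz, rfl⟩))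
    (fun z hz => mem_subgroupOf.2 (by rw [hα]; exact h.TS x hx _ (mem_subgroupOf.1 hz)))
    (u := ⟨u, hu.2⟩) (mem_subgroupOf.2 hu.1) (fun h1 => hu1 (congrArg Subtype.val h1))
    (Subtype.ext (by rw [hα]; exact huT x hx))
  -- the line
  let e' : Subgroup (Multiplicative M) := (m.sb V).toSubgroup
  refine Lie.End.ExcDead.core (M := Multiplicative M) (fun a => m.two b.toBT (Multiplicative.toAdd a))
    (rhoM (HQ (R i)) M) (e := e') (fun h' hh a ha => ?_) h.toPre ?_ ?_ hx hx3 hu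
    (huT x hx) (fun a ha hax => ?_) (fun a ha => ?_) hα hm
  · obtain ⟨g', hg', rfl⟩ := exists_pr h'
    refine nrmA b.toBT hij hg' (hNV g' hg' fun z hz => ?_) ha
    have hzW := V_le_WW V (R i) hz
    have h1 := hh (Multiplicative.ofAdd (p z)) (m.p_mem hzW hz)
    have h2 : pr (R i) ⟨g', hg'⟩ • p z = p z := h1
    rw [m.p_act _ hg' _ hzW, m.p_eq_iff (BTwo.conj_mem_of_normalizer (normalizer_le_WW V (R i) hg') hzW) hzW] at h2
    exact h2
  · by_contra hcon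
    push Not at hcon
    exact h.inf_ne_bot hne ((Subgroup.eq_bot_iff_forall _).2 hcon)
  · rintro s ⟨hs, -⟩ a ha
    obtain ⟨g', hg', hgV, rfl⟩ := I.rep s hs
    obtain ⟨v, hv, hvW, hva⟩ := (ha : Multiplicative.toAdd a ∈ m.sb V)
    rw [rhoM_eq, ← hva, m.p_act _ hg' _ hvW, ← mem_centralizer_iff.1 hgV v hv, mul_inv_cancel_right]
  · by_contra ha1
    exact hx1 (T_reg b.toBT τ hij ha ha1 hx hax)
  · obtain ⟨g', hg', hgV, rfl⟩ := I.rep u hu.1
    rw [rhoM_eq] at ha ⊢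
    have haT : ∀ z ∈ TT τ, z • Multiplicative.toAdd a = Multiplicative.toAdd a := by
      intro z hz
      obtain ⟨n, rfl⟩ := mem_zpowers_iff.1 (hgen z hz)
      have h1 : x ∈ MulAction.stabilizer (HQ (R i)) (Multiplicative.toAdd a) := ha
      exact (MulAction.stabilizer (HQ (R i)) (Multiplicative.toAdd a)).zpow_mem h1 n
    refine fix_real b c hF τ m hg' hgV (fun a ha => ?_) (fun z hz => ?_) ?_ haT
    · obtain ⟨a1, ha1, a2, ha2, ha2K, rfl⟩ := h.decomp ha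
      have h1 := congrArg Subtype.val (hm.ab ⟨_, hu.2⟩ (mem_subgroupOf.2 hu.1) ⟨a1, ha1.2⟩
        (mem_subgroupOf.2 (h.AS ha1.1)))
      have h1' : pr (R i) ⟨g', hg'⟩ * a1 = a1 * pr (R i) ⟨g', hg'⟩ := h1
      rw [← mul_assoc, h1', mul_assoc, ← ha2K _ hu.2, mul_assoc]
    · have h1 := huT z hz
      exact mul_inv_eq_iff_eq_mul.1 h1
    · obtain ⟨a0, ha0, ha01⟩ := hF
      exact ECen.tfix b ⟨a0, ha0, ha01⟩ c τ hodd hUD m ha0 ha01 (haT _ ((mem_TT τ).2 ⟨a0, ha0, rfl⟩))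

/-- the same in the form of `KSide`: `T'` is the image of `T` in `Aut K` -/
theorem not_kExc (b : BTS V R) (hodd : Odd ((normalizer (V : Set G)).relIndex (normalizer (R i : Set G))))
    (c : Coord V R i j vv w1 w2) (τ : TorD V R i j vv t)
    (hNV : ∀ g ∈ normalizer (R i : Set G), (∀ x ∈ V, g * x * g⁻¹ * x⁻¹ ∈ BTwo.ZZ V R i) →
      g ∈ normalizer (V : Set G))
    {S : Subgroup (HQ (R i))} (I : SylI τ S) {K : Subgroup (HQ (R i))}
    (h : CompB.Hyp S (AA V R i j) (TT τ) K) (hne : ∃ a ∈ AA V R i j, ∃ x ∈ K, a * x ≠ x * a)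
    {T' : Subgroup (MulAut K)} (h1 : ∀ x ∈ TT τ, ∃ α ∈ T', ∀ y : K, (α y : HQ (R i)) = x * y * x⁻¹)
    (h2 : ∀ α ∈ T', ∃ x ∈ TT τ, ∀ y : K, (α y : HQ (R i)) = x * y * x⁻¹) :
    ¬ KExc K (S.subgroupOf K) T' := by
  rintro ⟨h3, ⟨u, hu, hu1, huT⟩, F', _, _, hF', ⟨e⟩⟩
  obtain ⟨b0, hb0, hb01⟩ : ∃ b ∈ AA V R i j ⊓ K, b ≠ 1 := by
    by_contra hcon
    push Not at hcon
    exact h.inf_ne_bot hne ((Subgroup.eq_bot_iff_forall _).2 hcon)
  have hcard : Nat.card (TT τ) = Nat.card T' := by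
    choose f hf1 hf2 using h1
    refine Nat.card_congr (Equiv.ofBijective (fun x : TT τ => (⟨f x x.2, hf1 x x.2⟩ : T')) ⟨?_, ?_⟩)
    · rintro ⟨x, hx⟩ ⟨x', hx'⟩ hxx
      have e1 : f x hx = f x' hx' := congrArg Subtype.val hxx
      have e2 := hf2 x hx ⟨b0, hb0.2⟩
      have e3 := hf2 x' hx' ⟨b0, hb0.2⟩
      rw [e1, e3] at e2
      have e4 : (x'⁻¹ * x) * b0 * (x'⁻¹ * x)⁻¹ = b0 := by
        have e5 : x' * b0 * x'⁻¹ = x * b0 * x⁻¹ := e2
        calc (x'⁻¹ * x) * b0 * (x'⁻¹ * x)⁻¹ = x'⁻¹ * (x * b0 * x⁻¹) * x' := by group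
          _ = b0 := by rw [← e5]; group
      have e5 := T_reg b.toBT τ c.ne hb0.1 hb01 ((TT τ).mul_mem ((TT τ).inv_mem hx') hx) e4
      exact Subtype.ext (inv_mul_eq_one.1 e5).symm
    · rintro ⟨α, hα⟩
      obtain ⟨x, hx, hxα⟩ := h2 α hα
      refine ⟨⟨x, hx⟩, Subtype.ext (MulEquiv.ext fun y => Subtype.ext ?_)⟩
      rw [hxα]
      exact hf2 x hx y
  have hq' : Nat.card F = 4 := by
    have := card_T b.toBT τ
    omega
  refine excDead b hodd hq' c τ hNV I h hne hF' e (u := u) ⟨mem_subgroupOf.1 hu, u.2⟩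
    (fun h => hu1 (Subtype.ext h)) (fun x hx => ?_)
  obtain ⟨α, hα, hxα⟩ := h1 x hx
  rw [← hxα, huT α hα]

/-- the hypothesis `hexc` of `RealEnum.exists_RS` over `BTS` -/
theorem not_kExc_lay (b : BTS V R) (hodd : Odd ((normalizer (V : Set G)).relIndex (normalizer (R i : Set G))))
    (c : Coord V R i j vv w1 w2) (τ : TorD V R i j vv t)
    (hNV : ∀ g ∈ normalizer (R i : Set G), (∀ x ∈ V, g * x * g⁻¹ * x⁻¹ ∈ BTwo.ZZ V R i) →
      g ∈ normalizer (V : Set G))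
    {S : Subgroup (HQ (R i))} (I : SylI τ S) (l : IIa4.Lay V R i j (TT τ) S) :
    ∀ K : Subgroup (HQ (R i)), IIa4.MComp V R i j K → ¬ KExc K (S.subgroupOf K) (OfLay.Tact (TT τ) K) := by
  intro K hK
  have h := l.hyp K hK
  refine not_kExc b hodd c τ hNV I h hK.2.2 (fun x hx => ?_) (fun α hα => ?_)
  · exact ⟨K.normalizerMonoidHom ⟨x, OfLay.T_le h.toPre hx⟩,
      OfLay.mem_Tact.2 ⟨x, hx, OfLay.T_le h.toPre hx, fun _ => rfl⟩, fun _ => rfl⟩
  · obtain ⟨x, hx, -, h1⟩ := OfLay.mem_Tact.1 hα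
    exact ⟨x, hx, h1⟩

/-- the same with a Sylow 2-subgroup `S₁ ≤ N(V) ∩ N(R i)` of `G`, and LEMMA NE (input `hd`) plugged -/
theorem not_kExc_sylow (b : BTS V R) (hodd : Odd ((normalizer (V : Set G)).relIndex (normalizer (R i : Set G))))
    (hF : ∃ a : F, a ≠ 0 ∧ a ≠ 1) (c : Coord V R i j vv w1 w2) (τ : TorD V R i j vv t)
    (hd : ∀ z ∈ BTwo.ZZ V R i, (∀ u ∈ UU V R j, u * z * u⁻¹ * z⁻¹ ∈ R i) →
      ∀ a, a ≠ 0 → t a * z * (t a)⁻¹ * z⁻¹ ∈ R i)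
    (S₁ : Sylow 2 G) (hV : (S₁ : Subgroup G) ≤ normalizer (V : Set G))
    (hR : (S₁ : Subgroup G) ≤ normalizer (R i : Set G)) (l : IIa4.Lay V R i j (TT τ) (SS R i S₁)) :
    ∀ K : Subgroup (HQ (R i)), IIa4.MComp V R i j K →
      ¬ KExc K ((SS R i S₁).subgroupOf K) (OfLay.Tact (TT τ) K) :=
  not_kExc_lay b hodd c τ (fun _ hg h => nv_of_normE b.toBT c τ hF hodd hd hg h)
    (ECen.sylI_of_sylow b.toBT τ (CrdOf.crd c) c.ne S₁ hV hR) l

end Cfsg.Agent.Omega.HOneQ.ExcDead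

end

section


/-!
# II.0h1, SPLIT, `q ≥ 4`: the systems of the moved components (`RS`) over `BT` / `BTS` / `Sit4`

`fac` : `H = ⟨A^H⟩ N_H(A)` from `(Fr)`; `mcomp_normal` : the product of the moved components is normal in `H`;
`AA_ne_bot` : `A ≠ 1` from `Z(W j) ≰ D`; `exists_rsx` : from LAYER at `(i, j)`, `(Fr)`, `KSideX` and the absence of the
exception `KExc`, an enumeration `K : Fin n → _` of the moved components of `N(R i)/O₂(N(R i))` with parabolic systems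
(`RS`), `n ≥ 1`, and `Opp`, `OneL` for each of them.  `sit_rsx` : the same in the situation `Sit4`.
-/

set_option autoImplicit false
set_option linter.unusedSectionVars false

namespace Cfsg.Agent.Omega.HOneQ.SitRS4

open Subgroup Cfsg Cfsg.Agent.ZN Cfsg.Agent.Omega.MinPar Cfsg.Agent.Omega.Frame
open Cfsg.Agent.Omega.NatPair (NatMod)
open Cfsg.Agent.Omega.BTwo Cfsg.Agent.Omega.Lie Cfsg.Agent.Omega.Lie.Quot Cfsg.Agent.Omega.Lie.End
open Cfsg.Agent.Omega.Lie.End.OfLay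
open Cfsg.Agent.Omega.IIa4 Cfsg.Agent.Omega.IIa4.Moved
open Cfsg.Agent.Omega.HOne.SameOf (Sit4)

universe u

section bt

variable {G : Type u} [Group G] {ι : Type*} {V : Subgroup G} {R : ι → Subgroup G} {i j : ι}

/-- `H = ⟨A^H⟩ N_H(A)` -/
theorem fac (b : BT V R) (hij : i ≠ j)
    (hfr : ∀ x ∈ normalizer (R i : Set G), ∃ e ∈ EE V R i j, e * x ∈ normalizer (V : Set G)) (x : HQ (R i)) :
    ∃ e ∈ normalClosure (AA V R i j : Set (HQ (R i))), ∃ n,
      (∀ a ∈ AA V R i j, n * a * n⁻¹ ∈ AA V R i j) ∧ x = e * n := by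
  obtain ⟨y, hy, rfl⟩ := exists_pr x
  obtain ⟨e, he, hV⟩ := hfr y hy
  obtain ⟨heN, heE⟩ := Moved.mem_up.1 he
  refine ⟨(Quot.pr (R i) ⟨e, heN⟩)⁻¹, inv_mem heE, Quot.pr (R i) ⟨e * y, mul_mem heN hy⟩, norm_A b hij _ hV, ?_⟩
  rw [eq_inv_mul_iff_mul_eq, ← map_mul]
  rfl

/-- **(L8)** the product of the moved components is normal -/
theorem mcomp_normal [Finite G] (b : BT V R) (hij : i ≠ j)
    (hfr : ∀ x ∈ normalizer (R i : Set G), ∃ e ∈ EE V R i j, e * x ∈ normalizer (V : Set G))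
    {T S : Subgroup (HQ (R i))} (l : Lay V R i j T S) :
    (⨆ K ∈ {K : Subgroup (HQ (R i)) | MComp V R i j K}, K).Normal :=
  l.normal_of_fac b hij (fac b hij hfr)

/-- `A ≠ 1` -/
theorem AA_ne_bot (b : BT V R) (hij : i ≠ j) (hz : ∃ z ∈ ZZ V R j, z ∉ DD V R) : AA V R i j ≠ ⊥ := by
  intro h0
  obtain ⟨z, hz, hzD⟩ := hz
  have hu : z ∈ UU V R j := mem_inf.2 ⟨(mem_inf.1 hz).1, cen_W_le V (R j) (mem_inf.1 hz).2⟩
  apply hzD
  refine (U_inf_Q b hij hu).1 ?_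
  have h1 : pr (R i) ⟨z, U_le_N b i j hu⟩ ∈ AA V R i j := (mem_AA b).2 ⟨z, hu, rfl⟩
  rw [h0, mem_bot] at h1
  exact (pr_eq_one _).1 h1

/-- there is a moved component -/
theorem exists_mcomp [Finite G] (b : BT V R) (hij : i ≠ j) (hz : ∃ z ∈ ZZ V R j, z ∉ DD V R)
    {T S : Subgroup (HQ (R i))} (l : Lay V R i j T S) : ∃ K : Subgroup (HQ (R i)), MComp V R i j K :=
  RealEnum.exists_mcomp_of_ne b hij (AA_ne_bot b hij hz) l

/-- **The systems of the moved components.** -/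
theorem exists_rsx [Finite G] {F : Type*} [Field F] [Finite F] [CharP F 2] {v : F → F → G} {t : F → G}
    (hks : KSideX.{u}) (b : BT V R) (τ : TorD V R i j v t) (hij : i ≠ j) (h4 : 4 ≤ Nat.card F)
    (hz : ∃ z ∈ ZZ V R j, z ∉ DD V R)
    (hfr : ∀ x ∈ normalizer (R i : Set G), ∃ e ∈ EE V R i j, e * x ∈ normalizer (V : Set G))
    {S : Subgroup (HQ (R i))} (l : Lay V R i j (TT τ) S)
    (hexc : ∀ K : Subgroup (HQ (R i)), MComp V R i j K → ¬ KExc K (S.subgroupOf K) (Tact (TT τ) K)) :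
    ∃ (n : ℕ) (K : Fin n → Subgroup (HQ (R i))) (J : Fin n → Type) (P : ∀ a, J a → Subgroup (K a))
      (m : ∀ a, J a → J a → ℕ), (∀ a, Finite (J a)) ∧ Nonempty (Fin n) ∧ RS V R i j (TT τ) S K J P m ∧
        ∀ a, Opp (normalizer (S.subgroupOf (K a) : Set (K a))) (S.subgroupOf (K a)) (P a) ∧ OneL (K a) (J a) :=
  RealEnum.exists_RSX hks b τ hij h4 l hexc (mcomp_normal b hij hfr l) (exists_mcomp b hij hz l)

end bt

section sit

variable {G : Type u} [Group G] [Finite G] {S : Sylow 2 G} {P : Subgroup G} {g : G} {F : Type} [Field F]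
  [Finite F] [CharP F 2] {N : Subgroup G} {M : NatMod F N} (h : Sit4 S P g M)
include h

/-- **The systems of the moved components**, in the situation of `Same4`. -/
theorem sit_rsx (hks : KSideX.{u}) (hl : LayAll N (pt M) F) {i j : Pt M}
    (hfr : ∀ x ∈ normalizer (pt M i : Set G), ∃ e ∈ EE N (pt M) i j, e * x ∈ normalizer (N : Set G))
    {v : F → F → G} {w1 w2 : F → G} {t : F → G}
    (c : Coord N (pt M) i j v w1 w2) (τ : TorD N (pt M) i j v t)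
    (S₁ : Sylow 2 G) (hV : (S₁ : Subgroup G) ≤ normalizer (N : Set G))
    (hR : (S₁ : Subgroup G) ≤ normalizer (pt M i : Set G))
    (hexc : ∀ K : Subgroup (HQ (pt M i)), MComp N (pt M) i j K →
      ¬ KExc K ((SS (pt M) i S₁).subgroupOf K) (Tact (TT τ) K)) :
    ∃ (n : ℕ) (K : Fin n → Subgroup (HQ (pt M i))) (J : Fin n → Type) (Q : ∀ a, J a → Subgroup (K a))
      (m : ∀ a, J a → J a → ℕ), (∀ a, Finite (J a)) ∧ Nonempty (Fin n) ∧
        RS N (pt M) i j (TT τ) (SS (pt M) i S₁) K J Q m ∧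
        ∀ a, Opp (normalizer ((SS (pt M) i S₁).subgroupOf (K a) : Set (K a))) ((SS (pt M) i S₁).subgroupOf (K a))
          (Q a) ∧ OneL (K a) (J a) :=
  exists_rsx hks h.bt τ c.ne h.four (h.exists_ZZ' c.ne) hfr (hl i j c.ne v w1 w2 t c τ S₁ hV hR) hexc

end sit

end Cfsg.Agent.Omega.HOneQ.SitRS4

end
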