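import Cfsg.Agent.Mrg.Omega.HOneQ.ExcDead
import Cfsg.Agent.Mrg.Omega.HOne.SimpleOf
import Cfsg.Agent.Mrg.Omega.Lie.End.Real
import Cfsg.Agent.Mrg.Omega.Lie.End.KDOf
import Cfsg.Agent.Mrg.Omega.Lie.End.KSys


/-!
# II.0h1, SPLIT, `q ≥ 4`: the parabolic system of the moved components has more than one node

* `sl_trans` : the normaliser of an abelian Sylow 2-subgroup `A` of `SL₂(k)`, `char k = 2`, is transitive on `A - 1`;
* `conj_imZ` : `N(V) ∩ N(R i)` normalises the image of `Z(W j)` in `H = N(R i)/O₂(N(R i))`;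
* `uniq_of_reg` : `(γ)` implies ONE NODE;
* **`false_of_unique`** : ONE NODE is impossible.
-/

set_option autoImplicit false
set_option linter.unusedSectionVars false

namespace Cfsg.Agent.Omega.HOneQ.OneNode

open Subgroup Cfsg Cfsg.Agent.ParSys Cfsg.Agent.Omega.BTwo Cfsg.Agent.Omega.Lie Cfsg.Agent.Omega.Lie.Quot
open Cfsg.Agent.Omega.IIa4 Cfsg.Agent.Omega.Lie.End Cfsg.Agent.Omega.Lie.End.OfLay
open Cfsg.Agent.Omega.HOne.ModZ

universe u v w

/-! ### `SL₂(k)` -/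

section sl

variable {k : Type*} [Field k]

local notation "SL2" => Matrix.SpecialLinearGroup (Fin 2) k

/-- `(1 b; 0 1)` -/
def uu (b : k) : SL2 := ⟨!![1, b; 0, 1], by rw [Matrix.det_fin_two_of]; ring⟩

/-- `(t 0; 0 t⁻¹)` -/
def hh (t : k) (ht : t ≠ 0) : SL2 := ⟨!![t, 0; 0, t⁻¹], by rw [Matrix.det_fin_two_of, mul_inv_cancel₀ ht]; ring⟩

theorem uu_mul (b c : k) : uu b * uu c = uu (b + c) := by
  apply Subtype.ext
  show !![1, b; 0, 1] * !![1, c; 0, 1] = !![1, b + c; 0, 1]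
  rw [Matrix.mul_fin_two]
  congr 1
  simp [add_comm]

theorem uu_zero : uu (0 : k) = 1 := by
  apply Subtype.ext
  show !![1, (0 : k); 0, 1] = 1
  exact Matrix.one_fin_two.symm

theorem hh_uu (t : k) (ht : t ≠ 0) (b : k) : hh t ht * uu b * (hh t ht)⁻¹ = uu (t ^ 2 * b) := by
  rw [mul_inv_eq_iff_eq_mul]
  apply Subtype.ext
  show !![t, 0; 0, t⁻¹] * !![1, b; 0, 1] = !![1, t ^ 2 * b; 0, 1] * !![t, 0; 0, t⁻¹]
  rw [Matrix.mul_fin_two, Matrix.mul_fin_two]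
  have e : t ^ 2 * b * t⁻¹ = t * b := by field_simp
  congr 1
  simp [e]

/-- the group `(1 *; 0 1)` -/
def U : Subgroup SL2 where
  carrier := Set.range uu
  mul_mem' := by
    rintro _ _ ⟨b, rfl⟩ ⟨c, rfl⟩
    exact ⟨b + c, (uu_mul b c).symm⟩
  one_mem' := ⟨0, uu_zero⟩
  inv_mem' := by
    rintro _ ⟨b, rfl⟩
    refine ⟨-b, ?_⟩
    rw [eq_inv_iff_mul_eq_one, uu_mul, neg_add_cancel, uu_zero]

theorem mem_U {g : SL2} : g ∈ U (k := k) ↔ ∃ b, uu b = g := Iff.rfl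

variable [CharP k 2]

theorem U_two : IsPGroup 2 (U (k := k)) := by
  rintro ⟨_, b, rfl⟩
  refine ⟨1, Subtype.ext ?_⟩
  show (uu b) ^ 2 ^ 1 = 1
  rw [pow_one, pow_two, uu_mul, CharTwo.add_self_eq_zero, uu_zero]

/-- `C(u) = U` -/
theorem mem_U_of_comm {g : SL2} (h : g * uu 1 = uu 1 * g) : g ∈ U (k := k) := by
  obtain ⟨A, hA⟩ := g
  have h1 : A * !![1, 1; 0, 1] = !![1, 1; 0, 1] * A := congrArg Subtype.val h
  have h00 := congrFun (congrFun h1 0) 0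
  have h01 := congrFun (congrFun h1 0) 1
  simp only [Matrix.mul_apply, Fin.sum_univ_two, Matrix.of_apply, Matrix.cons_val', Matrix.cons_val_zero,
    Matrix.cons_val_one, Matrix.cons_val_fin_one, mul_one, mul_zero, add_zero, one_mul] at h00 h01
  have h10 : A 1 0 = 0 := by
    have : A 0 0 = A 0 0 + A 1 0 := by simpa using h00
    exact left_eq_add.1 this
  have h11 : A 0 0 = A 1 1 := by
    have : A 0 0 + A 0 1 = A 0 1 + A 1 1 := by simpa using h01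
    have h3 : A 0 0 + A 0 1 = A 1 1 + A 0 1 := by rw [this, add_comm]
    exact add_right_cancel h3
  rw [Matrix.det_fin_two, h10, mul_zero, sub_zero, h11] at hA
  have h12 : A 1 1 = 1 := by
    have h4 : (A 1 1 - 1) * (A 1 1 - 1) = 0 := by
      have h5 : (2 : k) = 0 := CharP.cast_eq_zero k 2
      linear_combination hA + (1 - A 1 1) * h5
    exact sub_eq_zero.1 (mul_self_eq_zero.1 h4)
  refine ⟨A 0 1, Subtype.ext ?_⟩
  show !![1, A 0 1; 0, 1] = A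
  ext a b
  fin_cases a <;> fin_cases b
  · show (1 : k) = A 0 0
    rw [h11, h12]
  · rfl
  · show (0 : k) = A 1 0
    rw [h10]
  · show (1 : k) = A 1 1
    rw [h12]

/-- **The normaliser of an abelian Sylow 2-subgroup is transitive on its involutions.** -/
theorem sl_trans [Finite k] (A : Sylow 2 SL2) (hab : ∀ x ∈ A, ∀ y ∈ A, x * y = y * x) {x y : SL2} (hx : x ∈ A)
    (hy : y ∈ A) (hx1 : x ≠ 1) (hy1 : y ≠ 1) :
    ∃ g ∈ normalizer ((A : Subgroup SL2) : Set SL2), g * x * g⁻¹ = y := by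
  have hfact : Fact (Nat.Prime 2) := ⟨Nat.prime_two⟩
  obtain ⟨P, hP⟩ := (U_two (k := k)).exists_le_sylow
  obtain ⟨g, hg⟩ := MulAction.exists_smul_eq SL2 A P
  have hm : ∀ z : SL2, g * z * g⁻¹ ∈ P ↔ z ∈ A := by
    intro z
    rw [← hg]
    show g * z * g⁻¹ ∈ ((g • A : Sylow 2 SL2) : Subgroup SL2) ↔ _
    rw [Sylow.smul_def, Sylow.pointwise_smul_def, Subgroup.mem_smul_pointwise_iff_exists]
    constructor
    · rintro ⟨s, hs, e⟩
      rw [MulAut.smul_def, MulAut.conj_apply] at e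
      have : s = z := mul_left_cancel (mul_right_cancel e)
      rwa [← this]
    · intro hz
      exact ⟨z, hz, by rw [MulAut.smul_def, MulAut.conj_apply]⟩
  have hPab : ∀ z ∈ P, ∀ w ∈ P, z * w = w * z := by
    intro z hz w hw
    have h1 := (hm (g⁻¹ * z * g)).1 (by
      have e : g * (g⁻¹ * z * g) * g⁻¹ = z := by group
      rwa [e])
    have h2 := (hm (g⁻¹ * w * g)).1 (by
      have e : g * (g⁻¹ * w * g) * g⁻¹ = w := by group
      rwa [e])
    have h3 := hab _ h1 _ h2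
    calc z * w = g * ((g⁻¹ * z * g) * (g⁻¹ * w * g)) * g⁻¹ := by group
      _ = g * ((g⁻¹ * w * g) * (g⁻¹ * z * g)) * g⁻¹ := by rw [h3]
      _ = w * z := by group
  have hPU : ∀ z ∈ P, z ∈ U (k := k) := fun z hz => mem_U_of_comm (hPab z hz _ (hP ⟨1, rfl⟩))
  obtain ⟨b, hb⟩ := mem_U.1 (hPU _ ((hm x).2 hx))
  obtain ⟨c, hc⟩ := mem_U.1 (hPU _ ((hm y).2 hy))
  have hb0 : b ≠ 0 := by
    rintro rfl
    rw [uu_zero] at hb
    apply hx1
    have : g * x * g⁻¹ = g * 1 * g⁻¹ := by rw [← hb]; group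
    exact mul_left_cancel (mul_right_cancel this)
  have hc0 : c ≠ 0 := by
    rintro rfl
    rw [uu_zero] at hc
    apply hy1
    have : g * y * g⁻¹ = g * 1 * g⁻¹ := by rw [← hc]; group
    exact mul_left_cancel (mul_right_cancel this)
  obtain ⟨t, ht⟩ := FiniteField.isSquare_of_char_two (F := k) (ringChar.eq k 2) (c / b)
  have ht0 : t ≠ 0 := by
    rintro rfl
    rw [mul_zero] at ht
    exact div_ne_zero hc0 hb0 ht
  have hN : ∀ (s : k) (hs : s ≠ 0), ∀ z ∈ A, (g⁻¹ * hh s hs * g) * z * (g⁻¹ * hh s hs * g)⁻¹ ∈ A := by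
    intro s hs z hz
    rw [← hm]
    obtain ⟨d, hd⟩ := mem_U.1 (hPU _ ((hm z).2 hz))
    have e : g * ((g⁻¹ * hh s hs * g) * z * (g⁻¹ * hh s hs * g)⁻¹) * g⁻¹ =
        hh s hs * (g * z * g⁻¹) * (hh s hs)⁻¹ := by group
    rw [e, ← hd, hh_uu]
    exact hP ⟨_, rfl⟩
  have hinv : (hh t ht0)⁻¹ = hh t⁻¹ (inv_ne_zero ht0) := by
    rw [inv_eq_iff_mul_eq_one]
    apply Subtype.ext
    show !![t, 0; 0, t⁻¹] * !![t⁻¹, 0; 0, t⁻¹⁻¹] = 1
    rw [Matrix.mul_fin_two, Matrix.one_fin_two]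
    simp [ht0]
  refine ⟨g⁻¹ * hh t ht0 * g, ?_, ?_⟩
  · rw [mem_normalizer_iff]
    intro z
    refine ⟨hN t ht0 z, fun hz => ?_⟩
    have h1 := hN _ (inv_ne_zero ht0) _ hz
    rw [← hinv] at h1
    have e : g⁻¹ * (hh t ht0)⁻¹ * g * (g⁻¹ * hh t ht0 * g * z * (g⁻¹ * hh t ht0 * g)⁻¹) *
        (g⁻¹ * (hh t ht0)⁻¹ * g)⁻¹ = z := by group
    rwa [e] at h1
  · have e : g⁻¹ * hh t ht0 * g * x * (g⁻¹ * hh t ht0 * g)⁻¹ =
        g⁻¹ * (hh t ht0 * (g * x * g⁻¹) * (hh t ht0)⁻¹) * g := by group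
    have h2 : t ^ 2 * b = c := by
      rw [pow_two, ← ht]
      field_simp
    rw [e, ← hb, hh_uu, h2, hc]
    group

end sl

/-! ### The image of `Z(W j)` -/

section bt

variable {G : Type u} [Group G] {ι : Type w} {V : Subgroup G} {R : ι → Subgroup G} {i j : ι}

theorem ZZ_le_UU (j : ι) : ZZ V R j ≤ UU V R j := fun _ hz =>
  mem_inf.2 ⟨(mem_inf.1 hz).1, cen_W_le V (R j) (mem_inf.1 hz).2⟩

/-- `N(V) ∩ N(R i)` normalises the image of `Z(W j)` -/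
theorem conj_imZ (b : BT V R) (hij : i ≠ j) {g : G} (hgR : g ∈ normalizer (R i : Set G))
    (hgV : g ∈ normalizer (V : Set G)) {z : HQ (R i)} (hz : z ∈ im (R i) (ZZ V R j)) :
    pr (R i) ⟨g, hgR⟩ * z * (pr (R i) ⟨g, hgR⟩)⁻¹ ∈ im (R i) (ZZ V R j) := by
  obtain ⟨z, hzN, hzZ, rfl⟩ := mem_im.1 hz
  obtain ⟨k, hk⟩ := b.perm g hgV j
  have hki : k ≠ i := by
    rintro rfl
    have h1 : cj g (R k) = R k := cj_eq_self_iff.2 hgR
    exact hij (b.R_index (cj_injective (h1.trans hk.symm)))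
  obtain ⟨w, hw, hwk⟩ := b.trans i hki (Ne.symm hij)
  have hwN : w ∈ normalizer (R i : Set G) := b.W_le_N i hw
  have hwg : w * g ∈ normalizer (R j : Set G) := by
    rw [← cj_eq_self_iff, cj_mul, hk, hwk]
  have h1 : pr (R i) ⟨w * g, mul_mem hwN hgR⟩ = pr (R i) ⟨g, hgR⟩ := by
    have e : (⟨w * g, mul_mem hwN hgR⟩ : ↥(normalizer (R i : Set G))) = ⟨w, hwN⟩ * ⟨g, hgR⟩ := rfl
    rw [e, map_mul, (pr_eq_one hwN).2 (b.W_le_Q i hw), one_mul]
  rw [← h1, ← map_inv, ← map_mul, ← map_mul]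
  refine pr_mem_im (mul_mem (mul_mem (mul_mem hwN hgR) hzN) (inv_mem (mul_mem hwN hgR))) ?_
  exact (mem_normalizer_iff.1 (N_le_NZ j hwg) z).1 hzZ

end bt

/-! ### ONE NODE -/

section real

variable {G : Type u} [Group G] [Finite G] {ι : Type w} {V : Subgroup G} {R : ι → Subgroup G} {i j : ι}
  {F : Type v} [Field F] [Finite F] [CharP F 2] {vv : F → F → G} {w1 w2 t : F → G}

/-- the image of `Z(W j)` is proper in `A`: an abstract form of `N0_ne_top` -/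
theorem not_AA_le_imZ {M : Type u} [AddCommGroup M] [Module F M] [DistribMulAction (HQ (R i)) M] {p : G → M}
    {f : M →ₗ[F] M →ₗ[F] F} {e : F →ₗ[F] M} {ω : M →ₗ[F] F} {σ : HQ (R i) →* RingAut F} {κ : HQ (R i) → F}
    {N : Type u} [AddCommGroup N] [Module F N] {P1 P2 : G → N}
    (q : Fq V R i vv M p f e ω σ κ) (b : BTS V R) (c : Coord V R i j vv w1 w2)
    (τ : TorD V R i j vv t) (y : YPair V R i j w1 w2 N P1 P2) (hF : ∃ a : F, a ≠ 0 ∧ a ≠ 1)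
    (hodd : Odd ((normalizer (V : Set G)).relIndex (normalizer (R i : Set G))))
    (hZ : ∃ z ∈ ZZ V R j, z ∉ DD V R) : ¬ AA V R i j ≤ im (R i) (ZZ V R j) := by
  intro hle
  apply q.N0_ne_top b c τ y hF hodd hZ
  rw [eq_top_iff]
  intro k _
  obtain ⟨u, hu, rfl⟩ := exists_u y k
  rw [mem_N0']
  obtain ⟨z, hzN, hz, e⟩ := mem_im.1 (hle ((mem_AA b.toBT).2 ⟨u, hu, rfl⟩))
  rw [pr_eq_pr] at e
  have hzU : z ∈ UU V R j := ZZ_le_UU j hz
  have h1 : z⁻¹ * u ∈ DD V R := (U_inf_Q b.toBT c.ne (mul_mem (inv_mem hzU) hu)).1 e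
  have hY : z⁻¹ * u ∈ YY V R := UU_le_YY j (mul_mem (inv_mem hzU) hu)
  have h2 := ((y.mem_D _ hY).1 h1).2
  refine ⟨z, hz, ?_⟩
  have h3 := y.mul2 z (UU_le_YY j hzU) _ hY
  rw [mul_inv_cancel_left, h2, add_zero] at h3
  exact h3.symm

variable {S : Subgroup (HQ (R i))} {α : Type} {K : α → Subgroup (HQ (R i))} {J : α → Type}
  {P : ∀ a, J a → Subgroup (K a)} {m : ∀ a, J a → J a → ℕ}

/-- **ONE NODE**: `A` lies in the image of `Z(W j)`. -/
theorem AA_le_imZ (b : BT V R) (τ : TorD V R i j vv t) (hij : i ≠ j) (h4 : 4 ≤ Nat.card F)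
    (hz : ∃ z ∈ ZZ V R j, z ∉ DD V R) (D : RS V R i j (TT τ) S K J P m) (hone : ∀ a, OneL (K a) (J a))
    (hNV : ∀ g (hg : g ∈ normalizer (R i : Set G)),
      (∀ a ∈ AA V R i j, pr (R i) ⟨g, hg⟩ * a * (pr (R i) ⟨g, hg⟩)⁻¹ ∈ AA V R i j) → g ∈ normalizer (V : Set G))
    (huniq : ∀ x x' : Σ a, J a, x = x') : AA V R i j ≤ im (R i) (ZZ V R j) := by
  have hfact : Fact (Nat.Prime 2) := ⟨Nat.prime_two⟩
  obtain ⟨L, hL⟩ := SitRS4.exists_mcomp b hij hz D.lay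
  obtain ⟨a, rfl⟩ := D.sur L hL
  obtain ⟨k₀, -⟩ := (D.sys a).moved
  have hα : ∀ c, c = a := by
    intro c
    obtain ⟨k, -⟩ := (D.sys c).moved
    exact congrArg Sigma.fst (huniq ⟨c, k⟩ ⟨a, k₀⟩)
  have hJ : ∀ k k' : J a, k = k' := by
    intro k k'
    have h1 := huniq ⟨a, k⟩ ⟨a, k'⟩
    exact eq_of_heq (Sigma.mk.inj h1).2
  have hK : ∀ L : Subgroup (HQ (R i)), MComp V R i j L → L = K a := by
    intro L hL
    obtain ⟨c, rfl⟩ := D.sur L hL
    rw [hα c]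
  have hA : AA V R i j ≤ K a :=
    (D.lay.A_le b hij).trans (iSup₂_le fun L hL => inf_le_right.trans (hK L hL).le)
  have ht : TAct (S.subgroupOf (K a)) (Tact (TT τ) (K a)) := tact_of_lay b τ hij h4 D.lay (D.mem a)
  have h2 : S.subgroupOf (K a) = (AA V R i j).subgroupOf (K a) := by
    rw [← KDOf.AT_eq_self (D.mem a).1.2 (OfLay.odd_center (pCore_HQ (R i)) (D.mem a).1) (D.sys a) ht hJ,
      OfLay.AT_eq (D.hyp a), inf_subgroupOf_right]
  obtain ⟨k, _, _, hk2, ⟨e⟩⟩ := hone a hJ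
  have hc : CharP k 2 := ringChar.of_eq hk2
  obtain ⟨e'⟩ := HexGlob.SLQuot.exists_equiv (F' := k) (K := k) Nat.card_eq_fintype_card.symm
  obtain ⟨X, hX⟩ := OfLay.exists_sylow (D.hyp a).toPre
  set φ : K a ≃* Matrix.SpecialLinearGroup (Fin 2) k := e.trans e' with hφ
  -- the Sylow 2-subgroup of `SL₂(k)`
  set Y : Sylow 2 (Matrix.SpecialLinearGroup (Fin 2) k) :=
    X.mapSurjective (f := φ.toMonoidHom) φ.surjective with hY
  have hmY : ∀ x : K a, φ x ∈ Y ↔ (x : HQ (R i)) ∈ AA V R i j := by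
    intro x
    have h3 : φ x ∈ Y ↔ x ∈ X := by
      constructor
      · rintro ⟨y, hy, e⟩
        have : y = x := φ.injective e
        rw [← this]
        exact hy
      · intro hx
        exact ⟨x, hx, rfl⟩
    rw [h3]
    show x ∈ (X : Subgroup (K a)) ↔ _
    rw [hX, h2, mem_subgroupOf]
  have hab : ∀ x ∈ Y, ∀ y ∈ Y, x * y = y * x := by
    intro x hx y hy
    obtain ⟨x, rfl⟩ := φ.surjective x
    obtain ⟨y, rfl⟩ := φ.surjective y
    have hx' := (hmY x).1 hx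
    have hy' := (hmY y).1 hy
    rw [← map_mul, ← map_mul]
    congr 1
    apply Subtype.ext
    show (x : HQ (R i)) * y = y * x
    have h3 := A_sq b hij (mul_mem hx' hy')
    have h4 := A_sq b hij hx'
    have h5 := A_sq b hij hy'
    have h6 : (x : HQ (R i))⁻¹ = x := inv_eq_of_mul_eq_one_left h4
    have h7 : (y : HQ (R i))⁻¹ = y := inv_eq_of_mul_eq_one_left h5
    have h8 : ((x : HQ (R i)) * y)⁻¹ = x * y := inv_eq_of_mul_eq_one_left h3
    rw [← h8, mul_inv_rev, h6, h7]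
  -- a nontrivial element
  obtain ⟨z, hz, hzD⟩ := hz
  have hzU : z ∈ UU V R j := ZZ_le_UU j hz
  have hzN := U_le_N b i j hzU
  have hz1 : pr (R i) ⟨z, hzN⟩ ≠ 1 := fun h => hzD ((U_inf_Q b hij hzU).1 ((pr_eq_one hzN).1 h))
  have hzA : pr (R i) ⟨z, hzN⟩ ∈ AA V R i j := (mem_AA b).2 ⟨z, hzU, rfl⟩
  intro x hx
  by_cases hx1 : x = 1
  · rw [hx1]; exact one_mem _
  have hYz : φ ⟨_, hA hzA⟩ ∈ Y := (hmY _).2 hzA
  have hYx : φ ⟨x, hA hx⟩ ∈ Y := (hmY _).2 hx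
  obtain ⟨g, hg, hgx⟩ := sl_trans Y hab hYz hYx (by
      rw [Ne, EmbeddingLike.map_eq_one_iff]
      exact fun h => hz1 (congrArg Subtype.val h)) (by
      rw [Ne, EmbeddingLike.map_eq_one_iff]
      exact fun h => hx1 (congrArg Subtype.val h))
  obtain ⟨g, rfl⟩ := φ.surjective g
  have hgA : ∀ y ∈ AA V R i j, (g : HQ (R i)) * y * (g : HQ (R i))⁻¹ ∈ AA V R i j := by
    intro y hy
    have h3 := (mem_normalizer_iff.1 hg (φ ⟨y, hA hy⟩)).1 ((hmY _).2 hy)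
    rw [← map_inv, ← map_mul, ← map_mul] at h3
    exact (hmY _).1 h3
  obtain ⟨g', hg', hgg⟩ := exists_pr (g : HQ (R i))
  have hV := hNV g' hg' (fun y hy => by rw [hgg]; exact hgA y hy)
  have h3 := conj_imZ b hij hg' hV (pr_mem_im hzN hz)
  rw [hgg] at h3
  rw [← map_inv, ← map_mul, ← map_mul] at hgx
  have h4 : (g : HQ (R i)) * pr (R i) ⟨z, hzN⟩ * (g : HQ (R i))⁻¹ = x := congrArg Subtype.val (φ.injective hgx)
  rwa [h4] at h3

/-- **ONE NODE IS IMPOSSIBLE** ((5) of bb #17641). -/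
theorem false_of_unique {M : Type u} [AddCommGroup M] [Module F M] [DistribMulAction (HQ (R i)) M] {p : G → M}
    {f : M →ₗ[F] M →ₗ[F] F} {e : F →ₗ[F] M} {ω : M →ₗ[F] F} {σ : HQ (R i) →* RingAut F} {κ : HQ (R i) → F}
    {N : Type u} [AddCommGroup N] [Module F N] {P1 P2 : G → N}
    (q : Fq V R i vv M p f e ω σ κ) (b : BTS V R) (c : Coord V R i j vv w1 w2)
    (τ : TorD V R i j vv t) (y : YPair V R i j w1 w2 N P1 P2) (hF : ∃ a : F, a ≠ 0 ∧ a ≠ 1)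
    (h4 : 4 ≤ Nat.card F) (hodd : Odd ((normalizer (V : Set G)).relIndex (normalizer (R i : Set G))))
    (hz : ∃ z ∈ ZZ V R j, z ∉ DD V R) (D : RS V R i j (TT τ) S K J P m) (hone : ∀ a, OneL (K a) (J a))
    (hNV : ∀ g (hg : g ∈ normalizer (R i : Set G)),
      (∀ a ∈ AA V R i j, pr (R i) ⟨g, hg⟩ * a * (pr (R i) ⟨g, hg⟩)⁻¹ ∈ AA V R i j) → g ∈ normalizer (V : Set G))
    (huniq : ∀ x x' : Σ a, J a, x = x') : False :=
  not_AA_le_imZ q b c τ y hF hodd hz (AA_le_imZ b.toBT τ c.ne h4 hz D hone hNV huniq)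

/-! ### `(γ)` implies ONE NODE -/

/-- **`(γ)` implies ONE NODE.** -/
theorem uniq_of_reg (b : BT V R) (τ : TorD V R i j vv t) (hij : i ≠ j) (h4 : 4 ≤ Nat.card F)
    (D : RS V R i j (TT τ) S K J P m)
    (hNV : ∀ g (hg : g ∈ normalizer (R i : Set G)),
      (∀ a ∈ AA V R i j, pr (R i) ⟨g, hg⟩ * a * (pr (R i) ⟨g, hg⟩)⁻¹ ∈ AA V R i j) → g ∈ normalizer (V : Set G))
    (x : Σ a, J a) (hx : ¬ PG K (TT τ) S P x ≤ normalizer (V : Set G))
    (reg : ∀ u ∈ UU V R j, ∀ g ∈ PG K (TT τ) S P x, g ∉ normalizer (V : Set G) →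
      g⁻¹ * u * g ∈ normalizer (V : Set G) → u ∈ DD V R) : ∀ y y' : Σ a, J a, y = y' := by
  obtain ⟨a, k⟩ := x
  have hQV : QQ (R i) ≤ normalizer (V : Set G) := b.Q_le_NV i
  set E₀ : Subgroup (HQ (R i)) := im (R i) (normalizer (V : Set G)) with hE₀
  have hmE : ∀ g (hg : g ∈ normalizer (R i : Set G)), pr (R i) ⟨g, hg⟩ ∈ E₀ ↔ g ∈ normalizer (V : Set G) :=
    fun g hg => pr_mem_im_iff hQV hg
  have hAE : AA V R i j ≤ E₀ := im_mono ((UU_le_cen j).trans (cen_le_NV V))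
  have hNE : ∀ g : HQ (R i), g ∈ normalizer (AA V R i j : Set (HQ (R i))) → g ∈ E₀ := by
    intro g hg
    obtain ⟨g', hg', rfl⟩ := exists_pr g
    exact (hmE g' hg').2 (hNV g' hg' fun y hy => (mem_normalizer_iff.1 hg y).1 hy)
  have hBE : ∀ x : K a, x ∈ normalizer (S.subgroupOf (K a) : Set (K a)) → (x : HQ (R i)) ∈ E₀ := fun x hx =>
    hNE _ (NA.norm_A_of_ksys (D.hyp a) (D.sys a) x.2 hx)
  have hmv : ∃ g ∈ P a k, (g : HQ (R i)) ∉ E₀ := by
    by_contra hcon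
    push Not at hcon
    apply hx
    have h1 : PPx K (fun a => S.subgroupOf (K a)) (TT τ) P ⟨a, k⟩ ≤ E₀ := by
      refine sup_le ?_ fun g hg => hNE g (D.CC_norm_A hg)
      rintro _ ⟨g, hg, rfl⟩
      exact hcon g hg
    intro g hg
    obtain ⟨hgN, hgP⟩ := Moved.mem_up.1 hg
    exact (hmE g hgN).1 (h1 hgP)
  have hreg : ∀ y ∈ AA V R i j, ∀ g ∈ P a k, (g : HQ (R i)) ∉ E₀ → (g : HQ (R i))⁻¹ * y * g ∈ E₀ → y = 1 := by
    intro y hy g hg hgE hyE
    obtain ⟨u, hu, rfl⟩ := (mem_AA b).1 hy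
    obtain ⟨g', hg', hgg⟩ := exists_pr (g : HQ (R i))
    rw [← hgg] at hgE hyE
    have hgP : g' ∈ PG K (TT τ) S P ⟨a, k⟩ := Moved.mem_up.2 ⟨hg', by
      rw [hgg]
      exact mem_sup_left ⟨g, hg, rfl⟩⟩
    have hgV : g' ∉ normalizer (V : Set G) := fun h => hgE ((hmE g' hg').2 h)
    rw [← map_inv, ← map_mul, ← map_mul] at hyE
    have huN := U_le_N b i j hu
    have h1 : g'⁻¹ * u * g' ∈ normalizer (V : Set G) :=
      (hmE _ (mul_mem (mul_mem (inv_mem hg') huN) hg')).1 hyE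
    have h2 := reg u hu g' hgP hgV h1
    exact (pr_eq_one huN).2 ((U_inf_Q b hij hu).2 h2)
  have htact : ∀ L, MComp V R i j L → TAct (S.subgroupOf L) (Tact (TT τ) L) := fun L hL =>
    tact_of_lay b τ hij h4 D.lay hL
  have hj : Moved (S.subgroupOf (K a)) (Tact (TT τ) (K a)) (P a k) := by
    rcases (D.sys a).dich k with hk | hk
    · exfalso
      have ht := htact _ (D.mem a)
      apply ht.ne
      rw [eq_bot_iff_forall]
      intro y hy
      have h1 : AT (S.subgroupOf (K a)) (Tact (TT τ) (K a)) ≤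
          Qk (normalizer (S.subgroupOf (K a) : Set (K a))) (P a k) := by
        unfold AT
        rw [closure_le]
        rintro _ ⟨s, hs, u, hu, rfl⟩
        exact hk s hs u hu
      obtain ⟨g, hg, hgE⟩ := hmv
      have h2 := hBE _ (h1 hy g hg)
      have hyA : (y : HQ (R i)) ∈ AA V R i j := by
        rw [OfLay.AT_eq (D.hyp a)] at hy
        exact (mem_subgroupOf.1 hy).1
      exact Subtype.ext (hreg _ hyA g hg hgE h2)
    · exact hk
  obtain ⟨h1, h2⟩ := KDOf.uniq_of_reg D.lay (D.mem a) htact (D.sys a) hj E₀ hAE hBE hmv hreg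
  have h3 : ∀ y : Σ a, J a, y = ⟨a, k⟩ := by
    rintro ⟨c, l⟩
    obtain rfl : c = a := D.inj (h1 _ (D.mem c))
    rw [h2 l k]
  intro y y'
  rw [h3 y, h3 y']

end real

end Cfsg.Agent.Omega.HOneQ.OneNode
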