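import Cfsg.Agent.Mrg.Omega.HOneQ.ResN
import Cfsg.Agent.Mrg.Omega.BTwo.QuadGrp

section


/-!
# II.0h1, split, `q ≥ 4`: (KEY) of #15939

`W0 = C_{W_i}(W_N)`, `m ∈ X` interchanges `R i`, `R j` and inverts the torus, `V_2' = m⁻¹ V' m ≤ U_j`.
* `HW` : for `g ∈ U_j`, `h, k ∈ U_i`: `h` commutes with `[g, k]` iff `k` commutes with `[g, h]`;
* `Sc.kx` : `[m w m⁻¹, x] ∈ V Ψ` for `w ∈ W0`, `x ∈ V'`;
* `Sc.key` : `[w, V_2'] ≤ R_i Ψ` for `w ∈ W0`, if the `R_i`-part of `[m w m⁻¹, x]` is `F`-linear in `x ∈ V'`.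
-/

set_option autoImplicit false
set_option linter.unusedSectionVars false

namespace Cfsg.Agent.Omega.HOneQ

open Subgroup Cfsg.Agent.Omega.BTwo
open Cfsg.Agent.Omega.Lie (TorD)

universe u v w

variable {G : Type u} [Group G] {ι : Type w} {V : Subgroup G} {R : ι → Subgroup G} {i j : ι} {P : Subgroup G}
  {F : Type v} [Field F] {vv : F → F → G} {t : F → G}

/-- `g ∈ U_j`, `h, k ∈ U_i`: if `h` commutes with `[g, k]`, then `k` commutes with `[g, h]` -/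
theorem HW (b : BT V R) {i j : ι} (hij : i ≠ j) {g h k : G} (hg : g ∈ UU V R j) (hh : h ∈ UU V R i)
    (hk : k ∈ UU V R i) (H : h * (g * k * g⁻¹ * k⁻¹) = (g * k * g⁻¹ * k⁻¹) * h) :
    k * (g * h * g⁻¹ * h⁻¹) = (g * h * g⁻¹ * h⁻¹) * k := by
  have he := b.UU_comm hij.symm hg hh
  have hf := b.UU_comm hij.symm hg hk
  set e := g * h * g⁻¹ * h⁻¹ with hee
  set f := g * k * g⁻¹ * k⁻¹ with hff
  have e1 : g * h * g⁻¹ = e * h := by rw [hee]; group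
  have e2 : g * k * g⁻¹ = f * k := by rw [hff]; group
  have hr : h * k * h⁻¹ * k⁻¹ ∈ R i := b.WU (UU_le_WW i hh) hk
  set r := h * k * h⁻¹ * k⁻¹ with hrr
  have hrV := b.R_le i hr
  have g1 : g * r * g⁻¹ = r := by
    rw [← mem_centralizer_iff.1 (UU_le_cen j hg) r hrV, mul_inv_cancel_right]
  have g2 : (e * h) * (f * k) * (e * h)⁻¹ * (f * k)⁻¹ = r := by
    rw [← e1, ← e2, ← g1, hrr]; group
  have g3 : (e * h) * (f * k) * (e * h)⁻¹ * (f * k)⁻¹ = e * f * r * (k * e⁻¹ * k⁻¹) * f⁻¹ := by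
    calc (e * h) * (f * k) * (e * h)⁻¹ * (f * k)⁻¹ = e * (h * f) * k * h⁻¹ * e⁻¹ * k⁻¹ * f⁻¹ := by group
      _ = e * (f * h) * k * h⁻¹ * e⁻¹ * k⁻¹ * f⁻¹ := by rw [H]
      _ = e * f * r * (k * e⁻¹ * k⁻¹) * f⁻¹ := by rw [hrr]; group
  have hke : k * e⁻¹ * k⁻¹ ∈ DD V R := conj_mem_of_normalizer (b.Y_le_ND (UU_le_YY i hk)) (inv_mem he)
  have c1 : r * (k * e⁻¹ * k⁻¹) = (k * e⁻¹ * k⁻¹) * r := mem_centralizer_iff.1 (b.D_le_cen hke) r hrV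
  have c2 := b.D_comm hf hke
  have c3 : r * f⁻¹ = f⁻¹ * r := mem_centralizer_iff.1 (b.D_le_cen (inv_mem hf)) r hrV
  have g4 : e * (k * e⁻¹ * k⁻¹) * r = r := by
    calc e * (k * e⁻¹ * k⁻¹) * r = e * ((k * e⁻¹ * k⁻¹) * f) * f⁻¹ * r := by group
      _ = e * (f * (k * e⁻¹ * k⁻¹)) * f⁻¹ * r := by rw [c2]
      _ = e * f * (k * e⁻¹ * k⁻¹) * (f⁻¹ * r) := by group
      _ = e * f * (k * e⁻¹ * k⁻¹) * (r * f⁻¹) := by rw [c3]
      _ = e * f * ((k * e⁻¹ * k⁻¹) * r) * f⁻¹ := by group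
      _ = e * f * (r * (k * e⁻¹ * k⁻¹)) * f⁻¹ := by rw [c1]
      _ = e * f * r * (k * e⁻¹ * k⁻¹) * f⁻¹ := by group
      _ = r := by rw [← g3, g2]
  have g5 : e * (k * e⁻¹ * k⁻¹) = 1 := mul_eq_right.1 g4
  have g6 : k * e⁻¹ * k⁻¹ = e⁻¹ := by
    calc k * e⁻¹ * k⁻¹ = e⁻¹ * (e * (k * e⁻¹ * k⁻¹)) := by group
      _ = e⁻¹ := by rw [g5, mul_one]
  calc k * e = (k * e⁻¹ * k⁻¹)⁻¹ * k := by group
    _ = e * k := by rw [g6, inv_inv]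

/-- the elements of `W_i` centralising `W_N` -/
def W0 (V : Subgroup G) (R : ι → Subgroup G) (i : ι) (P : Subgroup G) : Subgroup G :=
  WW V (R i) ⊓ centralizer (WN V P : Set G)

/-- `m ∈ X` interchanges `R i` and `R j` and inverts the torus -/
structure Sw (V : Subgroup G) (R : ι → Subgroup G) (i j : ι) (t : F → G) (m : G) : Prop where
  mX : m ∈ XX V R
  m1 : cj m (R i) = R j
  m2 : cj m (R j) = R i
  mt : ∀ a, a ≠ 0 → m * t a * m⁻¹ = (t a)⁻¹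

theorem W0_le_U : W0 V R i P ≤ UU V R i := fun _ h =>
  mem_inf.2 ⟨h.1, centralizer_le (V_le_WN V P) h.2⟩

theorem W0_comm {w x : G} (hw : w ∈ W0 V R i P) (hx : x ∈ WN V P) : w * x = x * w :=
  (mem_centralizer_iff.1 hw.2 x hx).symm

/-- `V ∩ C(X) = 1` in coordinates -/
theorem coord_unique (b : BT V R) (τ : TorD V R i j vv t) {r s r' s' : F} {ψ ψ' : G} (hψ : ψ ∈ CenX V R)
    (hψ' : ψ' ∈ CenX V R) (h : vv r s * ψ = vv r' s' * ψ') : r = r' ∧ s = s' ∧ ψ = ψ' := by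
  have h1 : vv (r - r') (s - s') * vv r' s' = vv r s := by
    rw [← τ.v_add, sub_add_cancel, sub_add_cancel]
  have h2 : vv (r - r') (s - s') = ψ' * ψ⁻¹ := by
    have h3 := mem_centralizer_iff.1 (BT.CenX_le_cen b hψ') (vv r' s') ((τ.v_mem _).2 ⟨_, _, rfl⟩)
    have h4 : vv (r - r') (s - s') = vv r s * (vv r' s')⁻¹ := by rw [← h1]; group
    rw [h4]
    calc vv r s * (vv r' s')⁻¹ = (vv r s * ψ) * ψ⁻¹ * (vv r' s')⁻¹ := by group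
      _ = (vv r' s' * ψ') * ψ⁻¹ * (vv r' s')⁻¹ := by rw [h]
      _ = vv r' s' * (ψ' * ψ⁻¹) * (vv r' s')⁻¹ := by group
      _ = ψ' * ψ⁻¹ := by
        rw [mem_centralizer_iff.1 (BT.CenX_le_cen b (mul_mem hψ' (inv_mem hψ))) (vv r' s')
          ((τ.v_mem _).2 ⟨_, _, rfl⟩), mul_inv_cancel_right]
  have h5 : vv (r - r') (s - s') = 1 :=
    b.cen_VX ((τ.v_mem _).2 ⟨_, _, rfl⟩) (by rw [h2]; exact mul_mem hψ' (inv_mem hψ))
  obtain ⟨h6, h7⟩ := τ.v_inj _ _ h5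
  refine ⟨sub_eq_zero.1 h6, sub_eq_zero.1 h7, ?_⟩
  rw [h2, mul_inv_eq_one] at h5
  exact h5.symm

theorem Psi_le_CenX : Psi V R P ≤ CenX V R := inf_le_right.trans inf_le_right

theorem Psi_le_D : Psi V R P ≤ DD V R := inf_le_right.trans inf_le_left

namespace Sc

variable {p' : G} (s : Sc V R i j vv t P p') (b : BTS V R) (τ : TorD V R i j vv t) {m : G} (sw : Sw V R i j t m)
include s b τ sw

/-- `[m w m⁻¹, x] = v r s · ψ` -/
def KX (V : Subgroup G) (R : ι → Subgroup G) (P : Subgroup G) (vv : F → F → G) (m w x : G) (r s' : F) : Prop :=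
  ∃ ψ ∈ Psi V R P, (m * w * m⁻¹) * x * (m * w * m⁻¹)⁻¹ * x⁻¹ = vv r s' * ψ

omit s sw in
theorem KX_unique {w x : G} {r s' r₂ s₂ : F} (h : KX V R P vv m w x r s') (h' : KX V R P vv m w x r₂ s₂) :
    r = r₂ ∧ s' = s₂ := by
  obtain ⟨ψ, hψ, e⟩ := h
  obtain ⟨ψ', hψ', e'⟩ := h'
  obtain ⟨h1, h2, -⟩ := coord_unique b.toBT τ (Psi_le_CenX hψ) (Psi_le_CenX hψ') (e.symm.trans e')
  exact ⟨h1, h2⟩

omit s τ in
theorem conj_U {w : G} (hw : w ∈ UU V R i) : m * w * m⁻¹ ∈ UU V R j :=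
  (b.cj_UU (b.X_le_NV sw.mX) sw.m1).le (conj_mem_cj hw)

omit s τ in
theorem conj_U' {w : G} (hw : w ∈ UU V R i) : m⁻¹ * w * m ∈ UU V R j := by
  have h : cj m⁻¹ (R i) = R j := by rw [← sw.m2, cj_inv_cj]
  have := (b.cj_UU (b.X_le_NV (inv_mem sw.mX)) h).le (conj_mem_cj hw)
  rwa [inv_inv] at this

omit τ in
/-- **(K1)**: `[m w m⁻¹, x]` is centralised by `U_i` -/
theorem kx_comm {w x : G} (hw : w ∈ W0 V R i P) (hx : x ∈ cj p' V) {u : G} (hu : u ∈ UU V R i) :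
    ((m * w * m⁻¹) * x * (m * w * m⁻¹)⁻¹ * x⁻¹) * u = u * ((m * w * m⁻¹) * x * (m * w * m⁻¹)⁻¹ * x⁻¹) := by
  have hwU : m * w * m⁻¹ ∈ UU V R j := conj_U b sw (W0_le_U hw)
  have hxU := s.leU hx
  set u' := m * w * m⁻¹ with hu'
  symm
  refine HW b.toBT s.hij hwU hxU hu ?_
  -- `x` commutes with `d' = [u', u]`
  have hd' := b.UU_comm (Ne.symm s.hij) hwU hu
  set d' := u' * u * u'⁻¹ * u⁻¹ with hdd
  have hx2 : m * x * m⁻¹ ∈ UU V R j := conj_U b sw hxU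
  -- `m x m⁻¹` commutes with `d'`
  have h1 : (m * x * m⁻¹) * d' = d' * (m * x * m⁻¹) := by
    have h2 : (m * x * m⁻¹) * (u * u' * u⁻¹ * u'⁻¹) = (u * u' * u⁻¹ * u'⁻¹) * (m * x * m⁻¹) := by
      refine HW b.toBT (Ne.symm s.hij) hu hwU hx2 ?_
      -- `u'` commutes with `[u, m x m⁻¹] = m [m⁻¹ u m, x] m⁻¹`
      have h3 : m⁻¹ * u * m ∈ UU V R j := conj_U' b sw hu
      have h4 : (m⁻¹ * u * m) * x * (m⁻¹ * u * m)⁻¹ * x⁻¹ ∈ WN V P :=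
        mul_mem (conj_mem_of_normalizer (P_norm_WN (s.UP h3)) (line_le_WN s.mem hx))
          (inv_mem (line_le_WN s.mem hx))
      have h5 := W0_comm hw h4
      have e1 : u * (m * x * m⁻¹) * u⁻¹ * (m * x * m⁻¹)⁻¹ =
          m * ((m⁻¹ * u * m) * x * (m⁻¹ * u * m)⁻¹ * x⁻¹) * m⁻¹ := by group
      rw [e1, hu']
      calc m * w * m⁻¹ * (m * ((m⁻¹ * u * m) * x * (m⁻¹ * u * m)⁻¹ * x⁻¹) * m⁻¹)
          = m * (w * ((m⁻¹ * u * m) * x * (m⁻¹ * u * m)⁻¹ * x⁻¹)) * m⁻¹ := by group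
        _ = m * (((m⁻¹ * u * m) * x * (m⁻¹ * u * m)⁻¹ * x⁻¹) * w) * m⁻¹ := by rw [h5]
        _ = _ := by group
    have e2 : u * u' * u⁻¹ * u'⁻¹ = d'⁻¹ := by rw [hdd]; group
    rw [e2] at h2
    calc (m * x * m⁻¹) * d' = d' * (d'⁻¹ * (m * x * m⁻¹)) * d' := by group
      _ = d' * ((m * x * m⁻¹) * d'⁻¹) * d' := by rw [h2]
      _ = d' * (m * x * m⁻¹) := by group
  -- pull back by `m`
  have h3 := b.XD sw.mX hd'
  have h4 := mem_centralizer_iff.1 (UU_le_cen j hx2) _ h3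
  have h5 : (m * x * m⁻¹) * (m * d' * m⁻¹) = (m * d' * m⁻¹) * (m * x * m⁻¹) := by
    have e3 : m * d' * m⁻¹ = (m * d' * m⁻¹ * d'⁻¹) * d' := by group
    rw [e3]
    calc (m * x * m⁻¹) * ((m * d' * m⁻¹ * d'⁻¹) * d') = ((m * x * m⁻¹) * (m * d' * m⁻¹ * d'⁻¹)) * d' := by group
      _ = (m * d' * m⁻¹ * d'⁻¹) * ((m * x * m⁻¹) * d') := by rw [← h4]; group
      _ = (m * d' * m⁻¹ * d'⁻¹) * d' * (m * x * m⁻¹) := by rw [h1]; group
  calc x * d' = m⁻¹ * ((m * x * m⁻¹) * (m * d' * m⁻¹)) * m := by group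
    _ = m⁻¹ * ((m * d' * m⁻¹) * (m * x * m⁻¹)) * m := by rw [h5]
    _ = d' * x := by group

/-- **(K1)**: `[m w m⁻¹, x] ∈ V Ψ` -/
theorem kx {w x : G} (hw : w ∈ W0 V R i P) (hx : x ∈ cj p' V) : ∃ r s', KX V R P vv m w x r s' := by
  have hwU : m * w * m⁻¹ ∈ UU V R j := conj_U b sw (W0_le_U hw)
  obtain ⟨v, hv, h⟩ := b.cen_DU (i := i) (b.UU_comm (Ne.symm s.hij) hwU (s.leU hx))
    (fun u hu => s.kx_comm b sw hw hx hu)
  obtain ⟨r, s', e⟩ := (τ.v_mem _).1 (inv_mem hv)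
  refine ⟨r, s', v * ((m * w * m⁻¹) * x * (m * w * m⁻¹)⁻¹ * x⁻¹), mem_inf.2 ⟨?_, h⟩, ?_⟩
  · exact mul_mem (V_le_WN V P hv) (mul_mem (conj_mem_of_normalizer (P_norm_WN (s.UP hwU)) (line_le_WN s.mem hx))
      (inv_mem (line_le_WN s.mem hx)))
  · rw [e]; group

/-- `KX` is additive in `w` -/
theorem KX_mul {w w' x : G} {r r₂ s' s₂ : F} (hw : w ∈ W0 V R i P) (h : KX V R P vv m w x r s')
    (h' : KX V R P vv m w' x r₂ s₂) : KX V R P vv m (w * w') x (r + r₂) (s' + s₂) := by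
  obtain ⟨ψ, hψ, e⟩ := h
  obtain ⟨ψ', hψ', e'⟩ := h'
  refine ⟨ψ * ψ', mul_mem hψ hψ', ?_⟩
  have hwU : m * w * m⁻¹ ∈ UU V R j := conj_U b sw (W0_le_U hw)
  set g := m * w * m⁻¹ with hg
  set g' := m * w' * m⁻¹ with hg'
  have e1 : m * (w * w') * m⁻¹ = g * g' := by rw [hg, hg']; group
  have c1 : g * (vv r₂ s₂ * ψ') = (vv r₂ s₂ * ψ') * g := by
    have h1 := mem_centralizer_iff.1 (UU_le_cen j hwU) _ ((τ.v_mem _).2 ⟨r₂, s₂, rfl⟩)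
    have h2 := mem_centralizer_iff.1 (Psi_le_CenX hψ') g (YY_le_XX (UU_le_YY j hwU))
    calc g * (vv r₂ s₂ * ψ') = (g * vv r₂ s₂) * ψ' := by group
      _ = vv r₂ s₂ * (g * ψ') := by rw [← h1]; group
      _ = _ := by rw [h2]; group
  have c2 : (vv r₂ s₂) * ψ = ψ * vv r₂ s₂ :=
    mem_centralizer_iff.1 (BT.CenX_le_cen b.toBT (Psi_le_CenX hψ)) _ ((τ.v_mem _).2 ⟨r₂, s₂, rfl⟩)
  rw [e1]
  calc g * g' * x * (g * g')⁻¹ * x⁻¹ = g * (g' * x * g'⁻¹ * x⁻¹) * g⁻¹ * (g * x * g⁻¹ * x⁻¹) := by group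
    _ = g * (vv r₂ s₂ * ψ') * g⁻¹ * (vv r s' * ψ) := by rw [e', e]
    _ = (vv r₂ s₂ * ψ') * (vv r s' * ψ) := by rw [c1, mul_inv_cancel_right]
    _ = (vv r s' * ψ) * (vv r₂ s₂ * ψ') := by
      refine b.D_comm ?_ ?_
      · exact mul_mem (V_le_D V R ((τ.v_mem _).2 ⟨_, _, rfl⟩)) (Psi_le_D hψ')
      · exact mul_mem (V_le_D V R ((τ.v_mem _).2 ⟨_, _, rfl⟩)) (Psi_le_D hψ)
    _ = vv r s' * (vv r₂ s₂ * ψ) * ψ' := by rw [c2]; group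
    _ = _ := by rw [τ.v_add]; group

/-- the torus -/
theorem KX_tor {w x : G} {r s' a : F} (ha : a ≠ 0) (h : KX V R P vv m w x r s') :
    KX V R P vv m ((t a)⁻¹ * w * t a) (t a * x * (t a)⁻¹) (a * r) (a⁻¹ * s') := by
  obtain ⟨ψ, hψ, e⟩ := h
  have h1 : t a * ψ * (t a)⁻¹ = ψ := by
    rw [mem_centralizer_iff.1 (Psi_le_CenX hψ) (t a) (τ.memX a ha), mul_inv_cancel_right]
  refine ⟨ψ, hψ, ?_⟩
  have h2 := sw.mt a ha
  have h3 : m * (t a)⁻¹ * m⁻¹ = t a := by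
    have : m * (t a)⁻¹ * m⁻¹ = (m * t a * m⁻¹)⁻¹ := by group
    rw [this, h2, inv_inv]
  have e1 : m * ((t a)⁻¹ * w * t a) * m⁻¹ = t a * (m * w * m⁻¹) * (t a)⁻¹ := by
    calc m * ((t a)⁻¹ * w * t a) * m⁻¹ = (m * (t a)⁻¹ * m⁻¹) * (m * w * m⁻¹) * (m * t a * m⁻¹) := by group
      _ = _ := by rw [h2, h3]
  rw [e1]
  calc t a * (m * w * m⁻¹) * (t a)⁻¹ * (t a * x * (t a)⁻¹) * (t a * (m * w * m⁻¹) * (t a)⁻¹)⁻¹ *
      (t a * x * (t a)⁻¹)⁻¹ = t a * (m * w * m⁻¹ * x * (m * w * m⁻¹)⁻¹ * x⁻¹) * (t a)⁻¹ := by group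
    _ = (t a * vv r s' * (t a)⁻¹) * (t a * ψ * (t a)⁻¹) := by rw [e]; group
    _ = _ := by rw [h1, τ.act a r s' ha]

omit sw in
theorem W0_tor {w : G} (hw : w ∈ W0 V R i P) {a : F} (ha : a ≠ 0) : t a * w * (t a)⁻¹ ∈ W0 V R i P := by
  refine mem_inf.2 ⟨conj_mem_of_normalizer (normalizer_le_WW V (R i) (τ.normR ha)) hw.1, ?_⟩
  exact conj_mem_of_normalizer (normalizer_le_normalizer_centralizer _ (s.t_norm_WN b τ ha)) hw.2

/-- the hypothesis of linearity: the `R_i`-part of `[m w m⁻¹, x]` is `F`-linear in `x ∈ V'` -/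
def Lin (V : Subgroup G) (R : ι → Subgroup G) (i : ι) (P : Subgroup G) (vv : F → F → G) (m p' : G) : Prop :=
  ∀ w ∈ W0 V R i P, ∃ κ : F, ∀ y z r s', KX V R P vv m w (p' * vv y z * p'⁻¹) r s' → r = z * κ

/-- **(K2)** -/
theorem key_zero (hF : ∃ a : F, a ≠ 0 ∧ a ≠ 1) (lin : Lin V R i P vv m p') {w x : G} (hw : w ∈ W0 V R i P)
    (hx : x ∈ cj p' V) {r s' : F} (h : KX V R P vv m w x r s') : r = 0 := by
  have h2F : ∀ x : F, x + x = 0 := Cfsg.Agent.Omega.Lie.TorD.two b.toBT τ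
  choose κ hκ using lin
  have hx01 : p' * vv 0 1 * p'⁻¹ ∈ cj p' V := (s.mem_line τ).2 ⟨0, 1, rfl⟩
  -- `κ (t w t⁻¹) = κ w`
  have k1 : ∀ w (hw : w ∈ W0 V R i P) a (ha : a ≠ 0), κ _ (s.W0_tor b τ hw ha) = κ w hw := by
    intro w hw a ha
    obtain ⟨r, s', h⟩ := s.kx b τ sw hw hx01
    have h1 := s.KX_tor b τ sw (inv_ne_zero ha) h
    rw [s.sc _ _ _ (inv_ne_zero ha), τ.inv ha, inv_inv] at h1
    have h2 := hκ _ (s.W0_tor b τ hw ha) _ _ _ _ h1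
    have h3 := hκ w hw _ _ _ _ h
    rw [one_mul] at h3
    rw [mul_one] at h2
    rw [← h3]
    exact (mul_left_cancel₀ (inv_ne_zero ha) h2).symm
  have k2 : ∀ w w' (hw : w ∈ W0 V R i P) (hw' : w' ∈ W0 V R i P), κ _ (mul_mem hw hw') = κ w hw + κ w' hw' := by
    intro w w' hw hw'
    obtain ⟨r, s', h⟩ := s.kx b τ sw hw hx01
    obtain ⟨r₂, s₂, h'⟩ := s.kx b τ sw hw' hx01
    have h1 := hκ _ (mul_mem hw hw') _ _ _ _ (s.KX_mul b τ sw hw h h')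
    have h3 := hκ w hw _ _ _ _ h
    have h4 := hκ w' hw' _ _ _ _ h'
    rw [one_mul] at h1 h3 h4
    rw [← h1, h3, h4]
  have k3 : ∀ d (hd : d ∈ W0 V R i P), d ∈ DD V R → κ d hd = 0 := by
    intro d hd hdD
    have h1 : KX V R P vv m d (p' * vv 0 1 * p'⁻¹) 0 0 := by
      refine ⟨1, one_mem _, ?_⟩
      have h2 := b.XD sw.mX hdD
      set x := p' * vv 0 1 * p'⁻¹ with hx
      have h3 := mem_centralizer_iff.1 (UU_le_cen i (s.leU hx01)) _ h2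
      have h4 := W0_comm hd (line_le_WN s.mem hx01)
      have e3 : m * d * m⁻¹ = (m * d * m⁻¹ * d⁻¹) * d := by group
      have h5 : (m * d * m⁻¹) * x = x * (m * d * m⁻¹) := by
        rw [e3]
        calc (m * d * m⁻¹ * d⁻¹) * d * x = (m * d * m⁻¹ * d⁻¹) * (d * x) := by group
          _ = ((m * d * m⁻¹ * d⁻¹) * x) * d := by rw [h4]; group
          _ = x * ((m * d * m⁻¹ * d⁻¹) * d) := by rw [h3]; group
      rw [h5, v_zero τ]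
      group
    have h2 := hκ d hd _ _ _ _ h1
    rw [one_mul] at h2
    exact h2.symm
  -- `κ w = 0`
  obtain ⟨a, ha, ha1⟩ := hF
  have ha1' : a + 1 ≠ 0 := by
    intro h1
    apply ha1
    calc a = a + (1 + 1) := by rw [h2F, add_zero]
      _ = (a + 1) + 1 := by ring
      _ = 1 := by rw [h1, zero_add]
  have h3 := τ.wU a 1 ha one_ne_zero ha1' w (W0_le_U hw)
  rw [τ.one, one_mul, inv_one, mul_one] at h3
  set d := t (a + 1) * w * (t (a + 1))⁻¹ * (t a * w * (t a)⁻¹ * w)⁻¹ with hd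
  have hd0 : d ∈ W0 V R i P := mul_mem (s.W0_tor b τ hw ha1') (inv_mem (mul_mem (s.W0_tor b τ hw ha) hw))
  have h4 := k2 d _ hd0 (mul_mem (s.W0_tor b τ hw ha) hw)
  have h5 := k2 _ _ (s.W0_tor b τ hw ha) hw
  have e1 : d * (t a * w * (t a)⁻¹ * w) = t (a + 1) * w * (t (a + 1))⁻¹ := by rw [hd]; group
  have h6 : κ _ (mul_mem hd0 (mul_mem (s.W0_tor b τ hw ha) hw)) = κ _ (s.W0_tor b τ hw ha1') := by
    congr 1
  rw [h6, k1 w hw _ ha1', k3 d hd0 h3, h5, k1 w hw _ ha, h2F, add_zero] at h4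
  obtain ⟨y, z, rfl⟩ := (s.mem_line τ).1 hx
  rw [hκ w hw _ _ _ _ h, h4, mul_zero]

/-- **(KEY)**: `[w, m⁻¹ x m] ∈ R_i Ψ` for `w ∈ W0`, `x ∈ V'` -/
theorem key (hF : ∃ a : F, a ≠ 0 ∧ a ≠ 1) (lin : Lin V R i P vv m p') {w x : G} (hw : w ∈ W0 V R i P)
    (hx : x ∈ cj p' V) : ∃ a ∈ R i, ∃ ψ ∈ Psi V R P, w * (m⁻¹ * x * m) * w⁻¹ * (m⁻¹ * x * m)⁻¹ = a * ψ := by
  obtain ⟨r, s', h⟩ := s.kx b τ sw hw hx
  have h0 := s.key_zero b τ sw hF lin hw hx h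
  subst h0
  obtain ⟨ψ, hψ, e⟩ := h
  refine ⟨m⁻¹ * vv 0 s' * m, ?_, ψ, hψ, ?_⟩
  · have h1 : cj m⁻¹ (R j) = R i := by rw [← sw.m1, cj_inv_cj]
    have h2 := h1.le (conj_mem_cj ((τ.Rj _).2 ⟨s', rfl⟩))
    rwa [inv_inv] at h2
  · have h1 : m⁻¹ * ψ * m = ψ := by
      have h2 := mem_centralizer_iff.1 (Psi_le_CenX hψ) m sw.mX
      rw [mul_assoc, ← h2]; group
    calc w * (m⁻¹ * x * m) * w⁻¹ * (m⁻¹ * x * m)⁻¹ =
        m⁻¹ * ((m * w * m⁻¹) * x * (m * w * m⁻¹)⁻¹ * x⁻¹) * m := by group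
      _ = (m⁻¹ * vv 0 s' * m) * (m⁻¹ * ψ * m) := by rw [e]; group
      _ = _ := by rw [h1]

end Sc

end Cfsg.Agent.Omega.HOneQ

end

section


/-!
# II.0h1, split, `q ≥ 4`: the hypothesis `Lin` of (KEY) in types `β` and `σ` (#15939)

* `act_lin` : `g ∈ N(V) ∩ C(R i)` acts on `V` as `v b c ↦ v (b + β c) (γ c)`;
* `Sc.lin_of_rigid` (`β`): if `V, V'` are the only lines in `V V' Z_i`;
* `Sc.lin_of_pi`, `Sc.exists_pi`, `Sc.lin_of_tau` (`σ`): from an element `τ = p t_a` centralising `W_N Z_i / Z_i`.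
-/

set_option autoImplicit false
set_option linter.unusedSectionVars false

namespace Cfsg.Agent.Omega.HOneQ

open Subgroup Cfsg.Agent.Omega.BTwo
open Cfsg.Agent.Omega.Lie (TorD)

universe u v w

variable {G : Type u} [Group G] {ι : Type w} {V : Subgroup G} {R : ι → Subgroup G} {i j : ι} {P : Subgroup G}
  {F : Type v} [Field F] {vv : F → F → G} {t : F → G} {w1 w2 : F → G}

/-- an element of `N(V) ∩ C(R i)` normalising `R j`, or any other point, is a scalar there -/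
theorem act_lin (b : BT V R) (c : Coord V R i j vv w1 w2) {g : G} (hV : g ∈ normalizer (V : Set G))
    (hR : g ∈ centralizer (R i : Set G)) : ∃ β γ : F, γ ≠ 0 ∧ ∀ x y, g * vv x y * g⁻¹ = vv (x + β * y) (γ * y) := by
  have hgR : ∀ x, g * vv x 0 * g⁻¹ = vv x 0 := fun x => by
    rw [← mem_centralizer_iff.1 hR _ ((c.mem_R1 _).2 ⟨x, rfl⟩), mul_inv_cancel_right]
  have hgRi : cj g (R i) = R i := cj_eq_self_iff.2 (centralizer_le_normalizer _ hR)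
  -- the image of the point `cj w (R j)`, `w ∈ W i`
  have key : ∀ w ∈ WW V (R i), ∃ s : F, ∀ y, ∃ y', g * (w * vv 0 y * w⁻¹) * g⁻¹ = vv (s * y') y' := by
    intro w hw
    obtain ⟨l, hl⟩ := b.perm (g * w) (mul_mem hV (b.W_le_NV i hw)) j
    have hli : l ≠ i := by
      rintro rfl
      have h1 : cj (g * w) (R l) = R l := by
        rw [cj_mul, cj_eq_self_iff.2 (b.W_le_N l hw), hgRi]
      exact c.ne (b.R_index (cj_injective (h1.trans hl.symm)))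
    obtain ⟨w', hw', e⟩ := b.trans i (Ne.symm c.ne) hli
    obtain ⟨s, hs⟩ := c.W1_act w' hw'
    refine ⟨s, fun y => ?_⟩
    have h1 : g * (w * vv 0 y * w⁻¹) * g⁻¹ ∈ R l := by
      rw [← hl]
      have := conj_mem_cj (g := g * w) ((c.mem_R2 _).2 ⟨y, rfl⟩)
      have e1 : g * w * vv 0 y * (g * w)⁻¹ = g * (w * vv 0 y * w⁻¹) * g⁻¹ := by group
      rwa [e1] at this
    rw [← e, mem_cj, c.mem_R2] at h1
    obtain ⟨y', hy'⟩ := h1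
    refine ⟨y', ?_⟩
    have h2 := hs 0 y'
    rw [zero_add] at h2
    rw [← h2, hy']; group
  obtain ⟨s0, h0⟩ := key 1 (one_mem _)
  choose γ hγ using h0
  have hγ' : ∀ y, g * vv 0 y * g⁻¹ = vv (s0 * γ y) (γ y) := fun y => by
    have := hγ y
    rwa [one_mul, inv_one, mul_one] at this
  obtain ⟨s1, h1⟩ := key (w1 1) (c.w1_mem 1)
  have h2 : ∀ y, y + s0 * γ y = s1 * γ y := by
    intro y
    obtain ⟨y', hy'⟩ := h1 y
    rw [c.w1_act, zero_add, one_mul] at hy'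
    have h3 : g * vv y y * g⁻¹ = vv (y + s0 * γ y) (γ y) := by
      have h4 : vv y y = vv y 0 * vv 0 y := by rw [← c.v_add, add_zero, zero_add]
      have h5 : g * vv y y * g⁻¹ = (g * vv y 0 * g⁻¹) * (g * vv 0 y * g⁻¹) := by rw [h4]; group
      rw [h5, hgR, hγ', ← c.v_add, zero_add]
    rw [h3] at hy'
    obtain ⟨h6, h7⟩ := c.v_inj hy'
    rw [← h7] at h6
    exact h6
  have h3 : ∀ y, y = (s1 - s0) * γ y := fun y => by
    rw [sub_mul, ← h2]; ring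
  have hne : s1 - s0 ≠ 0 := by
    intro h
    have := h3 1
    rw [h, zero_mul] at this
    exact one_ne_zero this
  have h4 : ∀ y, γ y = (s1 - s0)⁻¹ * y := fun y => by
    nth_rw 2 [h3 y]
    rw [inv_mul_cancel_left₀ hne]
  refine ⟨s0 * (s1 - s0)⁻¹, (s1 - s0)⁻¹, inv_ne_zero hne, fun x y => ?_⟩
  have h5 : vv x y = vv x 0 * vv 0 y := by rw [← c.v_add, add_zero, zero_add]
  have h6 : g * vv x y * g⁻¹ = (g * vv x 0 * g⁻¹) * (g * vv 0 y * g⁻¹) := by rw [h5]; group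
  rw [h6, hgR, hγ', h4, ← c.v_add, zero_add, mul_assoc]

namespace Sc

variable {p' : G} (s : Sc V R i j vv t P p') (b : BTS V R) (τ : TorD V R i j vv t) {m : G} (sw : Sw V R i j t m)
  (c : Coord V R i j vv w1 w2)
include s b τ c

omit b τ in
theorem conj_line {p : G} (hp : p ∈ P) (x y : F) {q : G} (hq : q ∈ P) (h : cj p V = cj q V) (b : BT V R) :
    ∃ β γ : F, γ ≠ 0 ∧ ∀ x y, p * vv x y * p⁻¹ = q * vv (x + β * y) (γ * y) * q⁻¹ := by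
  have _ := x
  have _ := y
  have hz : q⁻¹ * p ∈ normalizer (V : Set G) := by
    rw [← cj_eq_self_iff, cj_mul, h, cj_inv_cj]
  obtain ⟨β, γ, hγ, h1⟩ := act_lin b c hz (s.PR (mul_mem (inv_mem hq) hp))
  refine ⟨β, γ, hγ, fun x y => ?_⟩
  rw [← h1]; group

include sw in
/-- type `β`: `V` and `V'` are the only lines in `V V' Z_i` -/
theorem lin_of_rigid (hr : ∀ p ∈ P, cj p V ≤ cj p' V ⊔ (V ⊔ ZZ V R i) → cj p V = V ∨ cj p V = cj p' V) :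
    Lin V R i P vv m p' := by
  intro w hw
  have hwU := conj_U b sw (W0_le_U hw)
  set u := m * w * m⁻¹ with hu
  have huP : u ∈ P := s.UP hwU
  -- `V'^u ≤ V' V Z`
  have h1 : cj (u * p') V ≤ cj p' V ⊔ (V ⊔ ZZ V R i) := by
    rw [cj_mul]
    refine cj_le_of_comm le_sup_left fun x hx => (le_sup_right : V ⊔ ZZ V R i ≤ _) ?_
    obtain ⟨r, s', ψ, hψ, e⟩ := s.kx b τ sw hw hx
    rw [e]
    refine mul_mem ((le_sup_left : V ≤ _) ((τ.v_mem _).2 ⟨_, _, rfl⟩)) ((le_sup_right : ZZ V R i ≤ _) ?_)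
    exact mem_inf.2 ⟨D_le_W V R i (Psi_le_D hψ), cen_X_le i (Psi_le_CenX hψ)⟩
  have h2 : cj (u * p') V = cj p' V := by
    rcases hr _ (mul_mem huP s.mem) h1 with h | h
    · exfalso
      apply s.ne
      have h3 : cj u⁻¹ (cj (u * p') V) = cj u⁻¹ V := by rw [h]
      rw [← cj_mul, inv_mul_cancel_left] at h3
      rw [h3]
      exact cj_eq_self_iff.2 (cen_le_NV V (inv_mem (UU_le_cen j hwU)))
    · exact h
  obtain ⟨β, γ, hγ, h3⟩ := s.conj_line c (mul_mem huP s.mem) 0 0 s.mem h2 b.toBT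
  -- `[u, v' y z] = v'(β z, (γ - 1) z)`
  have h4 : ∀ y z, u * (p' * vv y z * p'⁻¹) * u⁻¹ * (p' * vv y z * p'⁻¹)⁻¹ =
      p' * vv (β * z) (γ * z - z) * p'⁻¹ := by
    intro y z
    have e1 : u * (p' * vv y z * p'⁻¹) * u⁻¹ = u * p' * vv y z * (u * p')⁻¹ := by group
    have e2 := s.line_add τ (β * z) (γ * z - z) y z
    rw [e1, h3, add_comm y, show γ * z = (γ * z - z) + z by ring, e2]
    rw [show γ * z - z + z - z = γ * z - z by ring]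
    group
  -- it is in `V Z`, so in `R i`
  refine ⟨β, fun y z r s' hk => ?_⟩
  obtain ⟨ψ, hψ, e⟩ := hk
  rw [← hu, h4] at e
  have h5 : p' * vv (β * z) (γ * z - z) * p'⁻¹ ∈ R i := by
    refine s.inf_eq b s.mem (one_mem P) (by rw [cj_one]; exact s.ne) ((s.mem_line τ).2 ⟨_, _, rfl⟩) ?_
    rw [e, cj_one]
    refine mul_mem ((le_sup_left : V ≤ _) ((τ.v_mem _).2 ⟨_, _, rfl⟩)) ((le_sup_right : ZZ V R i ≤ _) ?_)
    exact mem_inf.2 ⟨D_le_W V R i (Psi_le_D hψ), cen_X_le i (Psi_le_CenX hψ)⟩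
  rw [s.line_mem_R τ] at h5
  rw [h5, s.line_R τ] at e
  have h6 : vv (β * z) 0 * 1 = vv r s' * ψ := by rw [mul_one, e]
  obtain ⟨h7, -, -⟩ := coord_unique b.toBT τ (one_mem _) (Psi_le_CenX hψ) h6
  rw [← h7, mul_comm]

/-- a projection of `W_N` on `R i`, trivial on `R j` and `Ψ`, `F`-linear on the lines -/
structure Prj (V : Subgroup G) (R : ι → Subgroup G) (i : ι) (P : Subgroup G) (vv : F → F → G) (π : G → F) : Prop where
  mul : ∀ x ∈ WN V P, ∀ y ∈ WN V P, π (x * y) = π x + π y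
  onV : ∀ x y, π (vv x y) = x
  onPsi : ∀ ψ ∈ Psi V R P, π ψ = 0
  lin : ∀ p ∈ P, ∃ α : F, ∀ x y, π (p * vv x y * p⁻¹) = x + α * y

include sw in
theorem lin_of_pi {π : G → F} (h : Prj V R i P vv π) : Lin V R i P vv m p' := by
  intro w hw
  have hwU := conj_U b sw (W0_le_U hw)
  set u := m * w * m⁻¹ with hu
  have huP : u ∈ P := s.UP hwU
  obtain ⟨α, hα⟩ := h.lin _ (mul_mem huP s.mem)
  obtain ⟨α', hα'⟩ := h.lin _ s.mem
  refine ⟨α - α', fun y z r s' hk => ?_⟩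
  obtain ⟨ψ, hψ, e⟩ := hk
  rw [← hu] at e
  have h1 : u * (p' * vv y z * p'⁻¹) * u⁻¹ = (vv r s' * ψ) * (p' * vv y z * p'⁻¹) := by
    rw [← e]; group
  have hl : p' * vv y z * p'⁻¹ ∈ WN V P := line_le_WN s.mem ((s.mem_line τ).2 ⟨_, _, rfl⟩)
  have hv : vv r s' ∈ WN V P := V_le_WN V P ((τ.v_mem _).2 ⟨_, _, rfl⟩)
  have hψ' : ψ ∈ WN V P := hψ.1
  have h2 := h.mul _ (mul_mem hv hψ') _ hl
  rw [← h1, h.mul _ hv _ hψ', h.onV, h.onPsi ψ hψ, add_zero, hα'] at h2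
  have e1 : u * (p' * vv y z * p'⁻¹) * u⁻¹ = u * p' * vv y z * (u * p')⁻¹ := by group
  rw [e1, hα] at h2
  linear_combination -h2

omit b τ c in
/-- elements of a line in `R i` -/
theorem mem_R_of (τ : TorD V R i j vv t) {p : G} (hp : p ∈ P) {y z : F} (h : p * vv y z * p⁻¹ ∈ R i) : z = 0 := by
  have h1 := s.conj_R (inv_mem hp) h
  have e : p⁻¹ * (p * vv y z * p⁻¹) * p⁻¹⁻¹ = vv y z := by group
  rw [e] at h1
  rw [← h1] at h
  obtain ⟨x, hx⟩ := (τ.Ri _).1 h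
  have h2 : vv (x - y) (0 - z) = 1 := by
    have h3 := τ.v_add (x - y) (0 - z) y z
    rw [sub_add_cancel, sub_add_cancel, hx] at h3
    exact right_eq_mul.1 h3
  have h3 := (τ.v_inj _ _ h2).2
  rwa [zero_sub, neg_eq_zero] at h3

/-- the image of a point of a line under `p₀ t_a`, if `p₀ t_a` is trivial on `W_N Z / Z` -/
theorem tau_line {p₀ a : _} (hp₀ : p₀ ∈ P) (ha : a ≠ 0)
    (h1 : ∀ x ∈ WN V P, (p₀ * t a) * x * (p₀ * t a)⁻¹ * x⁻¹ ∈ ZZ V R i) {p : G} (hp : p ∈ P) :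
    ∃ β γ : F, ∀ x y, (p₀ * t a) * (p * vv x y * p⁻¹) * (p₀ * t a)⁻¹ =
      p * vv (a * x + β * (a⁻¹ * y)) (γ * (a⁻¹ * y)) * p⁻¹ := by
  have hpt : t a * p * (t a)⁻¹ ∈ P := conj_mem_of_normalizer (s.tP a ha) hp
  have hq : p₀ * (t a * p * (t a)⁻¹) ∈ P := mul_mem hp₀ hpt
  have e1 : p₀ * t a * p = p₀ * (t a * p * (t a)⁻¹) * t a := by group
  have htV := s.t_norm_V b τ ha
  have h2 : cj (p₀ * (t a * p * (t a)⁻¹)) V = cj p V := by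
    refine s.inj b hq hp ?_
    have e2 : cj (p₀ * (t a * p * (t a)⁻¹)) V = cj (p₀ * t a) (cj p V) := by
      calc cj (p₀ * (t a * p * (t a)⁻¹)) V = cj (p₀ * (t a * p * (t a)⁻¹)) (cj (t a) V) := by
            rw [cj_eq_self_iff.2 htV]
        _ = _ := by rw [← cj_mul, ← e1, cj_mul]
    rw [e2]
    exact cj_le_of_comm le_sup_left fun x hx => (le_sup_right : ZZ V R i ≤ _) (h1 x (line_le_WN hp hx))
  obtain ⟨β, γ, -, h3⟩ := s.conj_line c hq 0 0 hp h2 b.toBT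
  refine ⟨β, γ, fun x y => ?_⟩
  have e3 : (p₀ * t a) * (p * vv x y * p⁻¹) * (p₀ * t a)⁻¹ =
      p₀ * (t a * p * (t a)⁻¹) * (t a * vv x y * (t a)⁻¹) * (p₀ * (t a * p * (t a)⁻¹))⁻¹ := by group
  rw [e3, τ.act a x y ha, h3]

/-- **(σ)** the projection from `τ = p₀ t_a` -/
theorem exists_pi (hF : ∃ a : F, a ≠ 0 ∧ a ≠ 1) {p₀ : G} {a : F} (hp₀ : p₀ ∈ P) (ha : a ≠ 0) (ha1 : a ≠ 1)
    (h1 : ∀ x ∈ WN V P, (p₀ * t a) * x * (p₀ * t a)⁻¹ * x⁻¹ ∈ ZZ V R i)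
    (h2 : ∀ ψ ∈ Psi V R P, p₀ * ψ = ψ * p₀) (h3 : p₀ * t a ∈ normalizer (R j : Set G)) :
    ∃ π : G → F, Prj V R i P vv π := by
  classical
  have ha1' : a - 1 ≠ 0 := sub_ne_zero.2 ha1
  set g := p₀ * t a with hg
  have hgN : g ∈ normalizer (WN V P : Set G) := mul_mem (P_norm_WN hp₀) (s.t_norm_WN b τ ha)
  -- `[g, x] = v ρ 0 ψ`
  let Q : G → F → Prop := fun x ρ => ∃ ψ ∈ Psi V R P, g * x * g⁻¹ * x⁻¹ = vv ρ 0 * ψ
  have hQex : ∀ x ∈ WN V P, ∃ ρ, Q x ρ := by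
    intro x hx
    have h4 : g * x * g⁻¹ * x⁻¹ ∈ WN V P := mul_mem (conj_mem_of_normalizer hgN hx) (inv_mem hx)
    obtain ⟨y, hy, h5⟩ := s.WN_Z b τ hF h4 (h1 x hx)
    obtain ⟨ρ, hρ⟩ := (τ.Ri _).1 (inv_mem hy)
    exact ⟨ρ, _, h5, by rw [hρ]; group⟩
  have hQu : ∀ x ρ ρ', Q x ρ → Q x ρ' → ρ = ρ' := by
    rintro x ρ ρ' ⟨ψ, hψ, e⟩ ⟨ψ', hψ', e'⟩
    exact (coord_unique b.toBT τ (Psi_le_CenX hψ) (Psi_le_CenX hψ') (e.symm.trans e')).1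
  let π : G → F := fun x => if h : ∃ ρ, Q x ρ then (a - 1)⁻¹ * h.choose else 0
  have hπ : ∀ x ρ, Q x ρ → π x = (a - 1)⁻¹ * ρ := by
    intro x ρ h
    have h4 : ∃ ρ, Q x ρ := ⟨ρ, h⟩
    have h5 : π x = (a - 1)⁻¹ * h4.choose := dif_pos h4
    rw [h5, hQu _ _ _ h4.choose_spec h]
  refine ⟨π, ?_, ?_, ?_, ?_⟩
  · intro x hx y hy
    obtain ⟨ρ, hρ⟩ := hQex x hx
    obtain ⟨ρ', hρ'⟩ := hQex y hy
    have h4 : Q (x * y) (ρ + ρ') := by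
      obtain ⟨ψ, hψ, e⟩ := hρ
      obtain ⟨ψ', hψ', e'⟩ := hρ'
      refine ⟨ψ * ψ', mul_mem hψ hψ', ?_⟩
      have h5 : g * y * g⁻¹ * y⁻¹ ∈ WN V P := mul_mem (conj_mem_of_normalizer hgN hy) (inv_mem hy)
      have c1 := s.WN_comm b hx h5
      have c2 : vv ρ' 0 * ψ = ψ * vv ρ' 0 :=
        mem_centralizer_iff.1 (BT.CenX_le_cen b.toBT (Psi_le_CenX hψ)) _ ((τ.v_mem _).2 ⟨_, _, rfl⟩)
      calc g * (x * y) * g⁻¹ * (x * y)⁻¹ = (g * x * g⁻¹ * x⁻¹) * (x * (g * y * g⁻¹ * y⁻¹) * x⁻¹) := by group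
        _ = (g * x * g⁻¹ * x⁻¹) * (g * y * g⁻¹ * y⁻¹) := by rw [c1, mul_inv_cancel_right]
        _ = vv ρ 0 * (vv ρ' 0 * ψ) * ψ' := by rw [e, e', c2]; group
        _ = _ := by
          rw [show vv (ρ + ρ') 0 = vv ρ 0 * vv ρ' 0 by rw [← τ.v_add, add_zero]]; group
    rw [hπ _ _ h4, hπ _ _ hρ, hπ _ _ hρ', mul_add]
  · intro x y
    obtain ⟨β, γ, h4⟩ := s.tau_line b τ c hp₀ ha h1 (one_mem P)
    have h5 : ∀ x y, g * vv x y * g⁻¹ = vv (a * x + β * (a⁻¹ * y)) (γ * (a⁻¹ * y)) := by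
      intro x y
      have := h4 x y
      rwa [one_mul, inv_one, mul_one, one_mul, mul_one] at this
    -- `β = 0`
    have h6 : β = 0 := by
      have h7 : g * vv 0 a * g⁻¹ ∈ R j := conj_mem_of_normalizer h3 ((τ.Rj _).2 ⟨a, rfl⟩)
      rw [h5, mul_zero, zero_add, inv_mul_cancel₀ ha, mul_one] at h7
      obtain ⟨y', hy'⟩ := (τ.Rj _).1 h7
      exact (c.v_inj hy').1.symm
    have h7 : g * vv x y * g⁻¹ * (vv x y)⁻¹ = vv ((a - 1) * x) (γ * (a⁻¹ * y) - y) := by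
      rw [h5, h6, zero_mul, add_zero, mul_inv_eq_iff_eq_mul, ← c.v_add]
      congr 1 <;> ring
    have h8 : vv ((a - 1) * x) (γ * (a⁻¹ * y) - y) ∈ R i := by
      refine BT.cen_VW b.toBT (c.v_mem _ _) ?_
      rw [← h7]
      exact (h1 _ (V_le_WN V P (c.v_mem x y))).2
    obtain ⟨x', hx'⟩ := (c.mem_R1 _).1 h8
    have h9 : Q (vv x y) ((a - 1) * x) := ⟨1, one_mem _, by
      rw [h7, ← (c.v_inj hx').2, mul_one]⟩
    rw [hπ _ _ h9, inv_mul_cancel_left₀ ha1']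
  · intro ψ hψ
    have h4 : Q ψ 0 := by
      refine ⟨1, one_mem _, ?_⟩
      have h5 := mem_centralizer_iff.1 (Psi_le_CenX hψ) (t a) (τ.memX a ha)
      have h6 : g * ψ = ψ * g := by
        rw [hg]
        calc p₀ * t a * ψ = p₀ * (t a * ψ) := by group
          _ = (p₀ * ψ) * t a := by rw [h5]; group
          _ = ψ * (p₀ * t a) := by rw [h2 ψ hψ]; group
      rw [h6, c.v_zero]; group
    rw [hπ _ _ h4, mul_zero]
  · intro p hp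
    obtain ⟨β, γ, h4⟩ := s.tau_line b τ c hp₀ ha h1 hp
    refine ⟨(a - 1)⁻¹ * (β * a⁻¹), fun x y => ?_⟩
    have h7 : g * (p * vv x y * p⁻¹) * g⁻¹ * (p * vv x y * p⁻¹)⁻¹ =
        p * vv ((a - 1) * x + β * (a⁻¹ * y)) (γ * (a⁻¹ * y) - y) * p⁻¹ := by
      rw [h4]
      have e1 : vv (a * x + β * (a⁻¹ * y)) (γ * (a⁻¹ * y)) =
          vv ((a - 1) * x + β * (a⁻¹ * y)) (γ * (a⁻¹ * y) - y) * vv x y := by
        rw [← c.v_add]
        congr 1 <;> ring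
      rw [e1]; group
    have h8 : p * vv ((a - 1) * x + β * (a⁻¹ * y)) (γ * (a⁻¹ * y) - y) * p⁻¹ ∈ R i := by
      refine s.line_inf_Z b.toBT hp (conj_mem_cj (c.v_mem _ _)) ?_
      rw [← h7]
      exact h1 _ (line_le_WN hp (conj_mem_cj (c.v_mem x y)))
    have h9 := s.mem_R_of τ hp h8
    rw [h9, s.conj_R hp ((c.mem_R1 _).2 ⟨_, rfl⟩)] at h7
    have h10 : Q (p * vv x y * p⁻¹) ((a - 1) * x + β * (a⁻¹ * y)) := ⟨1, one_mem _, by rw [h7, mul_one]⟩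
    rw [hπ _ _ h10, mul_add, inv_mul_cancel_left₀ ha1']
    ring

include sw in
/-- **(σ)** `Lin` from `τ = p₀ t_a` -/
theorem lin_of_tau (hF : ∃ a : F, a ≠ 0 ∧ a ≠ 1) {p₀ : G} {a : F} (hp₀ : p₀ ∈ P) (ha : a ≠ 0) (ha1 : a ≠ 1)
    (h1 : ∀ x ∈ WN V P, (p₀ * t a) * x * (p₀ * t a)⁻¹ * x⁻¹ ∈ ZZ V R i)
    (h2 : ∀ ψ ∈ Psi V R P, p₀ * ψ = ψ * p₀) : Lin V R i P vv m p' := by
  have ha1' : 1 - a ≠ 0 := sub_ne_zero.2 (Ne.symm ha1)
  obtain ⟨β, γ, h4⟩ := s.tau_line b τ c hp₀ ha h1 (one_mem P)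
  have h5 : ∀ x y, (p₀ * t a) * vv x y * (p₀ * t a)⁻¹ = vv (a * x + β * (a⁻¹ * y)) (γ * (a⁻¹ * y)) := by
    intro x y
    have := h4 x y
    rwa [one_mul, inv_one, mul_one, one_mul, mul_one] at this
  -- `γ = a`
  have hγ : γ * a⁻¹ = 1 := by
    have h6 : (p₀ * t a) * vv 0 1 * (p₀ * t a)⁻¹ * (vv 0 1)⁻¹ = vv (β * a⁻¹) (γ * a⁻¹ - 1) := by
      rw [h5, mul_inv_eq_iff_eq_mul, ← c.v_add]
      congr 1 <;> ring
    have h8 : vv (β * a⁻¹) (γ * a⁻¹ - 1) ∈ R i := by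
      refine BT.cen_VW b.toBT (c.v_mem _ _) ?_
      rw [← h6]
      exact (h1 _ (V_le_WN V P (c.v_mem 0 1))).2
    obtain ⟨x', hx'⟩ := (c.mem_R1 _).1 h8
    exact sub_eq_zero.1 (c.v_inj hx').2.symm
  set σ := β * a⁻¹ * (1 - a)⁻¹ with hσ
  set w := (w1 σ)⁻¹ with hw
  have hwW : w ∈ WW V (R i) := inv_mem (c.w1_mem σ)
  have hwP : w ∈ P := s.QP (b.W_le_Q i hwW)
  -- `w g w⁻¹ = p₁ t_a`
  set p₁ := w * p₀ * (t a * w⁻¹ * (t a)⁻¹) with hp₁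
  have e1 : p₁ * t a = w * (p₀ * t a) * w⁻¹ := by rw [hp₁]; group
  have hp₁P : p₁ ∈ P := mul_mem (mul_mem hwP hp₀) (conj_mem_of_normalizer (s.tP a ha) (inv_mem hwP))
  obtain ⟨π, hπ⟩ := s.exists_pi b τ c hF hp₁P ha ha1 (by
    intro x hx
    have hx' : w⁻¹ * x * w ∈ WN V P := conj_inv_mem_of_normalizer (P_norm_WN hwP) hx
    have h6 := h1 _ hx'
    rw [e1]
    have e2 : w * (p₀ * t a) * w⁻¹ * x * (w * (p₀ * t a) * w⁻¹)⁻¹ * x⁻¹ =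
        w * ((p₀ * t a) * (w⁻¹ * x * w) * (p₀ * t a)⁻¹ * (w⁻¹ * x * w)⁻¹) * w⁻¹ := by group
    rw [e2]
    exact conj_mem_of_normalizer (N_le_NZ i (b.W_le_N i hwW)) h6) (by
    intro ψ hψ
    have k1 : ∀ y ∈ WW V (R i), y * ψ = ψ * y := fun y hy =>
      mem_centralizer_iff.1 (Psi_le_CenX hψ) y (W_le_X V R i hy)
    have k2 := k1 w hwW
    have k3 := k1 _ (conj_mem_of_normalizer (normalizer_le_WW V (R i) (τ.normR ha)) (inv_mem hwW))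
    rw [hp₁]
    calc w * p₀ * (t a * w⁻¹ * (t a)⁻¹) * ψ = w * p₀ * ((t a * w⁻¹ * (t a)⁻¹) * ψ) := by group
      _ = w * (p₀ * ψ) * (t a * w⁻¹ * (t a)⁻¹) := by rw [k3]; group
      _ = (w * ψ) * p₀ * (t a * w⁻¹ * (t a)⁻¹) := by rw [h2 ψ hψ]; group
      _ = _ := by rw [k2]; group) (by
    rw [e1]
    have hst : ∀ y, w * (p₀ * t a) * w⁻¹ * vv 0 y * (w * (p₀ * t a) * w⁻¹)⁻¹ = vv 0 y := by
      intro y
      have e3 : w * (p₀ * t a) * w⁻¹ * vv 0 y * (w * (p₀ * t a) * w⁻¹)⁻¹ =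
          (w1 σ)⁻¹ * ((p₀ * t a) * (w1 σ * vv 0 y * (w1 σ)⁻¹) * (p₀ * t a)⁻¹) * w1 σ := by
        rw [hw]; group
      have e4 : ∀ x y, (w1 σ)⁻¹ * vv x y * w1 σ = vv (x - σ * y) y := by
        intro x y
        have := c.w1_act σ (x - σ * y) y
        rw [sub_add_cancel] at this
        rw [← this]; group
      rw [e3, c.w1_act, h5, e4]
      have e5 : γ * (a⁻¹ * y) = y := by rw [← mul_assoc, hγ, one_mul]
      rw [e5]
      congr 1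
      have e6 : β * a⁻¹ = σ * (1 - a) := by rw [hσ, inv_mul_cancel_right₀ ha1']
      linear_combination y * e6
    refine centralizer_le_normalizer _ ?_
    rw [mem_centralizer_iff]
    intro x hx
    obtain ⟨y, rfl⟩ := (c.mem_R2 x).1 hx
    have := hst y
    rw [mul_inv_eq_iff_eq_mul] at this
    exact this.symm)
  exact s.lin_of_pi b τ sw c hπ

end Sc

end Cfsg.Agent.Omega.HOneQ

end
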