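import Cfsg.Agent.Mrg.Omega.Lie.End.Zero
import Cfsg.Agent.Mrg.Omega.HOneQ.ResK
import Cfsg.Agent.Mrg.Omega.Lie.Nodes.SigGrp


/-!
# II.0h1, split, `q ≥ 4`: the element `m ∈ X` interchanging `R i` and `R j` and inverting the torus (#15939, `Sw`)

`n = nn w1 w2 1` acts on `V` as `v b c ↦ v c b`; `n T n⁻¹` and `T` are complements of `Y` in `Y T`, so `m = k n` with `k ∈ Y`.
-/

set_option autoImplicit false
set_option linter.unusedSectionVars false

namespace Cfsg.Agent.Omega.HOneQ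

open Subgroup Cfsg.Agent.Omega.BTwo
open Cfsg.Agent.Omega.Lie (TorD)

universe u v w

variable {G : Type u} [Group G] {ι : Type w} {V : Subgroup G} {R : ι → Subgroup G} {i j : ι}
  {F : Type v} [Field F] {vv : F → F → G} {w1 w2 : F → G} {t : F → G}

/-- the torus as a homomorphism -/
def torHom (τ : TorD V R i j vv t) : Fˣ →* G where
  toFun a := t a
  map_one' := by rw [Units.val_one, τ.one]
  map_mul' a b := by rw [Units.val_mul, τ.mul _ _ a.ne_zero b.ne_zero]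

/-- **`Sw`**: `m = k n`, `k ∈ Y`, `n = nn w1 w2 1` -/
theorem exists_sw [Finite G] [Finite F] [CharP F 2] (hF : ∃ a : F, a ≠ 0 ∧ a ≠ 1) (b : BTS V R)
    (c : Coord V R i j vv w1 w2) (τ : TorD V R i j vv t) :
    ∃ k ∈ YY V R, Sw V R i j t (k * nn w1 w2 1) ∧
      ∀ x z, (k * nn w1 w2 1) * vv x z * (k * nn w1 w2 1)⁻¹ = vv z x := by
  set n := nn w1 w2 1 with hn
  have hnX : n ∈ XX V R := c.nn_mem_X b.toBT 1
  have hnact : ∀ x z, n * vv x z * n⁻¹ = vv z x := by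
    intro x z
    rw [hn, c.nn_act one_ne_zero, inv_one, one_mul, one_mul]
  have hY2 : IsPGroup 2 (YY V R) := by
    refine (Lie.coord_cen_X_V_isPGroup b.toBT c (b.cen_W_isPGroup i)).to_le ?_
    exact fun y hy => mem_inf.2 ⟨YY_le_XX hy, YY_le_cen hy⟩
  obtain ⟨a₀, ha₀⟩ := IsCyclic.exists_generator (α := Fˣ)
  set s : G := t (a₀ : F) with hs
  have ha0 : (a₀ : F) ≠ 0 := a₀.ne_zero
  have hsX : s ∈ XX V R := τ.memX _ ha0
  have hso : Odd (orderOf s) := τ.odd _ ha0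
  -- `s n s n⁻¹ ∈ Y`
  have hsY : (s⁻¹)⁻¹ * (n * s * n⁻¹) ∈ YY V R := by
    rw [← HOne.XV.cen_X_V hF b c, inv_inv]
    refine mem_inf.2 ⟨mul_mem hsX (mul_mem (mul_mem hnX hsX) (inv_mem hnX)), ?_⟩
    rw [mem_centralizer_iff]
    intro z hz
    obtain ⟨x, y, rfl⟩ := (c.mem_V z).1 hz
    have h1 : n⁻¹ * vv x y * n = vv y x := by
      rw [← hnact y x]; group
    have h2 : (s * (n * s * n⁻¹)) * vv x y * (s * (n * s * n⁻¹))⁻¹ = vv x y := by
      calc (s * (n * s * n⁻¹)) * vv x y * (s * (n * s * n⁻¹))⁻¹ =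
          s * (n * (s * (n⁻¹ * vv x y * n) * s⁻¹) * n⁻¹) * s⁻¹ := by group
        _ = vv x y := by
          rw [h1, hs, τ.act _ _ _ ha0, hnact, τ.act _ _ _ ha0, mul_inv_cancel_left₀ ha0,
            inv_mul_cancel_left₀ ha0]
    exact (mul_inv_eq_iff_eq_mul.1 h2).symm
  obtain ⟨k, hk, hks⟩ := Omega.Lie.Nodes.Apt.conj_of_coset (K := YY V R) (t := s⁻¹) (x := n * s * n⁻¹) hY2
    (b.toBT.NV_le_NY (b.toBT.X_le_NV (inv_mem hsX))) (by rwa [orderOf_inv]) hsY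
    (by
      have h1 : orderOf (n * s * n⁻¹) = orderOf s := (MulAut.conj n).orderOf_eq s
      rwa [h1])
  have hkC : ∀ z ∈ V, k * z * k⁻¹ = z := by
    intro z hz
    rw [← mem_centralizer_iff.1 (YY_le_cen hk) z hz, mul_inv_cancel_right]
  have hact : ∀ x z, (k * n) * vv x z * (k * n)⁻¹ = vv z x := by
    intro x z
    have h1 : (k * n) * vv x z * (k * n)⁻¹ = k * (n * vv x z * n⁻¹) * k⁻¹ := by group
    rw [h1, hnact, hkC _ ((c.mem_V _).2 ⟨_, _, rfl⟩)]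
  have hkR : ∀ l, cj k (R l) = R l := by
    intro l
    exact cj_eq_self_iff.2 (centralizer_le_normalizer _ (centralizer_le (b.toBT.R_le l) (YY_le_cen hk)))
  refine ⟨k, hk, ⟨mul_mem (YY_le_XX hk) hnX, ?_, ?_, ?_⟩, hact⟩
  · rw [cj_mul, c.nn_R1 b.toBT one_ne_zero, hkR]
  · rw [cj_mul, c.nn_R2 b.toBT one_ne_zero, hkR]
  · intro a ha
    obtain ⟨r, hr⟩ := mem_zpowers_iff.1 (ha₀ (Units.mk0 a ha))
    have h1 : t a = s ^ r := by
      have h2 : torHom τ (a₀ ^ r) = torHom τ a₀ ^ r := map_zpow _ _ _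
      rw [hr] at h2
      exact h2
    have h2 : (k * n) * s * (k * n)⁻¹ = s⁻¹ := by
      rw [← hks]; group
    rw [h1, ← conj_zpow, h2, inv_zpow]

end Cfsg.Agent.Omega.HOneQ
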