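import Cfsg.Agent.Mrg.Omega.HOneQ.ResK
import Cfsg.Agent.Mrg.Omega.BTwo.QuadGrp
import Cfsg.Agent.Mrg.Omega.BTwo.Str
import Cfsg.Agent.Mrg.Omega.Lie.LemNS
import Cfsg.Agent.Mrg.Omega.HOne.ModZ

section


/-!
# II.0h1, split, `q ≥ 4`: (L1) of #15939, `Σ = ⟨W_N^X⟩`

Hypotheses: `Lin` (output of ResL), `C_X(V) ≤ Y`, for `S0_fact` ..: `[W_i, V_2'] ≤ W_N Z_i`.
* `Sc.comm2` : `W_N` commutes with `m⁻¹ W_N m`;
* `S0 = Σ` : `S0_comm`, `S0_sq`, `X_norm_S0`, `S0_norm`, `S0_le`;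
* `S0_DZ`, `S0_Z`, `S0_fact`, `S0_Q`, `S0_C`.
-/

set_option autoImplicit false
set_option linter.unusedSectionVars false

namespace Cfsg.Agent.Omega.HOneQ

open Subgroup Cfsg.Agent.Omega.BTwo Cfsg.Agent.Lib.SL2Mat
open Cfsg.Agent.Omega.Lie (TorD)

universe u v w

variable {G : Type u} [Group G] {ι : Type w} {V : Subgroup G} {R : ι → Subgroup G} {i j : ι} {P : Subgroup G}
  {F : Type v} [Field F] {vv : F → F → G} {t : F → G} {w1 w2 : F → G}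

/-- `Σ = ⟨W_N^X⟩` -/
def S0 (V : Subgroup G) (R : ι → Subgroup G) (P : Subgroup G) : Subgroup G := ⨆ x : XX V R, cj (x : G) (WN V P)

theorem WN_le_S0 : WN V P ≤ S0 V R P := by
  have := le_iSup (fun x : XX V R => cj (x : G) (WN V P)) 1
  rwa [show ((1 : XX V R) : G) = 1 from rfl, cj_one] at this

theorem cj_WN_le_S0 {x : G} (hx : x ∈ XX V R) : cj x (WN V P) ≤ S0 V R P :=
  le_iSup (fun x : XX V R => cj (x : G) (WN V P)) ⟨x, hx⟩

/-- an element normalising `X` and `W_N` normalises `Σ` -/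
theorem S0_norm {g : G} (hX : g ∈ normalizer (XX V R : Set G)) (hW : g ∈ normalizer (WN V P : Set G)) :
    g ∈ normalizer (S0 V R P : Set G) := by
  have key : ∀ g : G, g ∈ normalizer (XX V R : Set G) → g ∈ normalizer (WN V P : Set G) →
      cj g (S0 V R P) ≤ S0 V R P := by
    intro g hX hW
    rw [S0, cj_iSup]
    refine iSup_le fun x => ?_
    have e : cj g (cj (x : G) (WN V P)) = cj (g * x * g⁻¹) (WN V P) := by
      have e1 : g * (x : G) = g * x * g⁻¹ * g := by group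
      calc cj g (cj (x : G) (WN V P)) = cj (g * x) (WN V P) := (cj_mul _ _ _).symm
        _ = cj (g * x * g⁻¹) (cj g (WN V P)) := by rw [← cj_mul, ← e1]
        _ = _ := by rw [cj_eq_self_iff.2 hW]
    rw [e]
    exact cj_WN_le_S0 (conj_mem_of_normalizer hX x.2)
  rw [← cj_eq_self_iff]
  apply le_antisymm (key g hX hW)
  have := cj_mono (g := g) (key g⁻¹ (inv_mem hX) (inv_mem hW))
  rwa [cj_cj_inv] at this

theorem X_norm_S0 : XX V R ≤ normalizer (S0 V R P : Set G) := by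
  intro g hg
  have key : ∀ g ∈ XX V R, cj g (S0 V R P) ≤ S0 V R P := by
    intro g hg
    rw [S0, cj_iSup]
    refine iSup_le fun x => ?_
    rw [← cj_mul]
    exact cj_WN_le_S0 (mul_mem hg x.2)
  rw [← cj_eq_self_iff]
  apply le_antisymm (key g hg)
  have := cj_mono (g := g) (key g⁻¹ (inv_mem hg))
  rwa [cj_cj_inv] at this

/-- `Ψ' = Σ ∩ D ∩ C(X)` -/
def Psi' (V : Subgroup G) (R : ι → Subgroup G) (P : Subgroup G) : Subgroup G := S0 V R P ⊓ (DD V R ⊓ CenX V R)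

namespace Sc

variable {p' : G} (s : Sc V R i j vv t P p') (b : BTS V R) (τ : TorD V R i j vv t) {m : G} (sw : Sw V R i j t m)
  (c : Coord V R i j vv w1 w2)
include s b τ c

omit τ c in
theorem Y_le_P : YY V R ≤ P := by
  rw [b.Y_eq s.hij]
  exact sup_le (((UU_le_WW i).trans (b.W_le_Q i)).trans s.QP) s.UP

/-- `N_X(R i)` normalises `W_N` -/
theorem nx (hXV : XX V R ⊓ centralizer (V : Set G) ≤ YY V R) {x : G} (hx : x ∈ XX V R) (hR : cj x (R i) = R i) :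
    x ∈ normalizer (WN V P : Set G) := by
  obtain ⟨A, hA⟩ := c.exists_actV b.toBT hx
  have h10 : ent A 1 0 = 0 := by
    have h1 : x * vv 1 0 * x⁻¹ ∈ R i := by rw [← hR]; exact conj_mem_cj ((c.mem_R1 _).2 ⟨1, rfl⟩)
    rw [hA] at h1
    obtain ⟨y, hy⟩ := (c.mem_R1 _).1 h1
    have h2 := (c.v_inj hy).2
    rw [mul_one, mul_zero, add_zero] at h2
    exact h2.symm
  have hd := det_eq A
  rw [h10, mul_zero, sub_zero] at hd
  have ha : ent A 0 0 ≠ 0 := left_ne_zero_of_mul_eq_one hd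
  set a := ent A 0 0 with haa
  have hA11 : ent A 1 1 = a⁻¹ := eq_inv_of_mul_eq_one_right hd
  set σ := ent A 0 1 * a with hσ
  have htinv : ∀ y z, (t a)⁻¹ * vv y z * t a = vv (a⁻¹ * y) (a * z) := by
    intro y z
    have h1 := τ.act a (a⁻¹ * y) (a * z) ha
    rw [mul_inv_cancel_left₀ ha, inv_mul_cancel_left₀ ha] at h1
    rw [← h1]; group
  have h1 : (w1 σ)⁻¹ * (x * (t a)⁻¹) ∈ centralizer (V : Set G) := by
    rw [mem_centralizer_iff]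
    intro y hy
    obtain ⟨y1, y2, rfl⟩ := (c.mem_V y).1 hy
    have h2 : (w1 σ)⁻¹ * (x * (t a)⁻¹) * vv y1 y2 * ((w1 σ)⁻¹ * (x * (t a)⁻¹))⁻¹ = vv y1 y2 := by
      have e1 : (w1 σ)⁻¹ * (x * (t a)⁻¹) * vv y1 y2 * ((w1 σ)⁻¹ * (x * (t a)⁻¹))⁻¹ =
          (w1 σ)⁻¹ * (x * ((t a)⁻¹ * vv y1 y2 * t a) * x⁻¹) * w1 σ := by group
      have e2 := c.w1_act σ y1 y2
      rw [e1, htinv, hA, h10, hA11, zero_mul, zero_add, ← haa, mul_inv_cancel_left₀ ha,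
        inv_mul_cancel_left₀ ha, ← mul_assoc, ← hσ, ← e2]
      group
    rw [mul_inv_eq_iff_eq_mul] at h2
    exact h2.symm
  have h2 : (w1 σ)⁻¹ * (x * (t a)⁻¹) ∈ YY V R :=
    hXV (mem_inf.2 ⟨mul_mem (inv_mem (W_le_X V R i (c.w1_mem σ))) (mul_mem hx (inv_mem (τ.memX a ha))), h1⟩)
  have e : x = w1 σ * ((w1 σ)⁻¹ * (x * (t a)⁻¹)) * t a := by group
  rw [e]
  exact mul_mem (mul_mem (P_norm_WN (s.QP (b.W_le_Q i (c.w1_mem σ)))) (P_norm_WN (s.Y_le_P b h2)))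
    (s.t_norm_WN b τ ha)

omit s b τ c in
theorem m_tor (sw : Sw V R i j t m) {a : F} (ha : a ≠ 0) : m⁻¹ * (t a)⁻¹ = t a * m⁻¹ := by
  have h1 := sw.mt a ha
  calc m⁻¹ * (t a)⁻¹ = m⁻¹ * (m * t a * m⁻¹) := by rw [h1]
    _ = t a * m⁻¹ := by group

include sw in
/-- `[V', m⁻¹ V' m] = 1` -/
theorem vx (hF : ∃ a : F, a ≠ 0 ∧ a ≠ 1) (lin : Lin V R i P vv m p') {l l' : G} (hl : l ∈ cj p' V)
    (hl' : l' ∈ cj p' V) : l * (m⁻¹ * l' * m) = (m⁻¹ * l' * m) * l := by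
  have h2F : ∀ x : F, x + x = 0 := Cfsg.Agent.Omega.Lie.TorD.two b.toBT τ
  -- the action of `m⁻¹ l' m` on `V'`
  have key1 : ∀ l' ∈ cj p' V, ∃ β : F, ∀ y z, (m⁻¹ * l' * m) * (p' * vv y z * p'⁻¹) * (m⁻¹ * l' * m)⁻¹ =
      p' * vv (y + β * z) z * p'⁻¹ := by
    intro l' hl'
    have hx2 : m⁻¹ * l' * m ∈ UU V R j := conj_U' b sw (s.leU hl')
    set x2 := m⁻¹ * l' * m with hx2e
    have hz : ∀ l ∈ cj p' V, x2 * l * x2⁻¹ * l⁻¹ ∈ ZZ V R i := by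
      intro l hl
      have hw : l ∈ W0 V R i P := by
        refine mem_inf.2 ⟨s.line_le s.mem hl, ?_⟩
        rw [mem_centralizer_iff]
        exact fun y hy => s.WN_comm b hy (line_le_WN s.mem hl)
      obtain ⟨a, ha, ψ, hψ, e⟩ := s.key b τ sw hF lin hw hl'
      have e1 : x2 * l * x2⁻¹ * l⁻¹ = (a * ψ)⁻¹ := by rw [← e, ← hx2e]; group
      rw [e1]
      exact inv_mem (mul_mem (BT.R_le_Z b.toBT i ha) (mem_inf.2 ⟨D_le_W V R i (Psi_le_D hψ), cen_X_le i (Psi_le_CenX hψ)⟩))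
    have hxP : x2 * p' ∈ P := mul_mem (s.UP hx2) s.mem
    have h1 : cj (x2 * p') V = cj p' V := by
      refine s.inj b hxP s.mem ?_
      rw [cj_mul]
      exact cj_le_of_comm le_sup_left fun x hx => (le_sup_right : ZZ V R i ≤ _) (hz x hx)
    obtain ⟨β, γ, -, h2⟩ := s.conj_line c hxP 0 0 s.mem h1 b.toBT
    have h3 : ∀ y z, x2 * (p' * vv y z * p'⁻¹) * x2⁻¹ = p' * vv (y + β * z) (γ * z) * p'⁻¹ := by
      intro y z
      rw [← h2]; group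
    have h4 : γ = 1 := by
      have h5 : x2 * (p' * vv 0 1 * p'⁻¹) * x2⁻¹ * (p' * vv 0 1 * p'⁻¹)⁻¹ = p' * vv (β * 1) (γ * 1 - 1) * p'⁻¹ := by
        rw [h3, show vv (0 + β * 1) (γ * 1) = vv (β * 1) (γ * 1 - 1) * vv 0 1 by
          rw [← c.v_add]; congr 1 <;> ring]
        group
      have h6 : p' * vv (β * 1) (γ * 1 - 1) * p'⁻¹ ∈ R i := by
        refine s.line_inf_Z b.toBT s.mem (conj_mem_cj (c.v_mem _ _)) ?_
        rw [← h5]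
        exact hz _ (conj_mem_cj (c.v_mem _ _))
      have h7 := s.mem_R_of τ s.mem h6
      rw [mul_one] at h7
      exact sub_eq_zero.1 h7
    refine ⟨β, fun y z => ?_⟩
    rw [h3, h4, one_mul]
  choose! β hβ using key1
  have huniq : ∀ l' ∈ cj p' V, ∀ β', (∀ y z, (m⁻¹ * l' * m) * (p' * vv y z * p'⁻¹) * (m⁻¹ * l' * m)⁻¹ =
      p' * vv (y + β' * z) z * p'⁻¹) → β' = β l' := by
    intro l' hl' β' h
    have h1 := (h 0 1).symm.trans (hβ l' hl' 0 1)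
    have h2 : vv (0 + β' * 1) 1 = vv (0 + β l' * 1) 1 := by
      have := congrArg (fun x => p'⁻¹ * x * p') h1
      simpa [mul_assoc] using this
    have h3 := (c.v_inj h2).1
    rwa [zero_add, zero_add, mul_one, mul_one] at h3
  have hmul : ∀ l₁ ∈ cj p' V, ∀ l₂ ∈ cj p' V, β (l₁ * l₂) = β l₁ + β l₂ := by
    intro l₁ h₁ l₂ h₂
    refine (huniq _ (mul_mem h₁ h₂) _ fun y z => ?_).symm
    have e1 : (m⁻¹ * (l₁ * l₂) * m) * (p' * vv y z * p'⁻¹) * (m⁻¹ * (l₁ * l₂) * m)⁻¹ =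
        (m⁻¹ * l₁ * m) * ((m⁻¹ * l₂ * m) * (p' * vv y z * p'⁻¹) * (m⁻¹ * l₂ * m)⁻¹) * (m⁻¹ * l₁ * m)⁻¹ := by group
    rw [e1, hβ l₂ h₂, hβ l₁ h₁]
    congr 3
    ring
  have htor : ∀ l₁ ∈ cj p' V, ∀ a, a ≠ 0 → β ((t a)⁻¹ * l₁ * t a) = β l₁ := by
    intro l₁ h₁ a ha
    have hta : (t a)⁻¹ * l₁ * t a ∈ cj p' V := by
      obtain ⟨y, z, rfl⟩ := (s.mem_line τ).1 h₁
      have := s.sc a⁻¹ y z (inv_ne_zero ha)
      rw [τ.inv ha, inv_inv] at this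
      rw [this]
      exact conj_mem_cj (c.v_mem _ _)
    refine (huniq _ hta _ fun y z => ?_).symm
    have e1 : m⁻¹ * ((t a)⁻¹ * l₁ * t a) * m = t a * (m⁻¹ * l₁ * m) * (t a)⁻¹ := by
      have h1 := m_tor sw ha
      calc m⁻¹ * ((t a)⁻¹ * l₁ * t a) * m = (m⁻¹ * (t a)⁻¹) * l₁ * (m⁻¹ * (t a)⁻¹)⁻¹ := by group
        _ = _ := by rw [h1]; group
    have h2 : (t a)⁻¹ * (p' * vv y z * p'⁻¹) * t a = p' * vv (a⁻¹ * y) (a⁻¹ * z) * p'⁻¹ := by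
      have := s.sc a⁻¹ y z (inv_ne_zero ha)
      rwa [τ.inv ha, inv_inv] at this
    rw [e1]
    calc t a * (m⁻¹ * l₁ * m) * (t a)⁻¹ * (p' * vv y z * p'⁻¹) * (t a * (m⁻¹ * l₁ * m) * (t a)⁻¹)⁻¹
        = t a * ((m⁻¹ * l₁ * m) * ((t a)⁻¹ * (p' * vv y z * p'⁻¹) * t a) * (m⁻¹ * l₁ * m)⁻¹) * (t a)⁻¹ := by group
      _ = p' * vv (y + β l₁ * z) z * p'⁻¹ := by
        rw [h2, hβ l₁ h₁, s.sc _ _ _ ha]
        congr 3
        · rw [mul_add, mul_inv_cancel_left₀ ha]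
          have : a * (β l₁ * (a⁻¹ * z)) = β l₁ * (a * (a⁻¹ * z)) := by ring
          rw [this, mul_inv_cancel_left₀ ha]
        · rw [mul_inv_cancel_left₀ ha]
  have hzero : ∀ l₁ ∈ cj p' V, β l₁ = 0 := by
    intro l₁ h₁
    obtain ⟨a, ha, ha1⟩ := hF
    have ha1' : a + 1 ≠ 0 := by
      intro h1
      apply ha1
      calc a = a + (1 + 1) := by rw [h2F, add_zero]
        _ = (a + 1) + 1 := by ring
        _ = 1 := by rw [h1, zero_add]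
    obtain ⟨y, z, rfl⟩ := (s.mem_line τ).1 h₁
    have htt : ∀ a, a ≠ 0 → β (p' * vv (a * y) (a * z) * p'⁻¹) = β (p' * vv y z * p'⁻¹) := by
      intro a ha
      have h1 := htor _ (conj_mem_cj (c.v_mem (a * y) (a * z))) a ha
      have h2 : (t a)⁻¹ * (p' * vv (a * y) (a * z) * p'⁻¹) * t a = p' * vv y z * p'⁻¹ := by
        have := s.sc a⁻¹ (a * y) (a * z) (inv_ne_zero ha)
        rwa [τ.inv ha, inv_inv, inv_mul_cancel_left₀ ha, inv_mul_cancel_left₀ ha] at this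
      rw [h2] at h1
      exact h1.symm
    have h3 := hmul _ (conj_mem_cj (c.v_mem (a * y) (a * z))) _ (conj_mem_cj (c.v_mem y z))
    rw [← s.line_add τ, htt a ha, h2F, show a * y + y = (a + 1) * y by ring,
      show a * z + z = (a + 1) * z by ring, htt _ ha1'] at h3
    exact h3
  obtain ⟨y, z, rfl⟩ := (s.mem_line τ).1 hl
  have h1 := hβ l' hl' y z
  rw [hzero l' hl', zero_mul, add_zero, mul_inv_eq_iff_eq_mul] at h1
  exact h1.symm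

include sw in
/-- `W_N` commutes with `m⁻¹ W_N m` -/
theorem comm2 (hF : ∃ a : F, a ≠ 0 ∧ a ≠ 1) (lin : Lin V R i P vv m p') {x y : G} (hx : x ∈ WN V P)
    (hy : y ∈ WN V P) : x * (m⁻¹ * y * m) = (m⁻¹ * y * m) * x := by
  have hconj : ∀ g ∈ XX V R, ∀ d ∈ DD V R, d ∈ WN V P → g * d * g⁻¹ ∈ WN V P := by
    intro g hg d hd hd'
    have e : g * d * g⁻¹ = (g * d * g⁻¹ * d⁻¹) * d := by group
    rw [e]
    exact mul_mem (V_le_WN V P (b.XD hg hd)) hd'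
  obtain ⟨l, hl, d, hd, hd', rfl⟩ := s.WN_fact b hx
  obtain ⟨l', hl', d', hd2, hd2', rfl⟩ := s.WN_fact b hy
  have hmd' : m⁻¹ * d' * m ∈ WN V P := by
    have := hconj m⁻¹ (inv_mem sw.mX) d' hd2 hd2'
    rwa [inv_inv] at this
  have c1 : ∀ x ∈ WN V P, x * (m⁻¹ * d' * m) = (m⁻¹ * d' * m) * x := fun x hx => s.WN_comm b hx hmd'
  have c2 : d * (m⁻¹ * l' * m) = (m⁻¹ * l' * m) * d := by
    have h1 := s.WN_comm b (hconj m sw.mX d hd hd') (line_le_WN s.mem hl')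
    calc d * (m⁻¹ * l' * m) = m⁻¹ * ((m * d * m⁻¹) * l') * m := by group
      _ = m⁻¹ * (l' * (m * d * m⁻¹)) * m := by rw [h1]
      _ = _ := by group
  have c3 := s.vx b τ sw c hF lin hl hl'
  have e1 : m⁻¹ * (l' * d') * m = (m⁻¹ * l' * m) * (m⁻¹ * d' * m) := by group
  rw [e1]
  have C1 : Commute (l * d) (m⁻¹ * l' * m) := Commute.mul_left c3 c2
  have C2 : Commute (l * d) (m⁻¹ * d' * m) := c1 _ hx
  exact (C1.mul_right C2).eq

include sw in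
/-- `Σ` is generated by `W_N` and the `W_i`-conjugates of `V_2' = m⁻¹ V' m` -/
theorem S0_le (hXV : XX V R ⊓ centralizer (V : Set G) ≤ YY V R) {K : Subgroup G} (hW : WN V P ≤ K)
    (h : ∀ w ∈ WW V (R i), ∀ x ∈ cj p' V, w * (m⁻¹ * x * m) * w⁻¹ ∈ K) : S0 V R P ≤ K := by
  refine iSup_le fun ⟨x, hx⟩ => ?_
  change cj x (WN V P) ≤ K
  obtain ⟨k, hk⟩ := b.perm x (b.X_le_NV hx) i
  by_cases hki : k = i
  · subst hki
    rw [cj_eq_self_iff.2 (s.nx b τ c hXV hx hk)]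
    exact hW
  obtain ⟨w, hw, e⟩ := b.trans i (Ne.symm s.hij) hki
  have h1 : x⁻¹ * (w * m⁻¹) ∈ normalizer (WN V P : Set G) := by
    refine s.nx b τ c hXV (mul_mem (inv_mem hx) (mul_mem (W_le_X V R i hw) (inv_mem sw.mX))) ?_
    rw [cj_mul, cj_mul, ← sw.m2, cj_inv_cj, e, ← hk, cj_inv_cj, sw.m2]
  have h2 : cj x (WN V P) = cj (w * m⁻¹) (WN V P) := by
    have h3 : cj x (cj (x⁻¹ * (w * m⁻¹)) (WN V P)) = cj (w * m⁻¹) (WN V P) := by
      rw [← cj_mul, mul_inv_cancel_left]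
    rw [← h3, cj_eq_self_iff.2 h1]
  rw [h2, cj_le_iff]
  intro y hy
  obtain ⟨l, hl, d, hd, hd', rfl⟩ := s.WN_fact b hy
  have e1 : w * m⁻¹ * (l * d) * (w * m⁻¹)⁻¹ = (w * (m⁻¹ * l * m) * w⁻¹) * (w * (m⁻¹ * d * m) * w⁻¹) := by group
  rw [e1]
  refine mul_mem (h w hw l hl) (hW ?_)
  refine conj_mem_of_normalizer (P_norm_WN (s.QP (b.W_le_Q i hw))) ?_
  have e2 : m⁻¹ * d * m = (m⁻¹ * d * m⁻¹⁻¹ * d⁻¹) * d := by group
  rw [e2]
  exact mul_mem (V_le_WN V P (b.XD (inv_mem sw.mX) hd)) hd'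

include sw in
/-- `Σ` is abelian -/
theorem S0_comm (hF : ∃ a : F, a ≠ 0 ∧ a ≠ 1) (lin : Lin V R i P vv m p')
    (hXV : XX V R ⊓ centralizer (V : Set G) ≤ YY V R) {x y : G} (hx : x ∈ S0 V R P) (hy : y ∈ S0 V R P) :
    x * y = y * x := by
  have h1 : S0 V R P ≤ centralizer (WN V P : Set G) := by
    refine s.S0_le b τ sw c hXV (fun x hx => ?_) (fun w hw l hl => ?_)
    · rw [mem_centralizer_iff]
      exact fun y hy => s.WN_comm b hy hx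
    · rw [mem_centralizer_iff]
      intro y hy
      have hy' : w⁻¹ * y * w ∈ WN V P := conj_inv_mem_of_normalizer (P_norm_WN (s.QP (b.W_le_Q i hw))) hy
      have h2 := s.comm2 b τ sw c hF lin hy' (line_le_WN s.mem hl)
      calc y * (w * (m⁻¹ * l * m) * w⁻¹) = w * ((w⁻¹ * y * w) * (m⁻¹ * l * m)) * w⁻¹ := by group
        _ = w * ((m⁻¹ * l * m) * (w⁻¹ * y * w)) * w⁻¹ := by rw [h2]
        _ = _ := by group
  have h2 : S0 V R P ≤ centralizer (S0 V R P : Set G) := by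
    rw [le_centralizer_iff]
    refine iSup_le fun ⟨g, hg⟩ => ?_
    change cj g (WN V P) ≤ _
    intro y hy
    rw [mem_centralizer_iff]
    intro z hz
    have hz' : g⁻¹ * z * g ∈ S0 V R P := conj_inv_mem_of_normalizer (X_norm_S0 hg) hz
    have h3 := mem_centralizer_iff.1 (h1 hz') _ (mem_cj.1 hy)
    calc z * y = g * ((g⁻¹ * z * g) * (g⁻¹ * y * g)) * g⁻¹ := by group
      _ = g * ((g⁻¹ * y * g) * (g⁻¹ * z * g)) * g⁻¹ := by rw [h3]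
      _ = y * z := by group
  exact (mem_centralizer_iff.1 (h2 hx) y hy).symm

include sw in
/-- `Σ` is elementary abelian -/
theorem S0_sq (hF : ∃ a : F, a ≠ 0 ∧ a ≠ 1) (lin : Lin V R i P vv m p')
    (hXV : XX V R ⊓ centralizer (V : Set G) ≤ YY V R) {x : G} (hx : x ∈ S0 V R P) : x * x = 1 := by
  let T : Subgroup G :=
    { carrier := {x | x ∈ S0 V R P ∧ x * x = 1}
      one_mem' := ⟨one_mem _, by rw [one_mul]⟩
      mul_mem' := by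
        rintro x y ⟨hx, hx'⟩ ⟨hy, hy'⟩
        refine ⟨mul_mem hx hy, ?_⟩
        have h1 := s.S0_comm b τ sw c hF lin hXV hy hx
        calc x * y * (x * y) = x * (y * x) * y := by group
          _ = (x * x) * (y * y) := by rw [h1]; group
          _ = 1 := by rw [hx', hy', one_mul]
      inv_mem' := by
        rintro x ⟨hx, hx'⟩
        exact ⟨inv_mem hx, by rw [← mul_inv_rev, hx', inv_one]⟩ }
  have hT : S0 V R P ≤ T := iSup_le fun ⟨g, hg⟩ y hy => by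
    refine ⟨cj_WN_le_S0 hg hy, ?_⟩
    have h1 := s.WN_sq b (mem_cj.1 hy)
    calc y * y = g * ((g⁻¹ * y * g) * (g⁻¹ * y * g)) * g⁻¹ := by group
      _ = 1 := by rw [h1]; group
  exact (hT hx).2

omit τ c in
theorem S0_le_Y : S0 V R P ≤ YY V R := iSup_le fun ⟨g, hg⟩ => by
  change cj g (WN V P) ≤ _
  rw [cj_le_iff]
  intro x hx
  exact conj_mem_of_normalizer (b.NV_le_NY (b.X_le_NV hg)) (UU_le_YY i (s.WN_le_U b hx))

section ypair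

variable {E : Type u} [AddCommGroup E] [Module F E] {P1 P2 : G → E} (y : YPair V R i j w1 w2 E P1 P2)
include y

theorem P1_line (r z : F) : P1 (p' * vv r z * p'⁻¹) = z • P1 (p' * vv 0 1 * p'⁻¹) ∧ P2 (p' * vv r z * p'⁻¹) = 0 := by
  have hU : ∀ r z, p' * vv r z * p'⁻¹ ∈ UU V R i := fun r z => s.leU (conj_mem_cj (c.v_mem r z))
  have hY : ∀ r z, p' * vv r z * p'⁻¹ ∈ YY V R := fun r z => UU_le_YY i (hU r z)
  refine ⟨?_, (y.mem_U1 _ (hY r z)).1 (hU r z)⟩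
  have hR : ∀ r, P1 (p' * vv r 0 * p'⁻¹) = 0 := by
    intro r
    rw [s.line_R τ]
    exact ((y.mem_D _ (UU_le_YY i (b.R_le_U i ((c.mem_R1 _).2 ⟨r, rfl⟩)))).1
      (V_le_D V R (c.v_mem r 0))).1
  have h1 : P1 (p' * vv r z * p'⁻¹) = P1 (p' * vv 0 z * p'⁻¹) := by
    have h2 := s.line_add τ r 0 0 z
    rw [add_zero, zero_add] at h2
    rw [h2, y.mul1 _ (hY r 0) _ (hY 0 z), hR, zero_add]
  rw [h1]
  by_cases hz : z = 0
  · rw [hz, hR, zero_smul]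
  obtain ⟨A, hA, hA'⟩ := y.exists_act c b.toBT (τ.memX z hz)
  have e1 : p' * vv 0 z * p'⁻¹ = t z * (p' * vv 0 1 * p'⁻¹) * (t z)⁻¹ := by
    rw [s.sc z 0 1 hz, mul_zero, mul_one]
  rw [e1, (hA' _ (hY 0 1)).1, (y.mem_U1 _ (hY 0 1)).1 (hU 0 1), smul_zero, add_zero]
  have h3 := (hA 1 0).symm.trans (τ.act z 1 0 hz)
  simp only [mul_one, mul_zero, add_zero] at h3
  rw [(c.v_inj h3).1]

/-- `Σ D / D = V ⊗ g` -/
theorem S0_P {x : G} (hx : x ∈ S0 V R P) : ∃ r r' : F, P1 x = r • P1 (p' * vv 0 1 * p'⁻¹) ∧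
    P2 x = r' • P1 (p' * vv 0 1 * p'⁻¹) := by
  set g := P1 (p' * vv 0 1 * p'⁻¹) with hg
  let T : Subgroup G :=
    { carrier := {x | x ∈ YY V R ∧ ∃ r r' : F, P1 x = r • g ∧ P2 x = r' • g}
      one_mem' := ⟨one_mem _, 0, 0, by rw [y.one1, zero_smul], by rw [y.one2, zero_smul]⟩
      mul_mem' := by
        rintro x z ⟨hx, r, r', h1, h2⟩ ⟨hz, q, q', h3, h4⟩
        exact ⟨mul_mem hx hz, r + q, r' + q', by rw [y.mul1 x hx z hz, h1, h3, add_smul],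
          by rw [y.mul2 x hx z hz, h2, h4, add_smul]⟩
      inv_mem' := by
        rintro x ⟨hx, r, r', h1, h2⟩
        exact ⟨inv_mem hx, -r, -r', by rw [y.inv1 hx, h1, neg_smul], by rw [y.inv2 hx, h2, neg_smul]⟩ }
  have hT : S0 V R P ≤ T := iSup_le fun ⟨z, hz⟩ => by
    change cj z (WN V P) ≤ _
    rw [cj_le_iff]
    intro x hx
    obtain ⟨l, hl, d, hd, -, rfl⟩ := s.WN_fact b hx
    obtain ⟨r, r', rfl⟩ := (s.mem_line τ).1 hl
    have hlY : p' * vv r r' * p'⁻¹ ∈ YY V R := UU_le_YY i (s.leU hl)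
    have hdY := b.D_le_Y hd
    obtain ⟨h1, h2⟩ := s.P1_line b τ c y r r'
    obtain ⟨h3, h4⟩ := (y.mem_D _ hdY).1 hd
    obtain ⟨A, -, hA'⟩ := y.exists_act c b.toBT hz
    obtain ⟨h5, h6⟩ := hA' _ (mul_mem hlY hdY)
    refine ⟨conj_mem_of_normalizer (b.NV_le_NY (b.X_le_NV hz)) (mul_mem hlY hdY), ent A 0 0 * r', ent A 1 0 * r', ?_, ?_⟩
    · rw [h5, y.mul1 _ hlY _ hdY, y.mul2 _ hlY _ hdY, h1, h2, h3, h4, add_zero, add_zero, smul_zero, add_zero, smul_smul]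
    · rw [h6, y.mul1 _ hlY _ hdY, y.mul2 _ hlY _ hdY, h1, h2, h3, h4, add_zero, add_zero, smul_zero, add_zero, smul_smul]
  exact (hT hx).2

/-- `Σ ∩ D Z_i ≤ D` -/
theorem S0_DZ (hF : ∃ a : F, a ≠ 0 ∧ a ≠ 1) {x : G} (hx : x ∈ S0 V R P) (hz : x ∈ DZ V R i) : x ∈ DD V R := by
  obtain ⟨r, r', h1, h2⟩ := s.S0_P b τ c y hx
  have hxY := s.S0_le_Y b hx
  have hxU : x ∈ UU V R i := by
    obtain ⟨d, hd, z, hz, rfl⟩ := hz
    exact mul_mem (b.D_le_U i hd) (b.Z_le_U i hz)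
  obtain ⟨h3, h4⟩ := s.P1_line b τ c y 0 r
  have hlY : p' * vv 0 r * p'⁻¹ ∈ YY V R := UU_le_YY i (s.leU (conj_mem_cj (c.v_mem _ _)))
  have h5 : (p' * vv 0 r * p'⁻¹)⁻¹ * x ∈ DD V R := by
    rw [y.eq_iff hxY hlY, h3, h4, h1]
    exact ⟨rfl, (y.mem_U1 _ hxY).1 hxU⟩
  have h6 : p' * vv 0 r * p'⁻¹ ∈ R i := by
    refine s.cap b τ hF (conj_mem_cj (c.v_mem _ _)) ?_
    have e : p' * vv 0 r * p'⁻¹ = x * ((p' * vv 0 r * p'⁻¹)⁻¹ * x)⁻¹ := by group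
    rw [e]
    exact mul_mem hz ⟨_, inv_mem h5, 1, one_mem _, by rw [mul_one]⟩
  have e : x = (p' * vv 0 r * p'⁻¹) * ((p' * vv 0 r * p'⁻¹)⁻¹ * x) := by group
  rw [e]
  exact mul_mem (V_le_D V R (b.R_le i h6)) h5

/-- `Σ ∩ Z_i = R i Ψ'` -/
theorem S0_Z (hF : ∃ a : F, a ≠ 0 ∧ a ≠ 1) {x : G} (hx : x ∈ S0 V R P) (hz : x ∈ ZZ V R i) :
    ∃ a ∈ R i, a * x ∈ Psi' V R P := by
  have h1 := s.S0_DZ b τ c y hF hx ⟨1, one_mem _, x, hz, by rw [one_mul]⟩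
  obtain ⟨a, ha, h2⟩ := b.Z_inf_D hz h1
  exact ⟨a, ha, mem_inf.2 ⟨mul_mem (WN_le_S0 (V_le_WN V P (b.R_le i ha))) hx, h2⟩⟩

include sw in
/-- `Σ = V_2' W_N Ψ'` -/
theorem S0_fact (hF : ∃ a : F, a ≠ 0 ∧ a ≠ 1) (hXV : XX V R ⊓ centralizer (V : Set G) ≤ YY V R)
    (hK2 : ∀ w ∈ WW V (R i), ∀ x ∈ cj p' V, ∃ n ∈ WN V P, ∃ z ∈ ZZ V R i,
      w * (m⁻¹ * x * m) * w⁻¹ * (m⁻¹ * x * m)⁻¹ = n * z)
    {x : G} (hx : x ∈ S0 V R P) : ∃ l ∈ cj p' V, ∃ n ∈ WN V P, ∃ ψ ∈ Psi' V R P, x = (m⁻¹ * l * m) * n * ψ := by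
  let T : Subgroup G :=
    { carrier := {x | ∃ l ∈ cj p' V, ∃ n ∈ WN V P, ∃ z ∈ ZZ V R i, x = (m⁻¹ * l * m) * n * z}
      one_mem' := ⟨1, one_mem _, 1, one_mem _, 1, one_mem _, by group⟩
      mul_mem' := by
        rintro _ _ ⟨l, hl, n, hn, z, hz, rfl⟩ ⟨l', hl', n', hn', z', hz', rfl⟩
        have hu := conj_U' b sw (s.leU hl')
        set u := m⁻¹ * l' * m with hue
        have huP := s.UP hu
        have h1 : u⁻¹ * n * u ∈ WN V P := conj_inv_mem_of_normalizer (P_norm_WN huP) hn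
        have h2 : u⁻¹ * z * u ∈ ZZ V R i := conj_inv_mem_of_normalizer (N_le_NZ i (s.P_le_N huP)) hz
        refine ⟨l * l', mul_mem hl hl', (u⁻¹ * n * u) * n', mul_mem h1 hn', (u⁻¹ * z * u) * z', mul_mem h2 hz', ?_⟩
        have h3 := z_comm h2 (s.WN_le_W hn')
        calc m⁻¹ * l * m * n * z * (u * n' * z') = (m⁻¹ * l * m) * u * (u⁻¹ * n * u) * ((u⁻¹ * z * u) * n') * z' := by
              group
          _ = (m⁻¹ * l * m) * u * (u⁻¹ * n * u) * (n' * (u⁻¹ * z * u)) * z' := by rw [h3]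
          _ = _ := by rw [hue]; group
      inv_mem' := by
        rintro _ ⟨l, hl, n, hn, z, hz, rfl⟩
        have hu := conj_U' b sw (s.leU hl)
        set u := m⁻¹ * l * m with hue
        have huP := s.UP hu
        refine ⟨l⁻¹, inv_mem hl, u * n⁻¹ * u⁻¹, conj_mem_of_normalizer (P_norm_WN huP) (inv_mem hn), u * z⁻¹ * u⁻¹,
          conj_mem_of_normalizer (N_le_NZ i (s.P_le_N huP)) (inv_mem hz), ?_⟩
        have h3 := z_comm (inv_mem hz) (s.WN_le_W (inv_mem hn))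
        calc (u * n * z)⁻¹ = (z⁻¹ * n⁻¹) * u⁻¹ := by group
          _ = (n⁻¹ * z⁻¹) * u⁻¹ := by rw [h3]
          _ = u⁻¹ * (u * n⁻¹ * u⁻¹) * (u * z⁻¹ * u⁻¹) := by group
          _ = _ := by rw [hue]; group }
  have hT : S0 V R P ≤ T := by
    refine s.S0_le b τ sw c hXV (fun n hn => ⟨1, one_mem _, n, hn, 1, one_mem _, by group⟩) (fun w hw l hl => ?_)
    obtain ⟨n, hn, z, hz, e⟩ := hK2 w hw l hl
    have hu := s.UP (conj_U' b sw (s.leU hl))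
    set u := m⁻¹ * l * m with hue
    refine ⟨l, hl, u⁻¹ * n * u, conj_inv_mem_of_normalizer (P_norm_WN hu) hn, u⁻¹ * z * u,
      conj_inv_mem_of_normalizer (N_le_NZ i (s.P_le_N hu)) hz, ?_⟩
    calc w * u * w⁻¹ = (w * u * w⁻¹ * u⁻¹) * u := by group
      _ = n * z * u := by rw [e]
      _ = u * (u⁻¹ * n * u) * (u⁻¹ * z * u) := by group
  obtain ⟨l, hl, n, hn, z, hz, rfl⟩ := hT hx
  have hl' : m⁻¹ * l * m ∈ S0 V R P := by
    have := cj_WN_le_S0 (P := P) (inv_mem sw.mX) (conj_mem_cj (line_le_WN s.mem hl))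
    rwa [inv_inv] at this
  have hzS : z ∈ S0 V R P := by
    have e : z = ((m⁻¹ * l * m) * n)⁻¹ * ((m⁻¹ * l * m) * n * z) := by group
    rw [e]
    exact mul_mem (inv_mem (mul_mem hl' (WN_le_S0 hn))) hx
  obtain ⟨a, ha, h1⟩ := s.S0_Z b τ c y hF hzS hz
  refine ⟨l, hl, n * a⁻¹, mul_mem hn (inv_mem (V_le_WN V P (b.R_le i ha))), a * z, h1, by group⟩

include sw in
/-- `Σ ∩ Q_i = W_N Ψ'` -/
theorem S0_Q (hF : ∃ a : F, a ≠ 0 ∧ a ≠ 1) (hXV : XX V R ⊓ centralizer (V : Set G) ≤ YY V R)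
    (hK2 : ∀ w ∈ WW V (R i), ∀ x ∈ cj p' V, ∃ n ∈ WN V P, ∃ z ∈ ZZ V R i,
      w * (m⁻¹ * x * m) * w⁻¹ * (m⁻¹ * x * m)⁻¹ = n * z)
    {x : G} (hx : x ∈ S0 V R P) (hQ : x ∈ QQ (R i)) : ∃ n ∈ WN V P, ∃ ψ ∈ Psi' V R P, x = n * ψ := by
  obtain ⟨l, hl, n, hn, ψ, hψ, rfl⟩ := s.S0_fact b τ sw c y hF hXV hK2 hx
  have hu := conj_U' b sw (s.leU hl)
  have hnQ : n ∈ QQ (R i) := b.W_le_Q i (s.WN_le_W hn)
  have hψQ : ψ ∈ QQ (R i) := b.W_le_Q i (D_le_W V R i hψ.2.1)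
  have huQ : m⁻¹ * l * m ∈ QQ (R i) := by
    have e : m⁻¹ * l * m = ((m⁻¹ * l * m) * n * ψ) * ψ⁻¹ * n⁻¹ := by group
    rw [e]
    exact mul_mem (mul_mem hQ (inv_mem hψQ)) (inv_mem hnQ)
  have huD : m⁻¹ * l * m ∈ DD V R := by
    rw [b.D_eq (Ne.symm s.hij)]
    exact mem_inf.2 ⟨UU_le_WW j hu, huQ⟩
  have hlD : l ∈ DD V R := by
    have := conj_mem_of_normalizer (b.NV_le_ND (b.X_le_NV sw.mX)) huD
    have e : m * (m⁻¹ * l * m) * m⁻¹ = l := by group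
    rwa [e] at this
  have hlR : l ∈ R i := s.cap b τ hF hl ⟨l, hlD, 1, one_mem _, by rw [mul_one]⟩
  have hV : m⁻¹ * l * m ∈ V := conj_inv_mem_of_normalizer (b.X_le_NV sw.mX) (b.R_le i hlR)
  exact ⟨(m⁻¹ * l * m) * n, mul_mem (V_le_WN V P hV) hn, ψ, hψ, rfl⟩

include sw in
/-- `Σ ∩ C(W_i) = R i Ψ'` -/
theorem S0_C [Finite G] (hF : ∃ a : F, a ≠ 0 ∧ a ≠ 1) (hXV : XX V R ⊓ centralizer (V : Set G) ≤ YY V R)
    (hK2 : ∀ w ∈ WW V (R i), ∀ x ∈ cj p' V, ∃ n ∈ WN V P, ∃ z ∈ ZZ V R i,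
      w * (m⁻¹ * x * m) * w⁻¹ * (m⁻¹ * x * m)⁻¹ = n * z)
    {x : G} (hx : x ∈ S0 V R P) (hC : x ∈ centralizer (WW V (R i) : Set G)) : ∃ a ∈ R i, a * x ∈ Psi' V R P := by
  obtain ⟨n, hn, ψ, hψ, e⟩ := s.S0_Q b τ sw c y hF hXV hK2 hx (b.cen_W_le_Q i hC)
  refine s.S0_Z b τ c y hF hx (mem_inf.2 ⟨?_, hC⟩)
  rw [e]
  exact mul_mem (s.WN_le_W hn) (D_le_W V R i hψ.2.1)

end ypair

end Sc

end Cfsg.Agent.Omega.HOneQ

end

section


/-!
# II.0h1, split, `q ≥ 4`: the group `P_W = ⟨(Y W_i)^P⟩` and (S') of #15939 (with the fill-in of #16463)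

* `PW`, `Nd.exists_PW`, `Nd.PW_ind`, `Nd.PW_two`;
* `kernel`: the kernel lemma;
* `Nd.N0_Q`: `[N₀ ∩ P, P_W] ≤ Q_i`; `Nd.Q_W`: `[Q_i, P_W] ≤ W_i`;
* `Nd.step`: `[y, P_W] ≤ N₀` implies `[y, P_W] ≤ W_i`, for `y ∈ U_j`.
-/

set_option autoImplicit false
set_option linter.unusedSectionVars false

namespace Cfsg.Agent.Omega.HOneQ

open Subgroup Cfsg.Agent.Omega.BTwo
open Cfsg.Agent.Omega.Lie (TorD)

universe u v w

variable {G : Type u} [Group G] {ι : Type w} {V : Subgroup G} {R : ι → Subgroup G} {i j : ι} {P : Subgroup G}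
  {F : Type v} [Field F] {vv : F → F → G} {t : F → G} {w1 w2 : F → G}

/-- `P_W = ⟨(Y W_i)^P⟩` -/
def PW (V : Subgroup G) (R : ι → Subgroup G) (i : ι) (P : Subgroup G) : Subgroup G :=
  ⨆ p : P, cj (p : G) (YY V R ⊔ WW V (R i))

theorem cj_YW_le {p : G} (hp : p ∈ P) : cj p (YY V R ⊔ WW V (R i)) ≤ PW V R i P :=
  le_iSup (fun p : P => cj (p : G) (YY V R ⊔ WW V (R i))) ⟨p, hp⟩

theorem YW_le_PW : YY V R ⊔ WW V (R i) ≤ PW V R i P := by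
  have := cj_YW_le (V := V) (R := R) (i := i) (one_mem P)
  rwa [cj_one] at this

theorem YY_le_PW : YY V R ≤ PW V R i P := le_sup_left.trans YW_le_PW

theorem UU_le_PW (j : ι) : UU V R j ≤ PW V R i P := (UU_le_YY j).trans YY_le_PW

theorem WW_le_PW : WW V (R i) ≤ PW V R i P := le_sup_right.trans YW_le_PW

theorem P_norm_PW : P ≤ normalizer (PW V R i P : Set G) := by
  intro g hg
  have key : ∀ g ∈ P, cj g (PW V R i P) ≤ PW V R i P := by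
    intro g hg
    rw [PW, cj_iSup]
    refine iSup_le fun p => ?_
    rw [← cj_mul]
    exact cj_YW_le (mul_mem hg p.2)
  rw [← cj_eq_self_iff]
  apply le_antisymm (key g hg)
  have := cj_mono (g := g) (key g⁻¹ (inv_mem hg))
  rwa [cj_cj_inv] at this

theorem norm_PW {g : G} (hP : g ∈ normalizer (P : Set G)) (hY : g ∈ normalizer (YY V R : Set G))
    (hW : g ∈ normalizer (WW V (R i) : Set G)) : g ∈ normalizer (PW V R i P : Set G) := by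
  have key : ∀ g : G, g ∈ normalizer (P : Set G) → g ∈ normalizer (YY V R : Set G) →
      g ∈ normalizer (WW V (R i) : Set G) → cj g (PW V R i P) ≤ PW V R i P := by
    intro g hP hY hW
    rw [PW, cj_iSup]
    refine iSup_le fun p => ?_
    have e : cj g (cj (p : G) (YY V R ⊔ WW V (R i))) = cj (g * p * g⁻¹) (YY V R ⊔ WW V (R i)) := by
      have e1 : g * (p : G) = g * p * g⁻¹ * g := by group
      calc cj g (cj (p : G) (YY V R ⊔ WW V (R i))) = cj (g * p) (YY V R ⊔ WW V (R i)) := (cj_mul _ _ _).symm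
        _ = cj (g * p * g⁻¹) (cj g (YY V R ⊔ WW V (R i))) := by rw [← cj_mul, ← e1]
        _ = _ := by rw [cj_sup, cj_eq_self_iff.2 hY, cj_eq_self_iff.2 hW]
    rw [e]
    exact cj_YW_le (conj_mem_of_normalizer hP p.2)
  rw [← cj_eq_self_iff]
  apply le_antisymm (key g hP hY hW)
  have := cj_mono (g := g) (key g⁻¹ (inv_mem hP) (inv_mem hY) (inv_mem hW))
  rwa [cj_cj_inv] at this

/-- the kernel lemma -/
theorem kernel {Q K L Z : Subgroup G} {y : G}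
    (ind : ∀ H : Subgroup G, Z ≤ H → (∀ p ∈ Q, ∀ h ∈ H, h ∈ Q → p * h * p⁻¹ ∈ H) → Q ≤ H) (hZQ : Z ≤ Q)
    (hPL : Q ≤ normalizer (L : Set G)) (hKn : K ≤ normalizer (L : Set G))
    (hKL : ∀ p ∈ Q, ∀ k ∈ K, p * k * p⁻¹ * k⁻¹ ∈ L) (hyK : ∀ p ∈ Q, p * y * p⁻¹ * y⁻¹ ∈ K)
    (hyZ : ∀ s ∈ Z, s * y * s⁻¹ * y⁻¹ ∈ L) : ∀ p ∈ Q, p * y * p⁻¹ * y⁻¹ ∈ L := by
  let H : Subgroup G :=
    { carrier := {p | p ∈ Q ∧ p * y * p⁻¹ * y⁻¹ ∈ L}
      one_mem' := ⟨one_mem _, by rw [show (1 : G) * y * 1⁻¹ * y⁻¹ = 1 by group]; exact one_mem _⟩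
      mul_mem' := by
        rintro p p' ⟨hp, h⟩ ⟨hp', h'⟩
        refine ⟨mul_mem hp hp', ?_⟩
        rw [show p * p' * y * (p * p')⁻¹ * y⁻¹ = (p * (p' * y * p'⁻¹ * y⁻¹) * p⁻¹) * (p * y * p⁻¹ * y⁻¹) by group]
        exact mul_mem (conj_mem_of_normalizer (hPL hp) h') h
      inv_mem' := by
        rintro p ⟨hp, h⟩
        refine ⟨inv_mem hp, ?_⟩
        rw [show p⁻¹ * y * p⁻¹⁻¹ * y⁻¹ = p⁻¹ * (p * y * p⁻¹ * y⁻¹)⁻¹ * p by group]
        exact conj_inv_mem_of_normalizer (hPL hp) (inv_mem h) }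
  have hH : Q ≤ H := by
    refine ind H (fun s hs => ⟨hZQ hs, hyZ s hs⟩) ?_
    rintro q hq h ⟨hh, h1⟩ -
    refine ⟨mul_mem (mul_mem hq hh) (inv_mem hq), ?_⟩
    have hk := hyK _ (inv_mem hq)
    set k := q⁻¹ * y * q⁻¹⁻¹ * y⁻¹ with hkk
    have h2 := hKL h hh k hk
    have h3 := conj_mem_of_normalizer (hKn hk) h1
    have e : q * h * q⁻¹ * y * (q * h * q⁻¹)⁻¹ * y⁻¹ =
        q * ((h * k * h⁻¹ * k⁻¹) * (k * (h * y * h⁻¹ * y⁻¹) * k⁻¹)) * q⁻¹ := by rw [hkk]; group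
    rw [e]
    exact conj_mem_of_normalizer (hPL hq) (mul_mem h2 h3)
  exact fun p hp => (hH hp).2

namespace Nd

variable (n : Nd V R i j P)
include n

theorem YW_le (b : BT V R) : YY V R ⊔ WW V (R i) ≤ P := by
  rw [b.Y_eq n.hij]
  exact sup_le (sup_le ((UU_le_WW i).trans ((b.W_le_Q i).trans n.QP)) n.UP) ((b.W_le_Q i).trans n.QP)

theorem PW_le (b : BT V R) : PW V R i P ≤ P := by
  refine iSup_le fun p => ?_
  rw [cj_le_iff]
  exact fun x hx => mul_mem (mul_mem p.2 (n.YW_le b hx)) (inv_mem p.2)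

/-- `P_W` is transitive on the lines -/
theorem exists_PW {p : G} (hp : p ∈ P) : ∃ q ∈ PW V R i P, cj q V = cj p V := by
  by_cases hV : cj p V = V
  · exact ⟨1, one_mem _, by rw [cj_one, hV]⟩
  obtain ⟨c, hc, h1, h2⟩ : ∃ c ∈ P, cj c V ≠ V ∧ cj p V ≠ cj c V := by
    obtain ⟨a, ha, a', ha', -, -, h1, h2, -, h12, -, -⟩ := n.four
    by_cases h : cj p V = cj a V
    · exact ⟨a', ha', h2, by rw [h]; exact h12⟩
    · exact ⟨a, ha, h1, h⟩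
  obtain ⟨u, hu, e⟩ := n.trans' (one_mem P) hp hc (by rw [cj_one]; exact Ne.symm h1) h2
  rw [cj_one] at e
  refine ⟨_, ?_, e⟩
  exact cj_YW_le hc (conj_mem_cj ((le_sup_left : YY V R ≤ _) (UU_le_YY j hu)))

theorem cj_YW (b : BT V R) {g : G} (hg : g ∈ P) (hV : g ∈ normalizer (V : Set G)) :
    cj g (YY V R ⊔ WW V (R i)) = YY V R ⊔ WW V (R i) := by
  rw [cj_sup, cj_eq_self_iff.2 (b.NV_le_NY hV), n.cj_W hg]

/-- induction: a subgroup containing `Y W_i`, invariant under `P_W`, contains `P_W` -/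
theorem PW_ind (b : BT V R) (H : Subgroup G) (h1 : YY V R ⊔ WW V (R i) ≤ H)
    (h2 : ∀ p ∈ PW V R i P, ∀ h ∈ H, h ∈ PW V R i P → p * h * p⁻¹ ∈ H) : PW V R i P ≤ H := by
  have hPW := n.PW_le b
  conv_lhs => rw [PW]
  refine iSup_le fun p => ?_
  obtain ⟨q, hq, e⟩ := n.exists_PW p.2
  have h3 : q⁻¹ * (p : G) ∈ normalizer (V : Set G) := by
    rw [← cj_eq_self_iff, cj_mul, ← e, cj_inv_cj]
  have h4 := n.cj_YW b (mul_mem (inv_mem (hPW hq)) p.2) h3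
  have e1 : cj (p : G) (YY V R ⊔ WW V (R i)) = cj q (YY V R ⊔ WW V (R i)) := by
    calc cj (p : G) (YY V R ⊔ WW V (R i)) = cj (q * (q⁻¹ * p)) (YY V R ⊔ WW V (R i)) := by
          rw [mul_inv_cancel_left]
      _ = _ := by rw [cj_mul, h4]
  rw [e1, cj_le_iff]
  exact fun x hx => h2 q hq x (h1 hx) (YW_le_PW hx)

/-- `P_W` is generated by 2-elements -/
theorem PW_two (b : BT V R) (H : Subgroup (PW V R i P)) (hH : ∀ x, (∃ k : ℕ, x ^ 2 ^ k = 1) → x ∈ H) : H = ⊤ := by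
  have key : ∀ p : P, cj (p : G) (YY V R ⊔ WW V (R i)) ≤ H.map (PW V R i P).subtype := by
    intro p
    have hY : IsPGroup 2 (WW V (R i)) := b.W_isPGroup i
    have hU : ∀ k, ∀ u ∈ UU V R k, ∃ r : ℕ, u ^ 2 ^ r = 1 := fun k u hu => by
      obtain ⟨r, hr⟩ := b.W_isPGroup k ⟨u, UU_le_WW k hu⟩
      exact ⟨r, congrArg Subtype.val hr⟩
    have hW : ∀ u ∈ WW V (R i), ∃ r : ℕ, u ^ 2 ^ r = 1 := fun u hu => by
      obtain ⟨r, hr⟩ := b.W_isPGroup i ⟨u, hu⟩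
      exact ⟨r, congrArg Subtype.val hr⟩
    have h1 : ∀ u ∈ YY V R ⊔ WW V (R i), (∃ r : ℕ, u ^ 2 ^ r = 1) →
        (p : G) * u * (p : G)⁻¹ ∈ H.map (PW V R i P).subtype := by
      intro u hu hr
      obtain ⟨r, hr⟩ := hr
      have h2 : (p : G) * u * (p : G)⁻¹ ∈ PW V R i P := cj_YW_le p.2 (conj_mem_cj hu)
      refine ⟨⟨_, h2⟩, hH _ ⟨r, ?_⟩, rfl⟩
      apply Subtype.ext
      change ((p : G) * u * (p : G)⁻¹) ^ 2 ^ r = 1
      rw [conj_pow, hr, mul_one, mul_inv_cancel]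
    rw [cj_sup, b.Y_eq n.hij, cj_sup]
    refine sup_le (sup_le ?_ ?_) ?_ <;> rw [cj_le_iff] <;> intro u hu
    · exact h1 u ((le_sup_left : YY V R ≤ _) (UU_le_YY i hu)) (hU i u hu)
    · exact h1 u ((le_sup_left : YY V R ≤ _) (UU_le_YY j hu)) (hU j u hu)
    · exact h1 u ((le_sup_right : WW V (R i) ≤ _) hu) (hW u hu)
  rw [eq_top_iff]
  intro x _
  obtain ⟨y, hy, e⟩ := (iSup_le key : PW V R i P ≤ _) x.2
  have : y = x := Subtype.ext e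
  rwa [← this]

/-- `P_W` centralises `R_i` and `Psi` -/
theorem PW_cen (b : BT V R) {z : G} (hz : ∀ p ∈ P, p * z * p⁻¹ ∈ centralizer (YY V R : Set G) ⊓
    centralizer (WW V (R i) : Set G)) : z ∈ centralizer (PW V R i P : Set G) := by
  have _ := b
  have key : PW V R i P ≤ centralizer {z} := by
    refine iSup_le fun p => ?_
    rw [cj_le_iff]
    have h0 : YY V R ⊔ WW V (R i) ≤ centralizer {(p : G)⁻¹ * z * p} := by
      have h1 := hz _ (inv_mem p.2)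
      rw [inv_inv] at h1
      refine sup_le (fun u hu => ?_) fun u hu => ?_
      · rw [mem_centralizer_iff]
        rintro _ rfl
        exact (mem_centralizer_iff.1 h1.1 u hu).symm
      · rw [mem_centralizer_iff]
        rintro _ rfl
        exact (mem_centralizer_iff.1 h1.2 u hu).symm
    intro u hu
    have h1 := mem_centralizer_iff.1 (h0 hu) _ rfl
    rw [mem_centralizer_iff]
    intro z' hz'
    rw [Set.mem_singleton_iff.1 hz']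
    calc z * ((p : G) * u * (p : G)⁻¹) = p * (((p : G)⁻¹ * z * p) * u) * (p : G)⁻¹ := by group
      _ = p * (u * ((p : G)⁻¹ * z * p)) * (p : G)⁻¹ := by rw [h1]
      _ = _ := by group
  rw [mem_centralizer_iff]
  exact fun x hx => (mem_centralizer_iff.1 (key hx) z rfl).symm

/-- elements of `N₀ ∩ P` normalise `V` -/
theorem N0_NV (b : BTS V R) {x : G} (hx : x ∈ Lie.LemNS.N0 V R i) (hxP : x ∈ P) :
    x ∈ normalizer (V : Set G) := by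
  rw [← cj_eq_self_iff]
  have h := n.inj b hxP (one_mem P) (by
    rw [cj_one]
    refine cj_le_of_comm le_sup_left fun v hv => (le_sup_right : ZZ V R i ≤ _) ?_
    exact hx.2.2 v (V_le_WW V (R i) hv))
  rwa [cj_one] at h

/-- `[N₀ ∩ P, U_j] ≤ Q_i` -/
theorem N0_U [Finite G] [CharP F 2] (b : BTS V R) (hF : ∃ a : F, a ≠ 0 ∧ a ≠ 1) (c : Coord V R i j vv w1 w2)
    (τ : TorD V R i j vv t) (hodd : Odd ((normalizer (V : Set G)).relIndex (normalizer (R i : Set G))))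
    {x : G} (hx : x ∈ Lie.LemNS.N0 V R i) (hxP : x ∈ P) {u : G} (hu : u ∈ UU V R j) :
    u * x * u⁻¹ * x⁻¹ ∈ QQ (R i) := by
  -- `x = w x'`, `w ∈ W_i`, `x'` centralises `V`
  obtain ⟨w, hw, hwx⟩ : ∃ w ∈ WW V (R i), w⁻¹ * x ∈ centralizer (V : Set G) := by
    have hxV := n.N0_NV b hx hxP
    obtain ⟨k, hk⟩ := b.perm x hxV j
    have hki : k ≠ i := by
      rintro rfl
      have h1 : cj x (R k) = R k := n.cj_R hxP
      exact n.hij (b.R_index (cj_injective (h1.trans hk.symm)))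
    obtain ⟨w, hw, e⟩ := b.trans i (Ne.symm n.hij) hki
    refine ⟨w, hw, ?_⟩
    have h2 : cj (w⁻¹ * x) (R j) = R j := by rw [cj_mul, hk, ← e, cj_inv_cj]
    have h3 : ∀ r ∈ R i, (w⁻¹ * x) * r * (w⁻¹ * x)⁻¹ = r := by
      intro r hr
      have h4 := n.conj_R (mul_mem (inv_mem (n.QP (b.W_le_Q i hw))) hxP) hr
      exact h4
    have hN0 : w⁻¹ * x ∈ Lie.LemNS.N0 V R i := by
      refine mul_mem (inv_mem (mem_inf.2 ⟨n.PR (n.QP (b.W_le_Q i hw)), ?_, fun w' hw' => ?_⟩)) hx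
      · exact N_le_NZ i (b.W_le_N i hw)
      · exact BT.R_le_Z b.toBT i (b.WW_comm i hw hw')
    have h5 : ∀ r ∈ R j, (w⁻¹ * x) * r * (w⁻¹ * x)⁻¹ = r := by
      intro r hr
      have h6 : (w⁻¹ * x) * r * (w⁻¹ * x)⁻¹ * r⁻¹ ∈ R j := mul_mem (h2.le (conj_mem_cj hr)) (inv_mem hr)
      have h7 := hN0.2.2 r (V_le_WW V (R i) (b.R_le j hr))
      have h8 := b.cen_VW (b.R_le j h6) h7.2
      have h9 := b.eq_one n.hij h8 h6
      exact mul_inv_eq_one.1 h9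
    have h6 : V ≤ centralizer {w⁻¹ * x} := by
      rw [← b.R_sup i j n.hij]
      refine sup_le (fun r hr => ?_) fun r hr => ?_
      · rw [mem_centralizer_iff]; rintro _ rfl; exact mul_inv_eq_iff_eq_mul.1 (h3 r hr)
      · rw [mem_centralizer_iff]; rintro _ rfl; exact mul_inv_eq_iff_eq_mul.1 (h5 r hr)
    rw [mem_centralizer_iff]
    exact fun r hr => (mem_centralizer_iff.1 (h6 hr) _ rfl).symm
  have hwQ := b.W_le_Q i hw
  have hx' : w⁻¹ * x ∈ Lie.LemNS.N0 V R i := by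
    refine mul_mem (inv_mem (mem_inf.2 ⟨n.PR (n.QP hwQ), ?_, fun w' hw' => ?_⟩)) hx
    · exact N_le_NZ i (b.W_le_N i hw)
    · exact BT.R_le_Z b.toBT i (b.WW_comm i hw hw')
  have huN := b.cen_le_N i (UU_le_cen j hu)
  set x' := w⁻¹ * x with hxx
  have h1 : u * x' * u⁻¹ * x'⁻¹ ∈ DD V R := by
    have h2 : u * x' * u⁻¹ * x'⁻¹ ∈ UU V R j := by
      rw [show u * x' * u⁻¹ * x'⁻¹ = u * (x' * u⁻¹ * x'⁻¹) by group]
      exact mul_mem hu (conj_mem_of_normalizer (b.cen_le_NU j hwx) (inv_mem hu))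
    have h3 : u * x' * u⁻¹ * x'⁻¹ ∈ Lie.LemNS.N0 V R i :=
      mul_mem (Lie.LemNS.N_le_NN0 i huN hx') (inv_mem hx')
    refine Lie.LemNS.faithful b hF c τ hodd h2 fun w' hw' => ?_
    have h4 := h3.2.2 w' hw'
    set g := u * x' * u⁻¹ * x'⁻¹
    have h5 := inv_mem h4
    rwa [show (g * w' * g⁻¹ * w'⁻¹)⁻¹ = w' * g * w'⁻¹ * g⁻¹ by group] at h5
  have e : u * x * u⁻¹ * x⁻¹ = (u * w * u⁻¹) * (u * x' * u⁻¹ * x'⁻¹) * w⁻¹ := by rw [hxx]; group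
  rw [e]
  exact mul_mem (mul_mem (b.W_le_Q i (conj_mem_of_normalizer (normalizer_le_WW V (R i) huN) hw))
    (b.W_le_Q i (D_le_W V R i h1))) (inv_mem hwQ)

/-- `[N₀ ∩ P, P_W] ≤ Q_i` -/
theorem N0_Q [Finite G] [CharP F 2] (b : BTS V R) (hF : ∃ a : F, a ≠ 0 ∧ a ≠ 1) (c : Coord V R i j vv w1 w2)
    (τ : TorD V R i j vv t) (hodd : Odd ((normalizer (V : Set G)).relIndex (normalizer (R i : Set G))))
    {p : G} (hp : p ∈ PW V R i P) {x : G} (hx : x ∈ Lie.LemNS.N0 V R i) (hxP : x ∈ P) :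
    p * x * p⁻¹ * x⁻¹ ∈ QQ (R i) := by
  have hPN := n.P_le_N
  have hQN := le_normalizer_O2 (normalizer (R i : Set G))
  let H : Subgroup G :=
    { carrier := {p | p ∈ P ∧ ∀ x ∈ Lie.LemNS.N0 V R i, x ∈ P → p * x * p⁻¹ * x⁻¹ ∈ QQ (R i)}
      one_mem' := ⟨one_mem _, fun x _ _ => by
        rw [show (1 : G) * x * 1⁻¹ * x⁻¹ = 1 by group]; exact one_mem _⟩
      mul_mem' := by
        rintro p p' ⟨hp, h⟩ ⟨hp', h'⟩
        refine ⟨mul_mem hp hp', fun x hx hxP => ?_⟩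
        rw [show p * p' * x * (p * p')⁻¹ * x⁻¹ = (p * (p' * x * p'⁻¹ * x⁻¹) * p⁻¹) * (p * x * p⁻¹ * x⁻¹) by group]
        exact mul_mem (conj_mem_of_normalizer (hQN (hPN hp)) (h' x hx hxP)) (h x hx hxP)
      inv_mem' := by
        rintro p ⟨hp, h⟩
        refine ⟨inv_mem hp, fun x hx hxP => ?_⟩
        rw [show p⁻¹ * x * p⁻¹⁻¹ * x⁻¹ = p⁻¹ * (p * x * p⁻¹ * x⁻¹)⁻¹ * p by group]
        exact conj_inv_mem_of_normalizer (hQN (hPN hp)) (inv_mem (h x hx hxP)) }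
  have hH : PW V R i P ≤ H := by
    refine n.PW_ind b.toBT H ?_ ?_
    · have hQ : ∀ y ∈ QQ (R i), y ∈ H := fun y hy => ⟨n.QP hy, fun x hx hxP => by
        rw [show y * x * y⁻¹ * x⁻¹ = y * (x * y⁻¹ * x⁻¹) by group]
        exact mul_mem hy (conj_mem_of_normalizer (hQN (hPN hxP)) (inv_mem hy))⟩
      rw [b.Y_eq n.hij]
      refine sup_le (sup_le ?_ ?_) ?_
      · exact fun y hy => hQ y (b.W_le_Q i (UU_le_WW i hy))
      · exact fun y hy => ⟨n.UP hy, fun x hx hxP => n.N0_U b hF c τ hodd hx hxP hy⟩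
      · exact fun y hy => hQ y (b.W_le_Q i hy)
    · rintro q hq h ⟨hh, h1⟩ -
      have hqP := n.PW_le b.toBT hq
      refine ⟨mul_mem (mul_mem hqP hh) (inv_mem hqP), fun x hx hxP => ?_⟩
      have h2 := h1 _ (Lie.LemNS.N_le_NN0 i (hPN (inv_mem hqP)) hx) (mul_mem (mul_mem (inv_mem hqP) hxP)
        (inv_mem (inv_mem hqP)))
      have h3 := conj_mem_of_normalizer (hQN (hPN hqP)) h2
      rwa [show q * (h * (q⁻¹ * x * q⁻¹⁻¹) * h⁻¹ * (q⁻¹ * x * q⁻¹⁻¹)⁻¹) * q⁻¹ =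
        q * h * q⁻¹ * x * (q * h * q⁻¹)⁻¹ * x⁻¹ by group] at h3
  exact (hH hp).2 x hx hxP

/-- `[Q_i, P_W] ≤ W_i` -/
theorem Q_W [Finite G] (b : BT V R) {p : G} (hp : p ∈ PW V R i P) {x : G} (hx : x ∈ QQ (R i)) :
    p * x * p⁻¹ * x⁻¹ ∈ WW V (R i) := by
  have hPN := n.P_le_N
  have hQN := le_normalizer_O2 (normalizer (R i : Set G))
  have hWN := normalizer_le_WW V (R i)
  let H : Subgroup G :=
    { carrier := {p | p ∈ P ∧ ∀ x ∈ QQ (R i), p * x * p⁻¹ * x⁻¹ ∈ WW V (R i)}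
      one_mem' := ⟨one_mem _, fun x _ => by
        rw [show (1 : G) * x * 1⁻¹ * x⁻¹ = 1 by group]; exact one_mem _⟩
      mul_mem' := by
        rintro p p' ⟨hp, h⟩ ⟨hp', h'⟩
        refine ⟨mul_mem hp hp', fun x hx => ?_⟩
        rw [show p * p' * x * (p * p')⁻¹ * x⁻¹ = (p * (p' * x * p'⁻¹ * x⁻¹) * p⁻¹) * (p * x * p⁻¹ * x⁻¹) by group]
        exact mul_mem (conj_mem_of_normalizer (hWN (hPN hp)) (h' x hx)) (h x hx)
      inv_mem' := by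
        rintro p ⟨hp, h⟩
        refine ⟨inv_mem hp, fun x hx => ?_⟩
        rw [show p⁻¹ * x * p⁻¹⁻¹ * x⁻¹ = p⁻¹ * (p * x * p⁻¹ * x⁻¹)⁻¹ * p by group]
        exact conj_inv_mem_of_normalizer (hWN (hPN hp)) (inv_mem (h x hx)) }
  have hH : PW V R i P ≤ H := by
    refine n.PW_ind b H ?_ ?_
    · have h1 : YY V R ⊔ WW V (R i) ≤ XX V R := sup_le YY_le_XX (W_le_X V R i)
      exact fun y hy => ⟨n.YW_le b hy, fun x hx => b.XQ (h1 hy) (hPN (n.YW_le b hy)) hx⟩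
    · rintro q hq h ⟨hh, h1⟩ -
      have hqP := n.PW_le b hq
      refine ⟨mul_mem (mul_mem hqP hh) (inv_mem hqP), fun x hx => ?_⟩
      have h2 := h1 _ (conj_mem_of_normalizer (hQN (hPN (inv_mem hqP))) hx)
      have h3 := conj_mem_of_normalizer (hWN (hPN hqP)) h2
      rwa [show q * (h * (q⁻¹ * x * q⁻¹⁻¹) * h⁻¹ * (q⁻¹ * x * q⁻¹⁻¹)⁻¹) * q⁻¹ =
        q * h * q⁻¹ * x * (q * h * q⁻¹)⁻¹ * x⁻¹ by group] at h3
  exact (hH hp).2 x hx

/-- **(S')** from `N₀` to `W_i` -/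
theorem step [Finite G] [CharP F 2] (b : BTS V R) (hF : ∃ a : F, a ≠ 0 ∧ a ≠ 1) (c : Coord V R i j vv w1 w2)
    (τ : TorD V R i j vv t) (hodd : Odd ((normalizer (V : Set G)).relIndex (normalizer (R i : Set G))))
    {y : G} (hy : y ∈ UU V R j) (h : ∀ p ∈ PW V R i P, p * y * p⁻¹ * y⁻¹ ∈ Lie.LemNS.N0 V R i) :
    ∀ p ∈ PW V R i P, p * y * p⁻¹ * y⁻¹ ∈ WW V (R i) := by
  have hPN := n.P_le_N
  have hQN := le_normalizer_O2 (normalizer (R i : Set G))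
  have hWN := normalizer_le_WW V (R i)
  have hPWP := n.PW_le b.toBT
  have hyW : ∀ s ∈ YY V R ⊔ WW V (R i), s * y * s⁻¹ * y⁻¹ ∈ WW V (R i) := by
    intro s hs
    -- `s = y' w`
    have hyN := b.cen_le_N i (UU_le_cen j hy)
    have key : YY V R ⊔ WW V (R i) ≤ P ⊓ cenMod (WW V (R i)) (UU V R j) := by
      rw [b.Y_eq n.hij]
      refine le_inf (by rw [← b.Y_eq n.hij]; exact n.YW_le b.toBT) (sup_le (sup_le ?_ ?_) ?_)
      · exact fun z hz => ⟨hWN (b.W_le_N i (UU_le_WW i hz)), fun u hu =>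
          D_le_W V R i (b.UU_comm n.hij hz hu)⟩
      · exact fun z hz => ⟨hWN (b.cen_le_N i (UU_le_cen j hz)), fun u hu =>
          V_le_WW V (R i) (b.R_le j (b.WU (UU_le_WW j hz) hu))⟩
      · exact fun z hz => ⟨hWN (b.W_le_N i hz), fun u hu => by
          rw [show z * u * z⁻¹ * u⁻¹ = z * (u * z⁻¹ * u⁻¹) by group]
          exact mul_mem hz (conj_mem_of_normalizer (hWN (b.cen_le_N i (UU_le_cen j hu))) (inv_mem hz))⟩
    exact (key hs).2.2 y hy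
  -- first step: `Q_i`
  have h1 : ∀ p ∈ PW V R i P, p * y * p⁻¹ * y⁻¹ ∈ QQ (R i) := by
    refine kernel (K := Lie.LemNS.N0 V R i ⊓ P) (n.PW_ind b.toBT) YW_le_PW (fun p hp => hQN (hPN (hPWP hp)))
      (fun x hx => hQN (Lie.LemNS.N0_le_N i hx.1)) (fun p hp k hk => n.N0_Q b hF c τ hodd hp hk.1 hk.2)
      (fun p hp => mem_inf.2 ⟨h p hp, ?_⟩) (fun s hs => b.W_le_Q i (hyW s hs))
    have hyP := n.UP hy
    have hpP := hPWP hp
    exact mul_mem (mul_mem (mul_mem hpP hyP) (inv_mem hpP)) (inv_mem hyP)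
  exact kernel (K := QQ (R i)) (n.PW_ind b.toBT) YW_le_PW (fun p hp => hWN (hPN (hPWP hp)))
    (fun x hx => hWN (b.Q_le i hx)) (fun p hp k hk => n.Q_W b.toBT hp hk) h1 hyW

end Nd

end Cfsg.Agent.Omega.HOneQ

end

section


/-!
# II.0h1, split, `q ≥ 4`: (L2) of #15939

Given (S') (`[V_2', P_W] ≤ W_i`), the double centraliser `C_{W_i}(W⁰) ≤ W_N Z_i`, and the `F`-structure `Fq` of
`W_i / Z_i`: `p y p⁻¹ y⁻¹ ∈ W_N Z_i` for `p ∈ P_W`, `y ∈ V_2'` (`Sc.l2`).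
-/

set_option autoImplicit false
set_option linter.unusedSectionVars false

namespace Cfsg.Agent.Omega.HOneQ

open Subgroup Cfsg.Agent.Omega.BTwo
open Cfsg.Agent.Omega.Lie (TorD)
open Cfsg.Agent.Omega.Lie.Quot Cfsg.Agent.Omega.HOne.ModZ
open scoped Pointwise

universe u v w

variable {G : Type u} [Group G] {ι : Type w} {V : Subgroup G} {R : ι → Subgroup G} {i j : ι} {P : Subgroup G}
  {F : Type v} [Field F] {vv : F → F → G} {t : F → G} {w1 w2 : F → G}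

/-- `P` normalises `W⁰` -/
theorem Nd.P_W0 (n : Nd V R i j P) {p w : G} (hp : p ∈ P) (hw : w ∈ W0 V R i P) : p * w * p⁻¹ ∈ W0 V R i P :=
  mem_inf.2 ⟨conj_mem_of_normalizer (normalizer_le_WW V (R i) (n.P_le_N hp)) hw.1,
    conj_mem_of_normalizer (normalizer_le_normalizer_centralizer _ (P_norm_WN hp)) hw.2⟩

namespace Sc

section grp

variable {p' : G} (s : Sc V R i j vv t P p') (b : BTS V R) (τ : TorD V R i j vv t) {m : G} (sw : Sw V R i j t m)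
  (c : Coord V R i j vv w1 w2)
include s b τ

/-- `P_W` centralises `R_i Psi` -/
theorem PW_RPsi (hF : ∃ a : F, a ≠ 0 ∧ a ≠ 1) {p a ψ : G} (hp : p ∈ PW V R i P) (ha : a ∈ R i)
    (hψ : ψ ∈ Psi V R P) : p * (a * ψ) = a * ψ * p := by
  have h := s.PW_cen b.toBT (z := a * ψ) (fun x hx => ?_)
  · exact mem_centralizer_iff.1 h p hp
  have h1 : x * (a * ψ) * x⁻¹ ∈ WN V P :=
    conj_mem_of_normalizer (P_norm_WN hx) (mul_mem (V_le_WN V P (b.R_le i ha)) hψ.1)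
  have h2 : x * (a * ψ) * x⁻¹ ∈ ZZ V R i := by
    refine conj_mem_of_normalizer (N_le_NZ i (s.P_le_N hx)) (mul_mem (BT.R_le_Z b.toBT i ha) ?_)
    exact mem_inf.2 ⟨D_le_W V R i (Psi_le_D hψ), cen_X_le i (Psi_le_CenX hψ)⟩
  obtain ⟨a', ha', h3⟩ := s.WN_Z b τ hF h1 h2
  refine mem_inf.2 ⟨?_, h2.2⟩
  have e : x * (a * ψ) * x⁻¹ = a'⁻¹ * (a' * (x * (a * ψ) * x⁻¹)) := by group
  rw [e]
  refine mul_mem ?_ (centralizer_le YY_le_XX (Psi_le_CenX h3))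
  exact centralizer_le YY_le_cen (le_centralizer_iff.1 le_rfl (b.R_le i (inv_mem ha')))

include sw in
theorem y2_S0 {x : G} (hx : x ∈ cj p' V) : m⁻¹ * x * m ∈ S0 V R P := by
  have h := cj_WN_le_S0 (V := V) (R := R) (P := P) (inv_mem sw.mX) (conj_mem_cj (line_le_WN s.mem hx))
  rwa [inv_inv] at h

include sw c in
/-- `[h⁻¹ w h, y] = [w, y]` for `h ∈ N(V) ∩ P_W` -/
theorem K_inv (hF : ∃ a : F, a ≠ 0 ∧ a ≠ 1) (lin : Lin V R i P vv m p')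
    (hXV : XX V R ⊓ centralizer (V : Set G) ≤ YY V R)
    (hK2 : ∀ w ∈ WW V (R i), ∀ x ∈ cj p' V, ∃ n ∈ WN V P, ∃ z ∈ ZZ V R i,
      w * (m⁻¹ * x * m) * w⁻¹ * (m⁻¹ * x * m)⁻¹ = n * z)
    {E : Type u} [AddCommGroup E] [Module F E] {P1 P2 : G → E} (y : YPair V R i j w1 w2 E P1 P2)
    {x h w : G} (hx : x ∈ cj p' V) (hh : h ∈ PW V R i P) (hV : h ∈ normalizer (V : Set G)) (hw : w ∈ W0 V R i P)
    (hS : h * (m⁻¹ * x * m) * h⁻¹ * (m⁻¹ * x * m)⁻¹ ∈ WW V (R i)) :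
    (h⁻¹ * w * h) * (m⁻¹ * x * m) * (h⁻¹ * w * h)⁻¹ * (m⁻¹ * x * m)⁻¹ =
      w * (m⁻¹ * x * m) * w⁻¹ * (m⁻¹ * x * m)⁻¹ := by
  have hhP := s.PW_le b.toBT hh
  have hy := s.y2_S0 b τ sw hx
  obtain ⟨a, ha, ψ, hψ, e1⟩ := s.key b τ sw hF lin hw hx
  have hw' : h⁻¹ * w * h ∈ W0 V R i P := by
    have := s.P_W0 (inv_mem hhP) hw
    rwa [inv_inv] at this
  obtain ⟨a', ha', ψ', hψ', e2⟩ := s.key b τ sw hF lin hw' hx
  set y2 := m⁻¹ * x * m with hy2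
  have hN : h ∈ normalizer (S0 V R P : Set G) := S0_norm (b.NV_le_NX hV) (P_norm_WN hhP)
  have hs0 : h * y2 * h⁻¹ * y2⁻¹ ∈ S0 V R P := mul_mem (conj_mem_of_normalizer hN hy) (inv_mem hy)
  obtain ⟨n, hn, χ, hχ, e3⟩ := s.S0_Q b τ sw c y hF hXV hK2 hs0 (b.W_le_Q i hS)
  set sh := h * y2 * h⁻¹ * y2⁻¹ with hsh
  have c1 : w * sh = sh * w := by
    have k1 := W0_comm hw hn
    have k2 := mem_centralizer_iff.1 hχ.2.2 w (W_le_X V R i hw.1)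
    rw [e3]
    calc w * (n * χ) = (w * n) * χ := by group
      _ = n * (w * χ) := by rw [k1]; group
      _ = _ := by rw [k2]; group
  have hz : a * ψ ∈ ZZ V R i := mul_mem (BT.R_le_Z b.toBT i ha)
    (mem_inf.2 ⟨D_le_W V R i (Psi_le_D hψ), cen_X_le i (Psi_le_CenX hψ)⟩)
  have c2 : a * ψ * sh = sh * (a * ψ) := z_comm hz hS
  have c3 := s.PW_RPsi b τ hF hh ha' hψ'
  rw [e1, e2]
  have e4 : h * (a' * ψ') * h⁻¹ = a' * ψ' := by rw [c3, mul_inv_cancel_right]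
  rw [← e4, ← e2]
  calc h * (h⁻¹ * w * h * y2 * (h⁻¹ * w * h)⁻¹ * y2⁻¹) * h⁻¹ = w * (sh * y2) * w⁻¹ * (sh * y2)⁻¹ := by
        rw [hsh]; group
    _ = (w * sh) * y2 * w⁻¹ * y2⁻¹ * sh⁻¹ := by group
    _ = sh * (w * y2 * w⁻¹ * y2⁻¹) * sh⁻¹ := by rw [c1]; group
    _ = a * ψ := by rw [e1, ← c2, mul_inv_cancel_right]

include sw c in
/-- `[w, x_p] [w, y] = [p⁻¹ w p, y]`, `x_p = [p, y]` -/
theorem K_main (hF : ∃ a : F, a ≠ 0 ∧ a ≠ 1) (lin : Lin V R i P vv m p') {x p w : G} (hx : x ∈ cj p' V)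
    (hp : p ∈ PW V R i P) (hw : w ∈ W0 V R i P)
    (hS : p * (m⁻¹ * x * m) * p⁻¹ * (m⁻¹ * x * m)⁻¹ ∈ WW V (R i)) :
    w * (p * (m⁻¹ * x * m) * p⁻¹ * (m⁻¹ * x * m)⁻¹) * w⁻¹ * (p * (m⁻¹ * x * m) * p⁻¹ * (m⁻¹ * x * m)⁻¹)⁻¹ *
      (w * (m⁻¹ * x * m) * w⁻¹ * (m⁻¹ * x * m)⁻¹) =
    (p⁻¹ * w * p) * (m⁻¹ * x * m) * (p⁻¹ * w * p)⁻¹ * (m⁻¹ * x * m)⁻¹ := by
  have _ := c
  have hpP := s.PW_le b.toBT hp
  obtain ⟨a, ha, ψ, hψ, e1⟩ := s.key b τ sw hF lin hw hx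
  have hw' : p⁻¹ * w * p ∈ W0 V R i P := by
    have := s.P_W0 (inv_mem hpP) hw
    rwa [inv_inv] at this
  obtain ⟨a', ha', ψ', hψ', e2⟩ := s.key b τ sw hF lin hw' hx
  set y2 := m⁻¹ * x * m with hy2
  set xp := p * y2 * p⁻¹ * y2⁻¹ with hxp
  have hz : a * ψ ∈ ZZ V R i := mul_mem (BT.R_le_Z b.toBT i ha)
    (mem_inf.2 ⟨D_le_W V R i (Psi_le_D hψ), cen_X_le i (Psi_le_CenX hψ)⟩)
  have c2 : a * ψ * xp = xp * (a * ψ) := z_comm hz hS
  have c3 := s.PW_RPsi b τ hF hp ha' hψ'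
  rw [e2]
  have e4 : p * (a' * ψ') * p⁻¹ = a' * ψ' := by rw [c3, mul_inv_cancel_right]
  rw [← e4, ← e2, e1]
  calc w * xp * w⁻¹ * xp⁻¹ * (a * ψ) = w * xp * w⁻¹ * (xp⁻¹ * (a * ψ * xp)) * xp⁻¹ := by group
    _ = w * xp * w⁻¹ * (a * ψ) * xp⁻¹ := by rw [c2]; group
    _ = w * xp * w⁻¹ * (w * y2 * w⁻¹ * y2⁻¹) * xp⁻¹ := by rw [e1]
    _ = _ := by rw [hxp]; group

include sw c in
/-- `x_p` centralises `W_N` -/
theorem xp_W0 (hF : ∃ a : F, a ≠ 0 ∧ a ≠ 1) (lin : Lin V R i P vv m p') {x p : G} (hx : x ∈ cj p' V)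
    (hp : p ∈ PW V R i P) (hS : p * (m⁻¹ * x * m) * p⁻¹ * (m⁻¹ * x * m)⁻¹ ∈ WW V (R i)) :
    p * (m⁻¹ * x * m) * p⁻¹ * (m⁻¹ * x * m)⁻¹ ∈ W0 V R i P := by
  have _ := c
  have hpP := s.PW_le b.toBT hp
  refine mem_inf.2 ⟨hS, ?_⟩
  have h1 : m⁻¹ * x * m ∈ centralizer (WN V P : Set G) := by
    rw [mem_centralizer_iff]
    exact fun n hn => s.comm2 b τ sw c hF lin hn (line_le_WN s.mem hx)
  exact mul_mem (conj_mem_of_normalizer (normalizer_le_normalizer_centralizer _ (P_norm_WN hpP)) h1) (inv_mem h1)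

end grp

section mod

variable [Finite F] [CharP F 2] {M : Type u} [AddCommGroup M] [Module F M] [DistribMulAction (HQ (R i)) M] {p : G → M}
  {f : M →ₗ[F] M →ₗ[F] F} {e : F →ₗ[F] M} {ω : M →ₗ[F] F} {σ : HQ (R i) →* RingAut F} {κ : HQ (R i) → F}
  {E : Type u} [AddCommGroup E] [Module F E] {P1 P2 : G → E}

variable {p' : G} (s : Sc V R i j vv t P p') (b : BTS V R) (τ : TorD V R i j vv t) {m : G} (sw : Sw V R i j t m)
  (c : Coord V R i j vv w1 w2) (q : Fq V R i vv M p f e ω σ κ) (y : YPair V R i j w1 w2 E P1 P2)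
include s b τ c q

/-- the `R_j`-part of `[m w m⁻¹, x]` is `F`-linear in `x ∈ V'` -/
theorem lin6 (sw : Sw V R i j t m) {w : G} (hw : w ∈ W0 V R i P) : ∃ S : F, ∀ r z r0 s',
    KX V R P vv m w (p' * vv r z * p'⁻¹) r0 s' → s' = z * S := by
  obtain ⟨r1, S, h1⟩ := s.kx b τ sw hw ((s.mem_line τ).2 ⟨0, 1, rfl⟩)
  refine ⟨S, fun r z r0 s' h2 => ?_⟩
  have hu := conj_U b sw (W0_le_U hw)
  have huN := b.cen_le_N i (UU_le_cen j hu)
  have hpN := s.P_le_N s.mem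
  have hpH : pr (R i) ⟨p', hpN⟩ ∈ H0 R i := mem_im.2 ⟨p', hpN, s.PR s.mem, rfl⟩
  have huH : pr (R i) ⟨_, huN⟩ ∈ H0 R i := q.cenV_H0 c huN (UU_le_cen j hu)
  -- `p (p' v r z p'⁻¹) = z • g • e 1`
  have hx : ∀ r z, p (p' * vv r z * p'⁻¹) = z • (pr (R i) ⟨p', hpN⟩ • e 1) := by
    intro r z
    rw [← q.p_act _ _ _ (q.hvW c r z), q.e_eq, ← q.H0_smul c hpH, ← LinearMap.map_smul e, smul_eq_mul, mul_one]
  have hW : ∀ r z, p' * vv r z * p'⁻¹ ∈ WW V (R i) := fun r z => s.line_le s.mem ((s.mem_line τ).2 ⟨_, _, rfl⟩)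
  have key : ∀ r z r0 s', KX V R P vv m w (p' * vv r z * p'⁻¹) r0 s' →
      e s' = z • (pr (R i) ⟨_, huN⟩ • (pr (R i) ⟨p', hpN⟩ • e 1) - pr (R i) ⟨p', hpN⟩ • e 1) := by
    rintro r z r0 s' ⟨ψ, hψ, e1⟩
    have h3 : p (m * w * m⁻¹ * (p' * vv r z * p'⁻¹) * (m * w * m⁻¹)⁻¹ * (p' * vv r z * p'⁻¹)⁻¹) = e s' := by
      rw [e1, q.p_mul _ (q.hvW c r0 s') _ (D_le_W V R i (Psi_le_D hψ)), q.e_eq,
        (q.p_ker ψ (D_le_W V R i (Psi_le_D hψ))).2 (mem_inf.2 ⟨D_le_W V R i (Psi_le_D hψ), cen_X_le i (Psi_le_CenX hψ)⟩),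
        add_zero]
    rw [← h3, ← q.toMZ.smul_sub huN (hW r z), hx, q.H0_smul c huH, ← smul_sub]
  have h3 := key _ _ _ _ h1
  have h4 := key _ _ _ _ h2
  rw [one_smul] at h3
  rw [← h3] at h4
  apply q.e_inj c b.toBT
  rw [h4, ← smul_eq_mul, LinearMap.map_smul e]

include y in
/-- the torus argument -/
theorem tor_zero (hF : ∃ a : F, a ≠ 0 ∧ a ≠ 1) {a : F} (ha : a ≠ 0) (ha1 : a ≠ 1) {x0 : G} (hx0 : x0 ∈ UU V R i)
    (hG : ∀ w ∈ W0 V R i P, f (p (t a * w * (t a)⁻¹)) (p x0) = a ^ 2 * f (p w) (p x0)) {w : G}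
    (hw : w ∈ W0 V R i P) : f (p w) (p x0) = 0 := by
  set T := pr (R i) ⟨t a, τ.normR ha⟩ with hT
  have hTW : ∀ w ∈ WW V (R i), p (t a * w * (t a)⁻¹) = T • p w := fun w hw => (q.p_act _ _ _ hw).symm
  have hx0W := UU_le_WW i hx0
  have hW0 : ∀ w ∈ W0 V R i P, ∃ w' ∈ W0 V R i P, w = t a * w' * (t a)⁻¹ := fun w hw => by
    have h1 := s.W0_tor b τ hw (inv_ne_zero ha)
    rw [τ.inv ha, inv_inv] at h1
    exact ⟨_, h1, by group⟩
  have h1 : ∀ w ∈ W0 V R i P, f (T • p w) (p x0) = a ^ 2 * f (p w) (p x0) := fun w hw => by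
    rw [← hTW w hw.1]; exact hG w hw
  have tf : ∀ x x', f (T • x) (T • x') = a * f x x' := q.t_f c τ (Units.mk0 a ha)
  have tsm : ∀ (s : F) x, T • (s • x) = s • (T • x) := q.t_smul c τ (Units.mk0 a ha)
  have h2 : ∀ w ∈ W0 V R i P, f (p w) (T • p x0) = a⁻¹ * f (p w) (p x0) := by
    intro w hw
    obtain ⟨w', hw', rfl⟩ := hW0 w hw
    rw [hTW _ hw'.1, tf, h1 _ hw']
    field_simp
  have h3 : ∀ w ∈ W0 V R i P, f (p w) (T • T • p x0) = a⁻¹ * a⁻¹ * f (p w) (p x0) := by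
    intro w hw
    obtain ⟨w', hw', rfl⟩ := hW0 w hw
    rw [hTW _ hw'.1, tf, h1 _ hw', h2 _ hw']
    field_simp
  obtain ⟨π, -, hker, -, -, hπt⟩ := q.exists_pi b.toBT c τ y hF
  have hω : ω (p x0) = 0 := (q.mem_P c hx0W).2 hx0
  have hωT : ω (T • p x0) = 0 := by
    have := q.t_ω c τ (Units.mk0 a ha) (p x0)
    rw [hω, mul_zero] at this
    exact this
  have h4 : T • p x0 - a • p x0 ∈ q.DS b.toBT c τ y hF := by
    have h5 := hπt (Units.mk0 a ha) ⟨p x0, hω⟩ hωT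
    have h6 := (hker (⟨T • p x0, hωT⟩ - a • ⟨p x0, hω⟩)).1 (by
      rw [map_sub, map_smul]
      exact sub_eq_zero.2 h5)
    exact h6
  set d := T • p x0 - a • p x0 with hd
  obtain ⟨γ, hγ⟩ := q.t_D b.toBT c τ y (Units.mk0 a ha) h4
  have h5 : f (p w) (T • d - d) = 0 := by
    have h6 : f (p w) (e γ) = 0 := by
      rw [q.fe, (q.mem_P c hw.1).2 (W0_le_U hw), zero_mul]
    rw [← h6, hγ]; rfl
  rw [map_sub, hd, smul_sub, tsm, map_sub, map_sub, LinearMap.map_smul, LinearMap.map_smul, h3 w hw, h2 w hw,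
    smul_eq_mul, smul_eq_mul] at h5
  have h2F : (2 : F) = 0 := CharTwo.two_eq_zero
  have h6 : a⁻¹ * a⁻¹ * ((1 - a) * (1 - a) * (1 + a)) * f (p w) (p x0) = 0 := by
    have e1 : a⁻¹ * a⁻¹ * ((1 - a) * (1 - a) * (1 + a)) * f (p w) (p x0) =
        a⁻¹ * a⁻¹ * f (p w) (p x0) - a * (a⁻¹ * f (p w) (p x0)) - (a⁻¹ * f (p w) (p x0) - a * f (p w) (p x0)) := by
      field_simp
      ring
    rw [e1]; exact h5
  have h7 : 1 - a ≠ 0 := sub_ne_zero.2 (Ne.symm ha1)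
  have h8 : 1 + a ≠ 0 := by
    intro h9
    apply h7
    linear_combination h9 - a * h2F
  have h9 : a⁻¹ * a⁻¹ * ((1 - a) * (1 - a) * (1 + a)) ≠ 0 :=
    mul_ne_zero (mul_ne_zero (inv_ne_zero ha) (inv_ne_zero ha)) (mul_ne_zero (mul_ne_zero h7 h7) h8)
  exact (mul_eq_zero.1 h6).resolve_left h9

include y in
/-- **(L2)** -/
theorem l2 (sw : Sw V R i j t m) (hF : ∃ a : F, a ≠ 0 ∧ a ≠ 1) (lin : Lin V R i P vv m p')
    (hXV : XX V R ⊓ centralizer (V : Set G) ≤ YY V R)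
    (hK2 : ∀ w ∈ WW V (R i), ∀ x ∈ cj p' V, ∃ n ∈ WN V P, ∃ z ∈ ZZ V R i,
      w * (m⁻¹ * x * m) * w⁻¹ * (m⁻¹ * x * m)⁻¹ = n * z)
    (hS : ∀ p ∈ PW V R i P, ∀ x ∈ cj p' V, p * (m⁻¹ * x * m) * p⁻¹ * (m⁻¹ * x * m)⁻¹ ∈ WW V (R i))
    (dc : ∀ x ∈ WW V (R i), (∀ w ∈ W0 V R i P, w * x = x * w) → x ∈ WN V P ⊔ ZZ V R i)
    {h x : G} (hh : h ∈ PW V R i P) (hx : x ∈ cj p' V) :
    ∃ n ∈ WN V P, ∃ z ∈ ZZ V R i, h * (m⁻¹ * x * m) * h⁻¹ * (m⁻¹ * x * m)⁻¹ = n * z := by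
  obtain ⟨a, ha, ha1⟩ := hF
  have hF : ∃ a : F, a ≠ 0 ∧ a ≠ 1 := ⟨a, ha, ha1⟩
  have hPWP := s.PW_le b.toBT
  have hL : ∀ y z, p' * vv y z * p'⁻¹ ∈ cj p' V := fun y z => (s.mem_line τ).2 ⟨y, z, rfl⟩
  choose! S hSl using fun w (hw : w ∈ W0 V R i P) => s.lin6 b τ c q sw hw
  -- the commutator `[w, y]` in coordinates
  have hK : ∀ w ∈ W0 V R i P, ∀ r z, ∃ ψ ∈ Psi V R P, w * (m⁻¹ * (p' * vv r z * p'⁻¹) * m) * w⁻¹ *
      (m⁻¹ * (p' * vv r z * p'⁻¹) * m)⁻¹ = m⁻¹ * (vv 0 (z * S w) * ψ) * m := by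
    intro w hw r z
    obtain ⟨r0, s', hk⟩ := s.kx b τ sw hw (hL r z)
    have h0 := s.key_zero b τ sw hF lin hw (hL r z) hk
    have h1 := hSl w hw _ _ _ _ hk
    subst h0
    subst h1
    obtain ⟨ψ, hψ, e1⟩ := hk
    refine ⟨ψ, hψ, ?_⟩
    rw [← e1]; group
  have hinj : ∀ s1 s2 : F, ∀ ψ ∈ Psi V R P, ∀ ψ' ∈ Psi V R P,
      m⁻¹ * (vv 0 s1 * ψ) * m = m⁻¹ * (vv 0 s2 * ψ') * m → s1 = s2 := by
    intro s1 s2 ψ hψ ψ' hψ' e1
    exact (coord_unique b.toBT τ (Psi_le_CenX hψ) (Psi_le_CenX hψ')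
      (mul_left_cancel (mul_right_cancel e1))).2.1
  -- (F1)
  have f1 : ∀ w ∈ W0 V R i P, ∀ a, a ≠ 0 → S (t a * w * (t a)⁻¹) = a ^ 2 * S w := by
    intro w hw a ha
    have hw' := s.W0_tor b τ hw ha
    obtain ⟨r0, s', hk⟩ := s.kx b τ sw hw' (hL 0 1)
    have h1 := hSl _ hw' _ _ _ _ hk
    have h2 := s.KX_tor b τ sw ha hk
    rw [s.sc _ _ _ ha, show (t a)⁻¹ * (t a * w * (t a)⁻¹) * t a = w by group] at h2
    have h3 := hSl w hw _ _ _ _ h2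
    rw [one_mul] at h1
    rw [h1, mul_one] at h3
    have h4 : S (t a * w * (t a)⁻¹) = a * (a⁻¹ * S (t a * w * (t a)⁻¹)) := by rw [mul_inv_cancel_left₀ ha]
    rw [h4, h3]; ring
  -- (F2)
  have f2 : ∀ w ∈ W0 V R i P, ∀ g ∈ PW V R i P, g ∈ normalizer (V : Set G) → S (g⁻¹ * w * g) = S w := by
    intro w hw g hg hV
    have hw' : g⁻¹ * w * g ∈ W0 V R i P := by
      have := s.P_W0 (inv_mem (hPWP hg)) hw
      rwa [inv_inv] at this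
    obtain ⟨ψ, hψ, e1⟩ := hK _ hw' 0 1
    obtain ⟨ψ', hψ', e2⟩ := hK w hw 0 1
    have h1 := s.K_inv b τ sw c hF lin hXV hK2 y (hL 0 1) hg hV hw (hS g hg _ (hL 0 1))
    rw [e1, e2] at h1
    have h2 := hinj _ _ _ hψ _ hψ' h1
    rwa [one_mul, one_mul] at h2
  have fc : ∀ w ∈ W0 V R i P, ∀ g ∈ PW V R i P, g⁻¹ * w * g ∈ W0 V R i P := fun w hw g hg => by
    have := s.P_W0 (inv_mem (hPWP hg)) hw
    rwa [inv_inv] at this
  obtain ⟨p0, hp0, e0⟩ := s.exists_PW s.mem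
  -- (F3)
  have f3 : ∀ w ∈ W0 V R i P, S (p0⁻¹ * w * p0) = S w := by
    intro w hw
    set x0 := p0 * (m⁻¹ * (p' * vv 0 1 * p'⁻¹) * m) * p0⁻¹ * (m⁻¹ * (p' * vv 0 1 * p'⁻¹) * m)⁻¹ with hx0e
    have hx0W := hS p0 hp0 _ (hL 0 1)
    rw [← hx0e] at hx0W
    have hx00 : x0 ∈ W0 V R i P := s.xp_W0 b τ sw c hF lin (hL 0 1) hp0 hx0W
    have hx0U := W0_le_U hx00
    -- `m v g 0 m⁻¹ = v 0 (μ g)`
    have hμ : ∀ g : F, ∃ g', m * vv g 0 * m⁻¹ = vv 0 g' := fun g => by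
      obtain ⟨g', hg'⟩ := (τ.Rj _).1 (sw.m1.le (conj_mem_cj ((τ.Ri _).2 ⟨g, rfl⟩)))
      exact ⟨g', hg'.symm⟩
    choose μ hμ using hμ
    have μt : ∀ g a, a ≠ 0 → μ (a * g) = a * μ g := by
      intro g a ha
      have h1 := τ.act a g 0 ha
      rw [mul_zero] at h1
      have h2 : m * vv (a * g) 0 * m⁻¹ = vv 0 (a * μ g) := by
        have h3 := sw.mt a ha
        have h4 := τ.act a⁻¹ 0 (μ g) (inv_ne_zero ha)
        rw [inv_inv, mul_zero, τ.inv ha, inv_inv] at h4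
        rw [← h4, ← hμ, ← h1]
        calc m * (t a * vv g 0 * (t a)⁻¹) * m⁻¹ = (m * t a * m⁻¹) * (m * vv g 0 * m⁻¹) * (m * t a * m⁻¹)⁻¹ := by
              group
          _ = _ := by rw [h3]; group
      rw [hμ] at h2
      exact (c.v_inj h2).2
    have μi : ∀ g g', μ g = μ g' → g = g' := by
      intro g g' h1
      have h2 : m * vv g 0 * m⁻¹ = m * vv g' 0 * m⁻¹ := by rw [hμ, hμ, h1]
      exact (c.v_inj (mul_left_cancel (mul_right_cancel h2))).1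
    -- `μ (f (p w) (p x₀)) = S (p₀⁻¹ w p₀) - S w`
    have hD : ∀ w ∈ W0 V R i P, μ (f (p w) (p x0)) + S w = S (p0⁻¹ * w * p0) := by
      intro w hw
      obtain ⟨ψ, hψ, e1⟩ := hK _ (fc w hw p0 hp0) 0 1
      obtain ⟨ψ', hψ', e2⟩ := hK w hw 0 1
      have h1 := s.K_main b τ sw c hF lin (hL 0 1) hp0 hw hx0W
      rw [e1, e2, ← hx0e, q.f_eq w hw.1 x0 hx0W] at h1
      have h2 : vv (f (p w) (p x0)) 0 = m⁻¹ * vv 0 (μ (f (p w) (p x0))) * m := by rw [← hμ]; group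
      rw [h2] at h1
      have h3 : m⁻¹ * (vv 0 (μ (f (p w) (p x0)) + 1 * S w) * ψ') * m =
          m⁻¹ * (vv 0 (1 * S (p0⁻¹ * w * p0)) * ψ) * m := by
        rw [← h1]
        have h4 := c.v_add 0 (μ (f (p w) (p x0))) 0 (1 * S w)
        rw [add_zero] at h4
        rw [h4]; group
      have h4 := hinj _ _ _ hψ' _ hψ h3
      rwa [one_mul, one_mul] at h4
    -- the torus
    have hG : ∀ w ∈ W0 V R i P, f (p (t a * w * (t a)⁻¹)) (p x0) = a ^ 2 * f (p w) (p x0) := by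
      intro w hw
      apply μi
      have hwt := s.W0_tor b τ hw ha
      have h1 := hD _ hwt
      have h2 := hD w hw
      have h3 : S (p0⁻¹ * (t a * w * (t a)⁻¹) * p0) = a ^ 2 * S (p0⁻¹ * w * p0) := by
        -- `p₀'' = t⁻¹ p₀ t = p₀ h`
        have hta : t a ∈ normalizer (PW V R i P : Set G) := by
          refine norm_PW (s.tP a ha) (b.NV_le_NY (s.t_norm_V b τ ha)) ?_
          exact normalizer_le_WW V (R i) (τ.normR ha)
        have hp1 : (t a)⁻¹ * p0 * t a ∈ PW V R i P := conj_inv_mem_of_normalizer hta hp0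
        have hV' : cj (t a)⁻¹ (cj p' V) = cj p' V := by
          rw [← cj_inv_cj (t a) (cj p' V)]
          congr 1
          rw [cj_inv_cj]
          apply le_antisymm
          · intro x hx
            obtain ⟨y1, y2, rfl⟩ := (s.mem_line τ).1 hx
            refine (s.mem_line τ).1 hx |>.elim fun _ _ => ?_
            rw [mem_cj, s.mem_line τ]
            refine ⟨a⁻¹ * y1, a⁻¹ * y2, ?_⟩
            have h5 := s.sc a (a⁻¹ * y1) (a⁻¹ * y2) ha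
            rw [mul_inv_cancel_left₀ ha, mul_inv_cancel_left₀ ha] at h5
            rw [← h5]; group
          · rw [cj_le_iff]
            intro x hx
            obtain ⟨y1, y2, rfl⟩ := (s.mem_line τ).1 hx
            rw [s.sc a _ _ ha]
            exact hL _ _
        have hh : p0⁻¹ * ((t a)⁻¹ * p0 * t a) ∈ normalizer (V : Set G) := by
          rw [← cj_eq_self_iff, cj_mul, cj_mul, cj_eq_self_iff.2 (s.t_norm_V b τ ha), cj_mul, e0, hV', ← e0,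
            cj_inv_cj]
        have h4 := f2 (p0⁻¹ * w * p0) (fc w hw p0 hp0) _ (mul_mem (inv_mem hp0) hp1) hh
        rw [← h4, ← f1 _ (fc _ (fc w hw p0 hp0) _ (mul_mem (inv_mem hp0) hp1)) a ha]
        congr 1
        group
      rw [f1 w hw a ha, h3, ← h2] at h1
      have h4 : a ^ 2 * μ (f (p w) (p x0)) = μ (a ^ 2 * f (p w) (p x0)) := by
        rw [μt _ _ (pow_ne_zero 2 ha)]
      rw [← h4]
      linear_combination h1
    have h0 := s.tor_zero b τ c q y hF ha ha1 hx0U hG hw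
    have h1 := hD w hw
    rw [h0] at h1
    have h2 : μ 0 = 0 := by
      have h3 := hμ 0
      rw [v_zero τ, mul_one, mul_inv_cancel] at h3
      exact (τ.v_inj _ _ h3.symm).2
    rw [h2, zero_add] at h1
    exact h1.symm
  -- (F5)
  have f5 : ∀ w ∈ W0 V R i P, ∀ g ∈ PW V R i P, S (g⁻¹ * w * g) = S w := by
    intro w hw g hg
    by_cases hV : cj g V = V
    · exact f2 w hw g hg (cj_eq_self_iff.1 hV)
    obtain ⟨u, hu, e1⟩ := s.trans p0 (hPWP hp0) (by rw [e0]; exact s.ne) g (hPWP hg) hV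
    have huPW : u ∈ PW V R i P := UU_le_PW j hu
    have hh : (u * p0)⁻¹ * g ∈ normalizer (V : Set G) := by
      rw [← cj_eq_self_iff, cj_mul, ← e1, ← cj_mul u, cj_inv_cj]
    have hhPW : (u * p0)⁻¹ * g ∈ PW V R i P := mul_mem (inv_mem (mul_mem huPW hp0)) hg
    have hu' : u⁻¹ * w * u ∈ W0 V R i P := fc w hw u huPW
    have h1 := f2 _ (fc _ hu' p0 hp0) _ hhPW hh
    have e2 : ((u * p0)⁻¹ * g)⁻¹ * (p0⁻¹ * (u⁻¹ * w * u) * p0) * ((u * p0)⁻¹ * g) = g⁻¹ * w * g := by group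
    rw [e2] at h1
    rw [h1, f3 _ hu']
    exact f2 w hw u huPW (b.X_le_NV (YY_le_XX (UU_le_YY j hu)))
  -- (F6)
  set xh := h * (m⁻¹ * x * m) * h⁻¹ * (m⁻¹ * x * m)⁻¹ with hxh
  have hxW := hS h hh x hx
  rw [← hxh] at hxW
  have f6 : ∀ w ∈ W0 V R i P, w * xh = xh * w := by
    intro w hw
    obtain ⟨r, z, rfl⟩ := (s.mem_line τ).1 hx
    obtain ⟨ψ, hψ, e1⟩ := hK _ (fc w hw h hh) r z
    obtain ⟨ψ', hψ', e2⟩ := hK w hw r z
    have h1 := s.K_main b τ sw c hF lin (hL r z) hh hw hxW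
    rw [e1, e2, ← hxh, f5 w hw h hh] at h1
    have h2 : w * xh * w⁻¹ * xh⁻¹ ∈ CenX V R := by
      have h3 : w * xh * w⁻¹ * xh⁻¹ = m⁻¹ * (vv 0 (z * S w) * (ψ * ψ'⁻¹) * (vv 0 (z * S w))⁻¹) * m := by
        rw [eq_mul_inv_of_mul_eq h1]; group
      have h4 : ψ * ψ'⁻¹ ∈ CenX V R := mul_mem (Psi_le_CenX hψ) (inv_mem (Psi_le_CenX hψ'))
      have h5 := mem_centralizer_iff.1 (BT.CenX_le_cen b.toBT h4) (vv 0 (z * S w)) ((τ.v_mem _).2 ⟨_, _, rfl⟩)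
      have h6 := mem_centralizer_iff.1 h4 m sw.mX
      rw [h3, h5, mul_inv_cancel_right, mul_assoc, ← h6, inv_mul_cancel_left]
      exact h4
    have h3 := b.WW_comm i hw.1 hxW
    have h4 : w * xh * w⁻¹ * xh⁻¹ = 1 := by
      have h5 : w * xh * w⁻¹ * xh⁻¹ ∈ CenX V R ⊓ V := ⟨h2, b.R_le i h3⟩
      rw [BT.CenX_inf_V b.toBT] at h5
      exact mem_bot.1 h5
    exact mul_inv_eq_iff_eq_mul.1 (mul_inv_eq_one.1 h4)
  have f7 := dc xh hxW f6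
  have hcomm : ((WN V P ⊔ ZZ V R i : Subgroup G) : Set G) = (WN V P : Set G) * (ZZ V R i : Set G) := by
    refine coe_mul_of_left_le_normalizer_right _ _ (le_normalizer_of fun n hn z hz => ?_)
    rw [← z_comm hz (s.WN_le_W hn), mul_inv_cancel_right]
    exact hz
  have f8 : xh ∈ ((WN V P ⊔ ZZ V R i : Subgroup G) : Set G) := f7
  rw [hcomm] at f8
  obtain ⟨n, hn, z, hz, e1⟩ := f8
  exact ⟨n, hn, z, hz, e1.symm⟩

end mod

end Sc

end Cfsg.Agent.Omega.HOneQ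

end
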