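import Cfsg.Agent.Mrg.Omega.HOneQ.ResS
import Cfsg.Agent.Mrg.Omega.Lie.Nodes.AptLin
import Cfsg.Agent.Mrg.Omega.Lie.Nodes.AptR
import Cfsg.Agent.Mrg.Omega.HOneQ.NodeQUse

section


/-!
# II.0h1, split, `q ≥ 4`: (L3), (L) of #15939

Input `H4 : p y p⁻¹ y⁻¹ ∈ W_N Z_i` (`p ∈ P_W`, `y ∈ V_2'`; output of ResQ).

`Sh V R P = ⟨Σ^P⟩`, `Σ = S0 V R P = ⟨W_N^X⟩`, is elementary abelian (`Sh_comm`, `Sh_sq`), normalised by `X` and `P`
(`X_norm_Sh`, `P_norm_Sh`, `norm_Sh`), `Sh ≤ Σ C_X` (`Sh_le`, `Sh_fact`), `Sh ∩ C(W_i) = R_i (Sh ∩ C_X)` (`Sh_C`),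
`Sh ∩ Q_i = W_N (Sh ∩ C_X)` (`Sh_Q`), `Sh ∩ C_X` is centralised by `⟨U_j^P⟩` (`Sh_cen_U`).
-/

set_option autoImplicit false
set_option linter.unusedSectionVars false

namespace Cfsg.Agent.Omega.HOneQ

open Subgroup Cfsg.Agent.Omega.BTwo
open Cfsg.Agent.Omega.Lie (TorD)
open scoped Pointwise

universe u v w

variable {G : Type u} [Group G] {ι : Type w} {V : Subgroup G} {R : ι → Subgroup G} {i j : ι} {P : Subgroup G}
  {F : Type v} [Field F] {vv : F → F → G} {t : F → G} {w1 w2 : F → G}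

theorem mem_sup_of_norm {A B : Subgroup G} (h : B ≤ normalizer (A : Set G)) {x : G} (hx : x ∈ A ⊔ B) :
    ∃ a ∈ A, ∃ b ∈ B, x = a * b := by
  have h1 := coe_mul_of_right_le_normalizer_left A B h
  have h2 : x ∈ ((A ⊔ B : Subgroup G) : Set G) := hx
  rw [h1] at h2
  obtain ⟨a, ha, b, hb, e⟩ := h2
  exact ⟨a, ha, b, hb, e.symm⟩

/-- the lift of a commutator condition along the generators of a subgroup -/
theorem comm_sup {A B L : Subgroup G} {p : G} (hBL : B ≤ L) (hAL : ∀ a ∈ A, ∀ b ∈ L, a * b * a⁻¹ ∈ L)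
    (h1 : ∀ a ∈ A, p * a * p⁻¹ * a⁻¹ ∈ L) (h2 : ∀ b ∈ B, p * b * p⁻¹ * b⁻¹ ∈ L) {a b : G} (ha : a ∈ A) (hb : b ∈ B) :
    p * (a * b) * p⁻¹ * (a * b)⁻¹ ∈ L := by
  have _ := hBL
  rw [show p * (a * b) * p⁻¹ * (a * b)⁻¹ = (p * a * p⁻¹ * a⁻¹) * (a * (p * b * p⁻¹ * b⁻¹) * a⁻¹) by group]
  exact mul_mem (h1 a ha) (hAL a ha _ (h2 b hb))

/-- `⟨Σ^P⟩` -/
def Sh (V : Subgroup G) (R : ι → Subgroup G) (P : Subgroup G) : Subgroup G := ⨆ p : P, cj (p : G) (S0 V R P)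

/-- `C_** = ⟨(R_i C_X)^P⟩` -/
def Cs (V : Subgroup G) (R : ι → Subgroup G) (i : ι) (P : Subgroup G) : Subgroup G :=
  ⨆ p : P, cj (p : G) (R i ⊔ CenX V R)

theorem cj_S0_le_Sh {p : G} (hp : p ∈ P) : cj p (S0 V R P) ≤ Sh V R P :=
  le_iSup (fun p : P => cj (p : G) (S0 V R P)) ⟨p, hp⟩

theorem S0_le_Sh : S0 V R P ≤ Sh V R P := by
  have := cj_S0_le_Sh (V := V) (R := R) (one_mem P)
  rwa [cj_one] at this

theorem cj_le_Cs {p : G} (hp : p ∈ P) : cj p (R i ⊔ CenX V R) ≤ Cs V R i P :=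
  le_iSup (fun p : P => cj (p : G) (R i ⊔ CenX V R)) ⟨p, hp⟩

theorem le_Cs : R i ⊔ CenX V R ≤ Cs V R i P := by
  have := cj_le_Cs (V := V) (R := R) (i := i) (one_mem P)
  rwa [cj_one] at this

theorem P_norm_iSup (K : Subgroup G) : P ≤ normalizer ((⨆ p : P, cj (p : G) K : Subgroup G) : Set G) := by
  intro g hg
  have key : ∀ g ∈ P, cj g (⨆ p : P, cj (p : G) K) ≤ ⨆ p : P, cj (p : G) K := by
    intro g hg
    rw [cj_iSup]
    refine iSup_le fun p => ?_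
    rw [← cj_mul]
    exact le_iSup (fun p : P => cj (p : G) K) ⟨g * p, mul_mem hg p.2⟩
  rw [← cj_eq_self_iff]
  apply le_antisymm (key g hg)
  have := cj_mono (g := g) (key g⁻¹ (inv_mem hg))
  rwa [cj_cj_inv] at this

theorem P_norm_Sh : P ≤ normalizer (Sh V R P : Set G) := P_norm_iSup _

theorem P_norm_Cs : P ≤ normalizer (Cs V R i P : Set G) := P_norm_iSup _

/-- the elements of `N(V) ∩ N(P)` normalise `Sh` -/
theorem norm_Sh (b : BT V R) {g : G} (hP : g ∈ normalizer (P : Set G)) (hV : g ∈ normalizer (V : Set G)) :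
    g ∈ normalizer (Sh V R P : Set G) := by
  have key : ∀ g : G, g ∈ normalizer (P : Set G) → g ∈ normalizer (V : Set G) → cj g (Sh V R P) ≤ Sh V R P := by
    intro g hP hV
    rw [Sh, cj_iSup]
    refine iSup_le fun p => ?_
    have e : cj g (cj (p : G) (S0 V R P)) = cj (g * p * g⁻¹) (S0 V R P) := by
      have e1 : g * (p : G) = g * p * g⁻¹ * g := by group
      calc cj g (cj (p : G) (S0 V R P)) = cj (g * p) (S0 V R P) := (cj_mul _ _ _).symm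
        _ = cj (g * p * g⁻¹) (cj g (S0 V R P)) := by rw [← cj_mul, ← e1]
        _ = _ := by rw [cj_eq_self_iff.2 (S0_norm (b.NV_le_NX hV) (norm_WN hP hV))]
    rw [e]
    exact cj_S0_le_Sh (conj_mem_of_normalizer hP p.2)
  rw [← cj_eq_self_iff]
  apply le_antisymm (key g hP hV)
  have := cj_mono (g := g) (key g⁻¹ (inv_mem hP) (inv_mem hV))
  rwa [cj_cj_inv] at this

namespace Nd

variable (n : Nd V R i j P)
include n

theorem Cs_le (b : BT V R) : Cs V R i P ≤ centralizer (WW V (R i) : Set G) := by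
  refine iSup_le fun p => ?_
  rw [← n.cj_W p.2, centralizer_cj]
  exact cj_mono (sup_le (b.R_cen_W i) (cen_X_le i))

/-- `[Z_i, P_W] ≤ C_**` -/
theorem Z_Cs (b : BTS V R) {p z : G} (hp : p ∈ PW V R i P) (hz : z ∈ ZZ V R i) :
    p * z * p⁻¹ * z⁻¹ ∈ Cs V R i P := by
  have hPN := n.P_le_N
  let H : Subgroup G :=
    { carrier := {p | p ∈ P ∧ ∀ x ∈ ZZ V R i, p * x * p⁻¹ * x⁻¹ ∈ Cs V R i P}
      one_mem' := ⟨one_mem _, fun x _ => by
        rw [show (1 : G) * x * 1⁻¹ * x⁻¹ = 1 by group]; exact one_mem _⟩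
      mul_mem' := by
        rintro p p' ⟨hp, h⟩ ⟨hp', h'⟩
        refine ⟨mul_mem hp hp', fun x hx => ?_⟩
        rw [show p * p' * x * (p * p')⁻¹ * x⁻¹ = (p * (p' * x * p'⁻¹ * x⁻¹) * p⁻¹) * (p * x * p⁻¹ * x⁻¹) by group]
        exact mul_mem (conj_mem_of_normalizer (P_norm_Cs hp) (h' x hx)) (h x hx)
      inv_mem' := by
        rintro p ⟨hp, h⟩
        refine ⟨inv_mem hp, fun x hx => ?_⟩
        rw [show p⁻¹ * x * p⁻¹⁻¹ * x⁻¹ = p⁻¹ * (p * x * p⁻¹ * x⁻¹)⁻¹ * p by group]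
        exact conj_inv_mem_of_normalizer (P_norm_Cs hp) (inv_mem (h x hx)) }
  have hH : PW V R i P ≤ H := by
    refine n.PW_ind b.toBT H ?_ ?_
    · rw [b.Y_eq n.hij]
      have h1 : ∀ w ∈ WW V (R i), w ∈ H := fun w hw => ⟨n.QP (b.W_le_Q i hw), fun x hx => by
        rw [← z_comm hx hw, mul_inv_cancel_right, mul_inv_cancel]
        exact one_mem _⟩
      refine sup_le (sup_le (fun u hu => h1 u (UU_le_WW i hu)) fun u hu => ⟨n.UP hu, fun x hx => ?_⟩) h1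
      obtain ⟨a, ha, h2⟩ := BTS.EE_cen b n.hij hx.2 hu
      have h3 : x * u * x⁻¹ * u⁻¹ ∈ Cs V R i P := by
        have e : x * u * x⁻¹ * u⁻¹ = a⁻¹ * (a * (x * u * x⁻¹ * u⁻¹)) := by group
        rw [e]
        exact le_Cs (mul_mem ((le_sup_left : R i ≤ _) (inv_mem ha)) ((le_sup_right : CenX V R ≤ _) h2.2))
      rw [show u * x * u⁻¹ * x⁻¹ = (x * u * x⁻¹ * u⁻¹)⁻¹ by group]
      exact inv_mem h3
    · rintro q hq h ⟨hh, h1⟩ -
      have hqP := n.PW_le b.toBT hq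
      refine ⟨mul_mem (mul_mem hqP hh) (inv_mem hqP), fun x hx => ?_⟩
      have h2 := h1 _ (conj_mem_of_normalizer (N_le_NZ i (hPN (inv_mem hqP))) hx)
      have h3 := conj_mem_of_normalizer (P_norm_Cs hqP) h2
      rwa [show q * (h * (q⁻¹ * x * q⁻¹⁻¹) * h⁻¹ * (q⁻¹ * x * q⁻¹⁻¹)⁻¹) * q⁻¹ =
        q * h * q⁻¹ * x * (q * h * q⁻¹)⁻¹ * x⁻¹ by group] at h3
  exact (hH hp).2 z hz

/-- `C_** = R_i C_X C_X^{p₀}` -/
theorem Cs_eq (b : BTS V R) {p0 : G} (hp0 : p0 ∈ P) (hne : cj p0 V ≠ V) :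
    Cs V R i P ≤ R i ⊔ CenX V R ⊔ cj p0 (CenX V R) := by
  refine iSup_le fun p => ?_
  have hR : cj (p : G) (R i) = R i := n.cj_R p.2
  rw [cj_sup, hR]
  refine sup_le (le_sup_left.trans le_sup_left) ?_
  by_cases hV : cj (p : G) V = V
  · rw [cj_eq_self_iff.2 (BT.NV_le_NCenX b.toBT (cj_eq_self_iff.1 hV))]
    exact le_sup_right.trans le_sup_left
  obtain ⟨u, hu, e⟩ := n.trans p0 hp0 hne p p.2 hV
  have h1 : (u * p0)⁻¹ * (p : G) ∈ normalizer (V : Set G) := by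
    rw [← cj_eq_self_iff, cj_mul, ← e, ← cj_mul u, cj_inv_cj]
  have h2 : cj (p : G) (CenX V R) = cj u (cj p0 (CenX V R)) := by
    have e1 : (p : G) = u * (p0 * ((u * p0)⁻¹ * p)) := by group
    conv_lhs => rw [e1]
    rw [cj_mul, cj_mul, cj_eq_self_iff.2 (BT.NV_le_NCenX b.toBT h1)]
  rw [h2, cj_le_iff]
  intro k hk
  have hkC : k ∈ centralizer (WW V (R i) : Set G) := by
    rw [← n.cj_W hp0, centralizer_cj]
    exact cj_mono (cen_X_le i) hk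
  obtain ⟨a, ha, h3⟩ := BTS.EE_cen b n.hij hkC hu
  have h4 : k * u * k⁻¹ * u⁻¹ ∈ R i ⊔ CenX V R := by
    have e : k * u * k⁻¹ * u⁻¹ = a⁻¹ * (a * (k * u * k⁻¹ * u⁻¹)) := by group
    rw [e]
    exact mul_mem ((le_sup_left : R i ≤ _) (inv_mem ha)) ((le_sup_right : CenX V R ≤ _) h3.2)
  have e : u * k * u⁻¹ = (k * u * k⁻¹ * u⁻¹)⁻¹ * k := by group
  rw [e]
  exact mul_mem ((le_sup_left : R i ⊔ CenX V R ≤ _) (inv_mem h4)) ((le_sup_right : cj p0 (CenX V R) ≤ _) hk)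

/-- an element of `P_W` interchanging two lines -/
theorem exists_swap (b : BT V R) {p' : G} (hp' : p' ∈ P) :
    ∃ g ∈ PW V R i P, cj g V = cj p' V ∧ cj g (cj p' V) = V := by
  obtain ⟨c, hc, h1, h2⟩ : ∃ c ∈ P, cj c V ≠ V ∧ cj p' V ≠ cj c V := by
    obtain ⟨a, ha, a', ha', -, -, h1, h2, -, h12, -, -⟩ := n.four
    by_cases h : cj p' V = cj a V
    · exact ⟨a', ha', h2, by rw [h]; exact h12⟩
    · exact ⟨a, ha, h1, h⟩
  obtain ⟨u, hu, e⟩ := n.trans' (one_mem P) hp' hc (by rw [cj_one]; exact Ne.symm h1) h2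
  rw [cj_one] at e
  have hg : c * u * c⁻¹ ∈ PW V R i P := cj_YW_le hc (conj_mem_cj ((le_sup_left : YY V R ≤ _) (UU_le_YY j hu)))
  refine ⟨_, hg, e, ?_⟩
  rw [← e, ← cj_mul, cj_eq_self_iff]
  have h3 : c * u * c⁻¹ * (c * u * c⁻¹) ∈ WW V (R i) := by
    have h4 : c * u * c⁻¹ * (c * u * c⁻¹) = c * (u * u) * c⁻¹ := by group
    rw [h4]
    exact n.line_le hc (conj_mem_cj (b.R_le j (b.W_sq j (UU_le_WW j hu))))
  exact b.W_le_NV i h3

end Nd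

namespace Sc

variable {p' : G} (s : Sc V R i j vv t P p') (b : BTS V R) (τ : TorD V R i j vv t) {m : G} (sw : Sw V R i j t m)
  (c : Coord V R i j vv w1 w2) {E : Type u} [AddCommGroup E] [Module F E] {P1 P2 : G → E}
  (y : YPair V R i j w1 w2 E P1 P2)
include s b τ

theorem t_line {a : F} (ha : a ≠ 0) : cj (t a) (cj p' V) = cj p' V := by
  have key : ∀ a, a ≠ 0 → cj (t a) (cj p' V) ≤ cj p' V := by
    intro a ha
    rw [cj_le_iff]
    intro x hx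
    obtain ⟨y1, y2, rfl⟩ := (s.mem_line τ).1 hx
    rw [s.sc a _ _ ha]
    exact (s.mem_line τ).2 ⟨_, _, rfl⟩
  apply le_antisymm (key a ha)
  have h := cj_mono (g := t a) (key a⁻¹ (inv_ne_zero ha))
  rwa [τ.inv ha, cj_cj_inv] at h

include sw c y in
/-- **(E1)**: `[y, P_W] ≤ W_N C_**`, `y ∈ V_2'` -/
theorem e1 (hF : ∃ a : F, a ≠ 0 ∧ a ≠ 1) (hXV : XX V R ⊓ centralizer (V : Set G) ≤ YY V R)
    (hK2 : ∀ w ∈ WW V (R i), ∀ x ∈ cj p' V, ∃ n ∈ WN V P, ∃ z ∈ ZZ V R i,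
      w * (m⁻¹ * x * m) * w⁻¹ * (m⁻¹ * x * m)⁻¹ = n * z)
    (H4 : ∀ p ∈ PW V R i P, ∀ x ∈ cj p' V, ∃ n ∈ WN V P, ∃ z ∈ ZZ V R i,
      p * (m⁻¹ * x * m) * p⁻¹ * (m⁻¹ * x * m)⁻¹ = n * z)
    {p x : G} (hp : p ∈ PW V R i P) (hx : x ∈ cj p' V) :
    p * (m⁻¹ * x * m) * p⁻¹ * (m⁻¹ * x * m)⁻¹ ∈ WN V P ⊔ Cs V R i P := by
  have hPWP := s.PW_le b.toBT
  have hWC : ∀ w ∈ WW V (R i), ∀ k ∈ Cs V R i P, w * k = k * w := fun w hw k hk =>
    mem_centralizer_iff.1 (s.Cs_le b.toBT hk) w hw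
  -- `W_i` normalises `L`
  have hWL : ∀ w ∈ WW V (R i), w ∈ normalizer ((WN V P ⊔ Cs V R i P : Subgroup G) : Set G) := by
    intro w hw
    rw [← cj_eq_self_iff, cj_sup, cj_eq_self_iff.2 (P_norm_WN (s.QP (b.W_le_Q i hw))),
      cj_eq_self_iff.2 (P_norm_Cs (s.QP (b.W_le_Q i hw)))]
  have hPL : ∀ p ∈ P, p ∈ normalizer ((WN V P ⊔ Cs V R i P : Subgroup G) : Set G) := by
    intro p hp
    rw [← cj_eq_self_iff, cj_sup, cj_eq_self_iff.2 (P_norm_WN hp), cj_eq_self_iff.2 (P_norm_Cs hp)]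
  have hKW : WN V P ⊔ ZZ V R i ≤ WW V (R i) := sup_le s.WN_le_W inf_le_left
  have hZW : ZZ V R i ≤ normalizer (WN V P : Set G) := fun z hz => P_norm_WN (s.QP (b.W_le_Q i hz.1))
  have hy := conj_U' b sw (s.leU hx)
  refine kernel (K := WN V P ⊔ ZZ V R i) (s.PW_ind b.toBT) YW_le_PW (fun p hp => hPL p (hPWP hp))
    (fun k hk => hWL k (hKW hk)) ?_ ?_ ?_ p hp
  · intro p hp k hk
    obtain ⟨n, hn, z, hz, rfl⟩ := mem_sup_of_norm hZW hk
    rw [show p * (n * z) * p⁻¹ * (n * z)⁻¹ = (p * n * p⁻¹ * n⁻¹) * (n * (p * z * p⁻¹ * z⁻¹) * n⁻¹) by group]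
    refine mul_mem ((le_sup_left : WN V P ≤ _) (mul_mem (conj_mem_of_normalizer (P_norm_WN (hPWP hp)) hn)
      (inv_mem hn))) ?_
    exact conj_mem_of_normalizer (hWL n (s.WN_le_W hn)) ((le_sup_right : Cs V R i P ≤ _) (s.Z_Cs b hp hz))
  · intro p hp
    obtain ⟨n, hn, z, hz, e⟩ := H4 p hp x hx
    rw [e]
    exact mul_mem ((le_sup_left : WN V P ≤ _) hn) ((le_sup_right : ZZ V R i ≤ _) hz)
  · intro g hg
    have hgX : g ∈ XX V R := (sup_le YY_le_XX (W_le_X V R i) : YY V R ⊔ WW V (R i) ≤ _) hg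
    have hyS : m⁻¹ * x * m ∈ S0 V R P := by
      have h := cj_WN_le_S0 (V := V) (R := R) (P := P) (inv_mem sw.mX) (conj_mem_cj (line_le_WN s.mem hx))
      rwa [inv_inv] at h
    have h1 : g * (m⁻¹ * x * m) * g⁻¹ * (m⁻¹ * x * m)⁻¹ ∈ S0 V R P :=
      mul_mem (conj_mem_of_normalizer (X_norm_S0 hgX) hyS) (inv_mem hyS)
    obtain ⟨n, hn, z, hz, e⟩ := H4 g (YW_le_PW hg) x hx
    have h2 : g * (m⁻¹ * x * m) * g⁻¹ * (m⁻¹ * x * m)⁻¹ ∈ QQ (R i) := by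
      rw [e]
      exact b.W_le_Q i (mul_mem (s.WN_le_W hn) hz.1)
    obtain ⟨n', hn', ψ, hψ, e'⟩ := s.S0_Q b τ sw c y hF hXV hK2 h1 h2
    rw [e']
    exact mul_mem ((le_sup_left : WN V P ≤ _) hn') ((le_sup_right : Cs V R i P ≤ _)
      (le_Cs ((le_sup_right : CenX V R ≤ _) hψ.2.2)))

include sw c y in
/-- **(L3)**: `Σ^p ≤ Σ C_X` -/
theorem cj_S0_le (hF : ∃ a : F, a ≠ 0 ∧ a ≠ 1) (hXV : XX V R ⊓ centralizer (V : Set G) ≤ YY V R)
    (hK2 : ∀ w ∈ WW V (R i), ∀ x ∈ cj p' V, ∃ n ∈ WN V P, ∃ z ∈ ZZ V R i,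
      w * (m⁻¹ * x * m) * w⁻¹ * (m⁻¹ * x * m)⁻¹ = n * z)
    (H4 : ∀ p ∈ PW V R i P, ∀ x ∈ cj p' V, ∃ n ∈ WN V P, ∃ z ∈ ZZ V R i,
      p * (m⁻¹ * x * m) * p⁻¹ * (m⁻¹ * x * m)⁻¹ = n * z)
    {p : G} (hp : p ∈ P) : cj p (S0 V R P) ≤ S0 V R P ⊔ CenX V R := by
  have hXA : ∀ x ∈ XX V R, x ∈ normalizer ((S0 V R P ⊔ CenX V R : Subgroup G) : Set G) := by
    intro x hx
    rw [← cj_eq_self_iff, cj_sup, cj_eq_self_iff.2 (X_norm_S0 hx),
      cj_eq_self_iff.2 (BT.NV_le_NCenX b.toBT (b.X_le_NV hx))]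
  by_cases hV : cj p V = V
  · rw [cj_eq_self_iff.2 (S0_norm (b.NV_le_NX (cj_eq_self_iff.1 hV)) (P_norm_WN hp))]
    exact le_sup_left
  obtain ⟨p0, hp0, e1, e2⟩ := s.exists_swap b.toBT s.mem
  have hp0P := s.PW_le b.toBT hp0
  have hne : cj p0 V ≠ V := by rw [e1]; exact s.ne
  -- `V_2'^{p₀} ≤ Σ C_X`
  have key : ∀ x ∈ cj p' V, p0 * (m⁻¹ * x * m) * p0⁻¹ ∈ S0 V R P ⊔ CenX V R := by
    intro x hx
    obtain ⟨y1, y2, rfl⟩ := (s.mem_line τ).1 hx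
    obtain ⟨a, ha, ha1⟩ := hF
    have hF : ∃ a : F, a ≠ 0 ∧ a ≠ 1 := ⟨a, ha, ha1⟩
    -- `x = [x', ·]`
    have hr : a⁻¹ - 1 ≠ 0 := fun h => ha1 (inv_eq_one.1 (sub_eq_zero.1 h))
    set x' := p' * vv ((a⁻¹ - 1)⁻¹ * y1) ((a⁻¹ - 1)⁻¹ * y2) * p'⁻¹ with hx'
    have hx'L : x' ∈ cj p' V := (s.mem_line τ).2 ⟨_, _, rfl⟩
    have h1 := s.e1 b τ sw c y hF hXV hK2 H4 hp0 hx'L
    -- `p₀ y' p₀⁻¹ ∈ Σ C_X C_X'`
    have hCN : cj p0 (CenX V R) ≤ normalizer ((S0 V R P ⊔ CenX V R : Subgroup G) : Set G) := by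
      intro k hk
      have hkC : k ∈ centralizer (WW V (R i) : Set G) := by
        rw [← s.cj_W hp0P, centralizer_cj]
        exact cj_mono (cen_X_le i) hk
      have hkV : k ∈ normalizer (V : Set G) := cen_le_NV V (cen_W_le V (R i) hkC)
      have hkW : k ∈ normalizer (WN V P : Set G) := by
        have h3 : k ∈ centralizer (WN V P : Set G) := centralizer_le s.WN_le_W hkC
        exact centralizer_le_normalizer _ h3
      rw [← cj_eq_self_iff, cj_sup, cj_eq_self_iff.2 (S0_norm (b.NV_le_NX hkV) hkW),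
        cj_eq_self_iff.2 (BT.NV_le_NCenX b.toBT hkV)]
    have hyS : m⁻¹ * x' * m ∈ S0 V R P := by
      have h := cj_WN_le_S0 (V := V) (R := R) (P := P) (inv_mem sw.mX) (conj_mem_cj (line_le_WN s.mem hx'L))
      rwa [inv_inv] at h
    have h2 : p0 * (m⁻¹ * x' * m) * p0⁻¹ ∈ (S0 V R P ⊔ CenX V R) ⊔ cj p0 (CenX V R) := by
      have e : p0 * (m⁻¹ * x' * m) * p0⁻¹ =
          (p0 * (m⁻¹ * x' * m) * p0⁻¹ * (m⁻¹ * x' * m)⁻¹) * (m⁻¹ * x' * m) := by group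
      rw [e]
      refine mul_mem ?_ ((le_sup_left.trans le_sup_left : S0 V R P ≤ _) hyS)
      refine (sup_le (WN_le_S0.trans (le_sup_left.trans le_sup_left)) ?_ :
        WN V P ⊔ Cs V R i P ≤ (S0 V R P ⊔ CenX V R) ⊔ cj p0 (CenX V R)) h1
      refine (s.Cs_eq b hp0P hne).trans (sup_le_sup_right (sup_le_sup_right ?_ _) _)
      exact (b.R_le i).trans ((V_le_WN V P).trans WN_le_S0)
    obtain ⟨k1, hk1, k2, hk2, e3⟩ := mem_sup_of_norm hCN h2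
    -- the torus `p₀ t p₀⁻¹`
    set τ' := p0 * t a * p0⁻¹ with hτ'
    have hτV : τ' ∈ normalizer (V : Set G) := by
      have h3 : cj p0⁻¹ V = cj p' V := by
        conv_lhs => rw [← e2]
        rw [cj_inv_cj]
      rw [← cj_eq_self_iff]
      calc cj τ' V = cj p0 (cj (t a) (cj p0⁻¹ V)) := by rw [hτ', cj_mul, cj_mul]
        _ = cj p0 (cj (t a) (cj p' V)) := by rw [h3]
        _ = V := by rw [s.t_line b τ ha, e2]
    have hτP : τ' ∈ normalizer (P : Set G) :=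
      mul_mem (mul_mem (le_normalizer hp0P) (s.tP a ha)) (inv_mem (le_normalizer hp0P))
    have hτA : τ' ∈ normalizer ((S0 V R P ⊔ CenX V R : Subgroup G) : Set G) := by
      rw [← cj_eq_self_iff, cj_sup, cj_eq_self_iff.2 (S0_norm (b.NV_le_NX hτV) (norm_WN hτP hτV)),
        cj_eq_self_iff.2 (BT.NV_le_NCenX b.toBT hτV)]
    have hτk : τ' * k2 = k2 * τ' := by
      obtain ⟨k, hk, rfl⟩ := hk2
      have h3 := mem_centralizer_iff.1 hk (t a) (τ.memX a ha)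
      change τ' * (p0 * k * p0⁻¹) = (p0 * k * p0⁻¹) * τ'
      rw [hτ']
      calc p0 * t a * p0⁻¹ * (p0 * k * p0⁻¹) = p0 * (t a * k) * p0⁻¹ := by group
        _ = p0 * (k * t a) * p0⁻¹ := by rw [h3]
        _ = _ := by group
    have h3 : τ' * (k1 * k2) * τ'⁻¹ * (k1 * k2)⁻¹ ∈ S0 V R P ⊔ CenX V R := by
      have e : τ' * (k1 * k2) * τ'⁻¹ * (k1 * k2)⁻¹ = (τ' * k1 * τ'⁻¹) * k1⁻¹ := by
        calc τ' * (k1 * k2) * τ'⁻¹ * (k1 * k2)⁻¹ = τ' * k1 * τ'⁻¹ * (τ' * k2) * τ'⁻¹ * k2⁻¹ * k1⁻¹ := by group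
          _ = _ := by rw [hτk]; group
      rw [e]
      exact mul_mem (conj_mem_of_normalizer hτA hk1) (inv_mem hk1)
    rw [← e3] at h3
    have e4 : τ' * (p0 * (m⁻¹ * x' * m) * p0⁻¹) * τ'⁻¹ * (p0 * (m⁻¹ * x' * m) * p0⁻¹)⁻¹ =
        p0 * (m⁻¹ * ((t a)⁻¹ * x' * t a * x'⁻¹) * m) * p0⁻¹ := by
      have h5 := m_tor sw ha
      have h6 : t a * m⁻¹ = m⁻¹ * (t a)⁻¹ := h5.symm
      have h7 : m * (t a)⁻¹ = t a * m := by
        calc m * (t a)⁻¹ = (t a * m⁻¹)⁻¹ := by group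
          _ = (m⁻¹ * (t a)⁻¹)⁻¹ := by rw [h6]
          _ = _ := by group
      rw [hτ']
      calc p0 * t a * p0⁻¹ * (p0 * (m⁻¹ * x' * m) * p0⁻¹) * (p0 * t a * p0⁻¹)⁻¹ * (p0 * (m⁻¹ * x' * m) * p0⁻¹)⁻¹
          = p0 * ((t a * m⁻¹) * x' * (m * (t a)⁻¹) * (m⁻¹ * x'⁻¹ * m)) * p0⁻¹ := by group
        _ = p0 * ((m⁻¹ * (t a)⁻¹) * x' * (t a * m) * (m⁻¹ * x'⁻¹ * m)) * p0⁻¹ := by rw [h6, h7]
        _ = _ := by group
    have e5 : (t a)⁻¹ * x' * t a * x'⁻¹ = p' * vv y1 y2 * p'⁻¹ := by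
      have h5 := s.sc a⁻¹ ((a⁻¹ - 1)⁻¹ * y1) ((a⁻¹ - 1)⁻¹ * y2) (inv_ne_zero ha)
      rw [τ.inv ha, inv_inv] at h5
      have h6 := s.line_add τ y1 y2 ((a⁻¹ - 1)⁻¹ * y1) ((a⁻¹ - 1)⁻¹ * y2)
      have h7 : ∀ z : F, z + (a⁻¹ - 1)⁻¹ * z = a⁻¹ * ((a⁻¹ - 1)⁻¹ * z) := by
        intro z
        field_simp
        ring
      rw [h7, h7, ← h5, ← hx'] at h6
      rw [h6]; group
    rw [e4, e5] at h3
    have e6 : p0 * (m⁻¹ * (p' * vv y1 y2 * p'⁻¹) * m) * p0⁻¹ = p0 * (m⁻¹ * (p' * vv y1 y2 * p'⁻¹) * m) * p0⁻¹ := rfl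
    exact h3
  -- `Σ^{p₀} ≤ Σ C_X`
  have h0 : cj p0 (S0 V R P) ≤ S0 V R P ⊔ CenX V R := by
    have h1 : S0 V R P ≤ cj p0⁻¹ (S0 V R P ⊔ CenX V R) := by
      refine s.S0_le b τ sw c hXV ?_ ?_
      · have h2 : WN V P = cj p0⁻¹ (WN V P) := (cj_eq_self_iff.2 (P_norm_WN (inv_mem hp0P))).symm
        rw [h2]
        exact cj_mono (WN_le_S0.trans le_sup_left)
      · intro w hw x hx
        rw [mem_cj, inv_inv]
        have hw' : p0 * w * p0⁻¹ ∈ WW V (R i) :=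
          conj_mem_of_normalizer (normalizer_le_WW V (R i) (s.P_le_N hp0P)) hw
        have e : p0 * (w * (m⁻¹ * x * m) * w⁻¹) * p0⁻¹ =
            (p0 * w * p0⁻¹) * (p0 * (m⁻¹ * x * m) * p0⁻¹) * (p0 * w * p0⁻¹)⁻¹ := by group
        rw [e]
        exact conj_mem_of_normalizer (hXA _ (W_le_X V R i hw')) (key x hx)
    have h2 := cj_mono (g := p0) h1
    rwa [cj_cj_inv] at h2
  obtain ⟨u, hu, e⟩ := s.trans p0 hp0P hne p hp hV
  have h1 : (u * p0)⁻¹ * p ∈ normalizer (V : Set G) := by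
    rw [← cj_eq_self_iff, cj_mul, ← e, ← cj_mul u, cj_inv_cj]
  have h2 : (u * p0)⁻¹ * p ∈ P := mul_mem (inv_mem (mul_mem (s.UP hu) hp0P)) hp
  have h3 : cj p (S0 V R P) = cj u (cj p0 (S0 V R P)) := by
    have e1 : p = u * (p0 * ((u * p0)⁻¹ * p)) := by group
    conv_lhs => rw [e1]
    rw [cj_mul, cj_mul, cj_eq_self_iff.2 (S0_norm (b.NV_le_NX h1) (P_norm_WN h2))]
  rw [h3, ← cj_eq_self_iff.2 (hXA u (YY_le_XX (UU_le_YY j hu)))]
  exact cj_mono h0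

end Sc

/-! ### (L): the group `Sh` -/

/-- the facts on `Σ = S0` which give `Sh` -/
structure SigL (V : Subgroup G) (R : ι → Subgroup G) (i j : ι) (P : Subgroup G) : Prop extends Nd V R i j P where
  le_Y : S0 V R P ≤ YY V R
  comm : ∀ x ∈ S0 V R P, ∀ y ∈ S0 V R P, x * y = y * x
  sq : ∀ x ∈ S0 V R P, x * x = 1
  l3 : ∀ p ∈ P, cj p (S0 V R P) ≤ S0 V R P ⊔ CenX V R
  q : ∀ x ∈ S0 V R P, x ∈ QQ (R i) → ∃ n ∈ WN V P, ∃ ψ ∈ Psi' V R P, x = n * ψ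
  z : ∀ x ∈ S0 V R P, x ∈ centralizer (WW V (R i) : Set G) → ∃ a ∈ R i, a * x ∈ Psi' V R P
  dz : ∀ x ∈ S0 V R P, x ∈ Sc.DZ V R i → x ∈ DD V R

theorem Sc.sigL [Finite G] {p' : G} (s : Sc V R i j vv t P p') (b : BTS V R) (τ : TorD V R i j vv t) {m : G}
    (sw : Sw V R i j t m) (c : Coord V R i j vv w1 w2) {E : Type u} [AddCommGroup E] [Module F E] {P1 P2 : G → E}
    (y : YPair V R i j w1 w2 E P1 P2) (hF : ∃ a : F, a ≠ 0 ∧ a ≠ 1) (lin : Lin V R i P vv m p')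
    (hXV : XX V R ⊓ centralizer (V : Set G) ≤ YY V R)
    (hK2 : ∀ w ∈ WW V (R i), ∀ x ∈ cj p' V, ∃ n ∈ WN V P, ∃ z ∈ ZZ V R i,
      w * (m⁻¹ * x * m) * w⁻¹ * (m⁻¹ * x * m)⁻¹ = n * z)
    (H4 : ∀ p ∈ PW V R i P, ∀ x ∈ cj p' V, ∃ n ∈ WN V P, ∃ z ∈ ZZ V R i,
      p * (m⁻¹ * x * m) * p⁻¹ * (m⁻¹ * x * m)⁻¹ = n * z) : SigL V R i j P where
  toNd := s.toNd
  le_Y := s.S0_le_Y b
  comm := fun _ hx _ hy => s.S0_comm b τ sw c hF lin hXV hx hy
  sq := fun _ hx => s.S0_sq b τ sw c hF lin hXV hx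
  l3 := fun _ hp => s.cj_S0_le b τ sw c y hF hXV hK2 H4 hp
  q := fun _ hx hQ => s.S0_Q b τ sw c y hF hXV hK2 hx hQ
  z := fun _ hx hC => s.S0_C b τ sw c y hF hXV hK2 hx hC
  dz := fun _ hx hz => s.S0_DZ b τ c y hF hx hz

namespace SigL

variable (L : SigL V R i j P)
include L

theorem le_X : S0 V R P ≤ XX V R := L.le_Y.trans YY_le_XX

/-- `Sh ≤ Σ C_X` -/
theorem Sh_le : Sh V R P ≤ S0 V R P ⊔ CenX V R := iSup_le fun p => L.l3 p p.2

theorem Sh_fact {x : G} (hx : x ∈ Sh V R P) : ∃ σ ∈ S0 V R P, ∃ k ∈ Sh V R P ⊓ CenX V R, x = σ * k := by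
  have hN : CenX V R ≤ normalizer (S0 V R P : Set G) :=
    (centralizer_le L.le_X).trans (centralizer_le_normalizer _)
  obtain ⟨σ, hσ, k, hk, rfl⟩ := mem_sup_of_norm hN (L.Sh_le hx)
  have hσ' : σ⁻¹ ∈ Sh V R P := inv_mem (S0_le_Sh hσ)
  have h1 : k ∈ Sh V R P := by
    have e : k = σ⁻¹ * (σ * k) := by group
    rw [e]
    exact mul_mem hσ' hx
  exact ⟨σ, hσ, k, mem_inf.2 ⟨h1, hk⟩, rfl⟩

/-- `X` normalises `Sh` -/
theorem X_norm : XX V R ≤ normalizer (Sh V R P : Set G) := by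
  refine le_normalizer_of fun x hx g hg => ?_
  obtain ⟨σ, hσ, k, hk, rfl⟩ := L.Sh_fact hg
  have h1 := mem_centralizer_iff.1 hk.2 x hx
  have e : x * (σ * k) * x⁻¹ = (x * σ * x⁻¹) * k := by
    calc x * (σ * k) * x⁻¹ = x * σ * x⁻¹ * (x * k) * x⁻¹ := by group
      _ = _ := by rw [h1]; group
  rw [e]
  exact mul_mem (S0_le_Sh (conj_mem_of_normalizer (X_norm_S0 hx) hσ)) hk.1

/-- `Σ` is centralised by `Sh` -/
theorem comm1 {x g : G} (hx : x ∈ S0 V R P) (hg : g ∈ Sh V R P) : x * g = g * x := by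
  obtain ⟨σ, hσ, k, hk, rfl⟩ := L.Sh_fact hg
  have h1 := mem_centralizer_iff.1 hk.2 x (L.le_X hx)
  have h2 := L.comm x hx σ hσ
  calc x * (σ * k) = (x * σ) * k := by group
    _ = σ * (x * k) := by rw [h2]; group
    _ = _ := by rw [h1]; group

/-- `Sh` is abelian -/
theorem Sh_comm {x g : G} (hx : x ∈ Sh V R P) (hg : g ∈ Sh V R P) : x * g = g * x := by
  have h1 : Sh V R P ≤ centralizer (Sh V R P : Set G) := by
    refine iSup_le fun p => ?_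
    rw [cj_le_iff]
    intro y hy
    rw [mem_centralizer_iff]
    intro z hz
    have h2 : (p : G)⁻¹ * z * p ∈ Sh V R P := conj_inv_mem_of_normalizer (P_norm_Sh p.2) hz
    have h3 := L.comm1 hy h2
    calc z * ((p : G) * y * (p : G)⁻¹) = p * (((p : G)⁻¹ * z * p) * y) * (p : G)⁻¹ := by group
      _ = p * (y * ((p : G)⁻¹ * z * p)) * (p : G)⁻¹ := by rw [h3]
      _ = _ := by group
  exact (mem_centralizer_iff.1 (h1 hx) g hg).symm

/-- `Sh` has exponent 2 -/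
theorem Sh_sq {x : G} (hx : x ∈ Sh V R P) : x * x = 1 := by
  let T : Subgroup G :=
    { carrier := {x | x ∈ Sh V R P ∧ x * x = 1}
      one_mem' := ⟨one_mem _, by rw [one_mul]⟩
      mul_mem' := by
        rintro x y ⟨hx, hx'⟩ ⟨hy, hy'⟩
        refine ⟨mul_mem hx hy, ?_⟩
        have h1 := L.Sh_comm hy hx
        calc x * y * (x * y) = x * (y * x) * y := by group
          _ = (x * x) * (y * y) := by rw [h1]; group
          _ = 1 := by rw [hx', hy', one_mul]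
      inv_mem' := by
        rintro x ⟨hx, hx'⟩
        exact ⟨inv_mem hx, by rw [← mul_inv_rev, hx', inv_one]⟩ }
  have hT : Sh V R P ≤ T := iSup_le fun p => by
    rw [cj_le_iff]
    intro y hy
    refine ⟨cj_S0_le_Sh p.2 (conj_mem_cj hy), ?_⟩
    have h1 := L.sq y hy
    calc (p : G) * y * (p : G)⁻¹ * ((p : G) * y * (p : G)⁻¹) = p * (y * y) * (p : G)⁻¹ := by group
      _ = 1 := by rw [h1]; group
  exact (hT hx).2

/-- `Sh ∩ C(W_i) = R_i (Sh ∩ C_X)` -/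
theorem Sh_C {x : G} (hx : x ∈ Sh V R P) (hC : x ∈ centralizer (WW V (R i) : Set G)) :
    ∃ a ∈ R i, a * x ∈ Sh V R P ⊓ CenX V R := by
  obtain ⟨σ, hσ, k, hk, rfl⟩ := L.Sh_fact hx
  have h1 : σ ∈ centralizer (WW V (R i) : Set G) := by
    have e : σ = (σ * k) * k⁻¹ := by group
    rw [e]
    exact mul_mem hC (inv_mem (cen_X_le i hk.2))
  obtain ⟨a, ha, h2⟩ := L.z σ hσ h1
  refine ⟨a, ha, ?_⟩
  rw [← mul_assoc]
  exact mul_mem (mem_inf.2 ⟨S0_le_Sh h2.1, h2.2.2⟩) hk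

/-- `Sh ∩ Q_i = W_N (Sh ∩ C_X)` -/
theorem Sh_Q [Finite G] (b : BTS V R) {x : G} (hx : x ∈ Sh V R P) (hQ : x ∈ QQ (R i)) :
    ∃ n ∈ WN V P, ∃ k ∈ Sh V R P ⊓ CenX V R, x = n * k := by
  obtain ⟨σ, hσ, k, hk, rfl⟩ := L.Sh_fact hx
  have h1 : σ ∈ QQ (R i) := by
    have e : σ = (σ * k) * k⁻¹ := by group
    rw [e]
    exact mul_mem hQ (inv_mem (b.cen_W_le_Q i (cen_X_le i hk.2)))
  obtain ⟨n, hn, ψ, hψ, e⟩ := L.q σ hσ h1
  refine ⟨n, hn, ψ * k, mul_mem (mem_inf.2 ⟨S0_le_Sh hψ.1, hψ.2.2⟩) hk, ?_⟩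
  rw [e]; group

/-- `Sh ∩ C_X` is centralised by `⟨U_j^P⟩` -/
theorem Sh_cen_U (b : BT V R) {k p u : G} (hk : k ∈ Sh V R P ⊓ CenX V R) (hp : p ∈ P) (hu : u ∈ UU V R j) :
    (p * u * p⁻¹) * k = k * (p * u * p⁻¹) := by
  have h1 : p⁻¹ * k * p ∈ Sh V R P := conj_inv_mem_of_normalizer (P_norm_Sh hp) hk.1
  have h2 : p⁻¹ * k * p ∈ centralizer (WW V (R i) : Set G) := by
    have h3 := conj_mem_cj (g := p⁻¹) (cen_X_le i hk.2)
    rwa [← centralizer_cj, L.cj_W (inv_mem hp), inv_inv] at h3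
  obtain ⟨a, ha, h3⟩ := L.Sh_C h1 h2
  have h4 : u * (p⁻¹ * k * p) = (p⁻¹ * k * p) * u := by
    have h5 := mem_centralizer_iff.1 h3.2 u (YY_le_XX (UU_le_YY j hu))
    have h6 := mem_centralizer_iff.1 (UU_le_cen j hu) a (b.R_le i ha)
    calc u * (p⁻¹ * k * p) = a⁻¹ * (a * u) * (p⁻¹ * k * p) := by group
      _ = a⁻¹ * (u * (a * (p⁻¹ * k * p))) := by rw [h6]; group
      _ = a⁻¹ * ((a * (p⁻¹ * k * p)) * u) := by rw [h5]
      _ = _ := by group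
  calc (p * u * p⁻¹) * k = p * (u * (p⁻¹ * k * p)) * p⁻¹ := by group
    _ = p * ((p⁻¹ * k * p) * u) * p⁻¹ := by rw [h4]
    _ = _ := by group

end SigL

end Cfsg.Agent.Omega.HOneQ

end

section


/-!
# II.0h1, split, `q ≥ 4`: `z z^{m₀}` is trivial on `W_N / (W_N ∩ Z_i)`

`Sc V R i j vv t P p'`, `m0 ∈ P` interchanges `V` and `V' = V^{p'}`, `z = t a`.

* `SN` : `W_N ∩ Z_i`; `Sc.SN_eq` : `SN = R i ⊔ Ψ`;
* `Sc.zeta_V`, `Sc.zeta_V'` : `z^{m₀}` on `V` and `V'`;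
* `Sc.tt_V`, `Sc.tt_line` : `z z^{m₀}` is trivial on `V / R i` and `V' / R i`;
* `Sc.tt_cmod` : **`z z^{m₀} ∈ cmod SN W_N`**.
-/

set_option autoImplicit false
set_option linter.unusedSectionVars false

namespace Cfsg.Agent.Omega.HOneQ

open Subgroup Cfsg.Agent.Omega.BTwo
open Cfsg.Agent.Omega.Lie (TorD)
open Cfsg.Agent.Omega.Lie.Nodes (cmod)

universe u v w

variable {G : Type u} [Group G] {ι : Type w} {V : Subgroup G} {R : ι → Subgroup G} {i j : ι} {P : Subgroup G}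
  {F : Type v} [Field F] {vv : F → F → G} {t : F → G} {w1 w2 : F → G}

/-- `W_N ∩ Z_i` -/
def SN (V : Subgroup G) (R : ι → Subgroup G) (i : ι) (P : Subgroup G) : Subgroup G := WN V P ⊓ ZZ V R i

theorem R_le_SN (b : BT V R) : R i ≤ SN V R i P :=
  le_inf ((b.R_le i).trans (V_le_WN V P)) (BT.R_le_Z b i)

theorem Nd.P_norm_SN (n : Nd V R i j P) : P ≤ normalizer (SN V R i P : Set G) := by
  intro p hp
  rw [← cj_eq_self_iff, SN, cj_inf, cj_eq_self_iff.2 (P_norm_WN hp), n.cj_Z hp]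

/-- the elements of `N(P) ∩ N(V) ∩ N(R i)` normalise `SN` -/
theorem norm_SN {g : G} (hP : g ∈ normalizer (P : Set G)) (hV : g ∈ normalizer (V : Set G))
    (hR : g ∈ normalizer (R i : Set G)) : g ∈ normalizer (SN V R i P : Set G) := by
  rw [← cj_eq_self_iff, SN, cj_inf, cj_eq_self_iff.2 (norm_WN hP hV), cj_eq_self_iff.2 (N_le_NZ i hR)]

/-- an element centralising `C(R i)` acts on a point -/
theorem conj_of_cen {g x : G} (hg : g ∈ centralizer (R i : Set G)) (hx : x ∈ R i) : g * x * g⁻¹ = x := by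
  rw [← mem_centralizer_iff.1 hg x hx, mul_inv_cancel_right]

namespace Sc

variable {p' : G} (s : Sc V R i j vv t P p') (b : BTS V R) (τ : TorD V R i j vv t)
include s b τ

theorem SN_le_D (hF : ∃ a : F, a ≠ 0 ∧ a ≠ 1) : SN V R i P ≤ DD V R := fun x hx =>
  s.WN_DZ b τ hF hx.1 ⟨1, one_mem _, x, hx.2, by rw [one_mul]⟩

/-- `W_N ∩ Z_i = R_i Ψ` -/
theorem SN_eq (hF : ∃ a : F, a ≠ 0 ∧ a ≠ 1) : SN V R i P = R i ⊔ Psi V R P := by
  apply le_antisymm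
  · intro x hx
    obtain ⟨a, ha, h⟩ := s.WN_Z b τ hF hx.1 hx.2
    have e : x = a⁻¹ * (a * x) := by group
    rw [e]
    exact mul_mem ((le_sup_left : R i ≤ _) (inv_mem ha)) ((le_sup_right : Psi V R P ≤ _) h)
  · refine sup_le (R_le_SN b.toBT) fun x hx => mem_inf.2 ⟨hx.1, ?_⟩
    exact BT.EE_mem_Z b.toBT ⟨1, one_mem _, by rw [one_mul]; exact hx.2⟩

theorem t_norm_SN {a : F} (ha : a ≠ 0) : t a ∈ normalizer (SN V R i P : Set G) :=
  norm_SN (s.tP a ha) (s.t_norm_V b τ ha) (τ.normR ha)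

variable (c : Coord V R i j vv w1 w2) {m0 : G} (hm : m0 ∈ P) (h1 : cj m0 V = cj p' V) (h2 : cj m0 (cj p' V) = V)
include c hm

omit s b τ c hm in
theorem v_sub (τ : TorD V R i j vv t) (x y x' y' : F) : vv x y * (vv x' y')⁻¹ = vv (x - x') (y - y') := by
  have h := τ.v_add (x - x') (y - y') x' y'
  rw [sub_add_cancel, sub_add_cancel] at h
  rw [h]; group

include h2 in
/-- `z^{m₀}` is the scalar `a` on `V` -/
theorem zeta_V {a : F} (ha : a ≠ 0) (x y : F) :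
    (m0 * t a * m0⁻¹) * vv x y * (m0 * t a * m0⁻¹)⁻¹ = vv (a * x) (a * y) := by
  have hgV : m0 * p' ∈ normalizer (V : Set G) := by rw [← cj_eq_self_iff, cj_mul]; exact h2
  have hgR : m0 * p' ∈ centralizer (R i : Set G) := mul_mem (s.PR hm) (s.PR s.mem)
  obtain ⟨β, γ, hγ, h⟩ := act_lin b.toBT c hgV hgR
  have e1 : vv x y = (m0 * p') * vv (x - β * (γ⁻¹ * y)) (γ⁻¹ * y) * (m0 * p')⁻¹ := by
    rw [h, sub_add_cancel, mul_inv_cancel_left₀ hγ]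
  have e2 : (m0 * t a * m0⁻¹) * vv x y * (m0 * t a * m0⁻¹)⁻¹ =
      m0 * (t a * (p' * vv (x - β * (γ⁻¹ * y)) (γ⁻¹ * y) * p'⁻¹) * (t a)⁻¹) * m0⁻¹ := by
    rw [e1]; group
  rw [e2, s.sc a _ _ ha]
  have e3 : m0 * (p' * vv (a * (x - β * (γ⁻¹ * y))) (a * (γ⁻¹ * y)) * p'⁻¹) * m0⁻¹ =
      (m0 * p') * vv (a * (x - β * (γ⁻¹ * y))) (a * (γ⁻¹ * y)) * (m0 * p')⁻¹ := by group
  rw [e3, h]
  congr 1
  · ring
  · field_simp

include h1 in
/-- `z^{m₀}` has the weights `1`, `-1` on `V'` -/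
theorem zeta_V' {a : F} (ha : a ≠ 0) (x y : F) : ∃ x' : F,
    (m0 * t a * m0⁻¹) * (p' * vv x y * p'⁻¹) * (m0 * t a * m0⁻¹)⁻¹ = p' * vv x' (a⁻¹ * y) * p'⁻¹ := by
  have hgV : p'⁻¹ * m0 ∈ normalizer (V : Set G) := by rw [← cj_eq_self_iff, cj_mul, h1, cj_inv_cj]
  have hgR : p'⁻¹ * m0 ∈ centralizer (R i : Set G) := mul_mem (inv_mem (s.PR s.mem)) (s.PR hm)
  obtain ⟨β, γ, hγ, h⟩ := act_lin b.toBT c hgV hgR
  have e1 : vv x y = (p'⁻¹ * m0) * vv (x - β * (γ⁻¹ * y)) (γ⁻¹ * y) * (p'⁻¹ * m0)⁻¹ := by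
    rw [h, sub_add_cancel, mul_inv_cancel_left₀ hγ]
  have e2 : (m0 * t a * m0⁻¹) * (p' * vv x y * p'⁻¹) * (m0 * t a * m0⁻¹)⁻¹ =
      m0 * (t a * vv (x - β * (γ⁻¹ * y)) (γ⁻¹ * y) * (t a)⁻¹) * m0⁻¹ := by
    rw [e1]; group
  rw [e2, τ.act a _ _ ha]
  refine ⟨a * (x - β * (γ⁻¹ * y)) + β * (a⁻¹ * (γ⁻¹ * y)), ?_⟩
  have e3 : m0 * vv (a * (x - β * (γ⁻¹ * y))) (a⁻¹ * (γ⁻¹ * y)) * m0⁻¹ =
      p' * ((p'⁻¹ * m0) * vv (a * (x - β * (γ⁻¹ * y))) (a⁻¹ * (γ⁻¹ * y)) * (p'⁻¹ * m0)⁻¹) * p'⁻¹ := by group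
  have e4 : γ * (a⁻¹ * (γ⁻¹ * y)) = a⁻¹ * y := by field_simp
  rw [e3, h, e4]

include h2 in
/-- `z z^{m₀}` on `V` -/
theorem tt_vv {a : F} (ha : a ≠ 0) (x y : F) :
    (t a * (m0 * t a * m0⁻¹)) * vv x y * (t a * (m0 * t a * m0⁻¹))⁻¹ = vv (a * (a * x)) y := by
  have e : (t a * (m0 * t a * m0⁻¹)) * vv x y * (t a * (m0 * t a * m0⁻¹))⁻¹ =
      t a * ((m0 * t a * m0⁻¹) * vv x y * (m0 * t a * m0⁻¹)⁻¹) * (t a)⁻¹ := by group
  rw [e, s.zeta_V b τ c hm h2 ha, τ.act a _ _ ha, inv_mul_cancel_left₀ ha]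

include h2 in
/-- `z z^{m₀}` is trivial on `V / R i` -/
theorem tt_V {a : F} (ha : a ≠ 0) {x : G} (hx : x ∈ V) :
    (t a * (m0 * t a * m0⁻¹)) * x * (t a * (m0 * t a * m0⁻¹))⁻¹ * x⁻¹ ∈ R i := by
  obtain ⟨r, q, rfl⟩ := (τ.v_mem x).1 hx
  rw [s.tt_vv b τ c hm h2 ha, v_sub τ, sub_self]
  exact (τ.Ri _).2 ⟨_, rfl⟩

include h1 in
/-- `z z^{m₀}` is trivial on `V' / R i` -/
theorem tt_line {a : F} (ha : a ≠ 0) {x : G} (hx : x ∈ cj p' V) :
    (t a * (m0 * t a * m0⁻¹)) * x * (t a * (m0 * t a * m0⁻¹))⁻¹ * x⁻¹ ∈ R i := by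
  obtain ⟨r, q, rfl⟩ := (s.mem_line τ).1 hx
  obtain ⟨x', h⟩ := s.zeta_V' b τ c hm h1 ha r q
  have e : (t a * (m0 * t a * m0⁻¹)) * (p' * vv r q * p'⁻¹) * (t a * (m0 * t a * m0⁻¹))⁻¹ =
      t a * ((m0 * t a * m0⁻¹) * (p' * vv r q * p'⁻¹) * (m0 * t a * m0⁻¹)⁻¹) * (t a)⁻¹ := by group
  rw [e, h, s.sc a _ _ ha, mul_inv_cancel_left₀ ha]
  have e2 : p' * vv (a * x') q * p'⁻¹ * (p' * vv r q * p'⁻¹)⁻¹ = p' * (vv (a * x') q * (vv r q)⁻¹) * p'⁻¹ := by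
    group
  rw [e2, v_sub τ, sub_self, s.line_R τ]
  exact (τ.Ri _).2 ⟨_, rfl⟩

omit c in
include h2 in
theorem zeta_norm_V {a : F} (ha : a ≠ 0) : m0 * t a * m0⁻¹ ∈ normalizer (V : Set G) := by
  have h3 : cj m0⁻¹ V = cj p' V := by
    conv_lhs => rw [← h2]
    rw [cj_inv_cj]
  rw [← cj_eq_self_iff]
  calc cj (m0 * t a * m0⁻¹) V = cj m0 (cj (t a) (cj m0⁻¹ V)) := by rw [cj_mul, cj_mul]
    _ = cj m0 (cj (t a) (cj p' V)) := by rw [h3]
    _ = V := by rw [s.t_line b τ ha, h2]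

omit c in
theorem zeta_norm_P {a : F} (ha : a ≠ 0) : m0 * t a * m0⁻¹ ∈ normalizer (P : Set G) :=
  mul_mem (mul_mem (le_normalizer hm) (s.tP a ha)) (inv_mem (le_normalizer hm))

include h1 h2 in
/-- the abstract data -/
theorem wt {a : F} (ha : a ≠ 0) (ha1 : a ≠ 1) :
    KerO.Wt (WN V P) (SN V R i P) V (cj p' V) (WN V P ⊓ DD V R) (t a) m0 := by
  have hF : ∃ a : F, a ≠ 0 ∧ a ≠ 1 := ⟨a, ha, ha1⟩
  have ha1' : a - 1 ≠ 0 := sub_ne_zero.2 ha1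
  have hai : a⁻¹ - 1 ≠ 0 := fun h => ha1 (inv_eq_one.1 (sub_eq_zero.1 h))
  have hRS : R i ≤ SN V R i P := R_le_SN b.toBT
  have hzW := s.t_norm_WN b τ ha
  have hzS := s.t_norm_SN b τ ha
  have hVR : ∀ {y z : F}, vv y z ∈ R i → z = 0 := by
    intro y z h
    obtain ⟨x, hx⟩ := (τ.Ri _).1 h
    have h3 := v_sub τ y z x 0
    rw [hx, mul_inv_cancel] at h3
    have h4 := (τ.v_inj _ _ h3.symm).2
    rwa [sub_zero] at h4
  exact
    { comm := fun x hx y hy => s.WN_comm b hx hy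
      SD := fun x hx => mem_inf.2 ⟨hx.1, s.SN_le_D b τ hF hx⟩
      VD := le_inf (V_le_WN V P) (V_le_D V R)
      DA := inf_le_left
      V'A := line_le_WN s.mem
      fact := fun x hx => by
        obtain ⟨l, hl, d, hd, hd', e⟩ := s.WN_fact b hx
        exact ⟨l, hl, d, mem_inf.2 ⟨hd', hd⟩, e⟩
      cap := fun x hx hd => hRS (s.cap b τ hF hx ⟨x, hd.2, 1, one_mem _, by rw [mul_one]⟩)
      zA := fun x hx => BTwo.conj_mem_of_normalizer hzW hx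
      zS := fun x hx => BTwo.conj_mem_of_normalizer hzS hx
      zV' := fun x hx => by
        have h := conj_mem_cj (g := t a) hx
        rwa [s.t_line b τ ha] at h
      zD := fun d hd => b.XD (τ.memX a ha) hd.2
      z_inj := fun x hx h => by
        obtain ⟨r, q, rfl⟩ := (τ.v_mem x).1 hx
        rw [τ.act a _ _ ha, v_sub τ] at h
        have h3 : vv (a * r - r) (a⁻¹ * q - q) ∈ R i := BT.cen_VW b.toBT ((τ.v_mem _).2 ⟨_, _, rfl⟩) h.2.2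
        have h4 : (a⁻¹ - 1) * q = 0 := by
          have := hVR h3
          linear_combination this
        have h5 := (mul_eq_zero.1 h4).resolve_left hai
        rw [h5]
        exact hRS ((τ.Ri _).2 ⟨_, rfl⟩)
      z_inj' := fun x hx h => by
        obtain ⟨r, q, rfl⟩ := (s.mem_line τ).1 hx
        have h3 := s.toNd.line_inf_Z b.toBT s.mem (x := t a * (p' * vv r q * p'⁻¹) * (t a)⁻¹ * (p' * vv r q * p'⁻¹)⁻¹)
          (by
            have h4 := conj_mem_cj (g := t a) hx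
            rw [s.t_line b τ ha] at h4
            exact mul_mem h4 (inv_mem hx)) h.2
        rw [s.sc a _ _ ha] at h3
        have e2 : p' * vv (a * r) (a * q) * p'⁻¹ * (p' * vv r q * p'⁻¹)⁻¹ =
            p' * (vv (a * r) (a * q) * (vv r q)⁻¹) * p'⁻¹ := by group
        rw [e2, v_sub τ, s.line_mem_R τ] at h3
        have h4 : (a - 1) * q = 0 := by linear_combination h3
        have h5 := (mul_eq_zero.1 h4).resolve_left ha1'
        rw [h5, s.line_R τ]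
        exact hRS ((τ.Ri _).2 ⟨_, rfl⟩)
      z_sur := fun x hx => by
        obtain ⟨r, q, rfl⟩ := (τ.v_mem x).1 hx
        refine ⟨vv 0 (-((a⁻¹ - 1)⁻¹ * q)), (τ.v_mem _).2 ⟨_, _, rfl⟩, ?_⟩
        rw [τ.act a _ _ ha, v_sub τ, ← τ.v_add]
        have e : a⁻¹ * -((a⁻¹ - 1)⁻¹ * q) - -((a⁻¹ - 1)⁻¹ * q) + q = 0 := by
          have e3 : (a⁻¹ - 1) * ((a⁻¹ - 1)⁻¹ * q) = q := mul_inv_cancel_left₀ hai q
          linear_combination -e3
        rw [e]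
        exact hRS ((τ.Ri _).2 ⟨_, rfl⟩)
      z_sur' := fun x hx => by
        obtain ⟨r, q, rfl⟩ := (s.mem_line τ).1 hx
        refine ⟨p' * vv 0 (-((a - 1)⁻¹ * q)) * p'⁻¹, (s.mem_line τ).2 ⟨_, _, rfl⟩, ?_⟩
        rw [s.sc a _ _ ha]
        have e2 : p' * vv (a * 0) (a * -((a - 1)⁻¹ * q)) * p'⁻¹ * (p' * vv 0 (-((a - 1)⁻¹ * q)) * p'⁻¹)⁻¹ *
            (p' * vv r q * p'⁻¹) =
            p' * (vv (a * 0) (a * -((a - 1)⁻¹ * q)) * (vv 0 (-((a - 1)⁻¹ * q)))⁻¹ * vv r q) * p'⁻¹ := by group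
        rw [e2, v_sub τ, ← τ.v_add]
        have e : a * -((a - 1)⁻¹ * q) - -((a - 1)⁻¹ * q) + q = 0 := by
          have e3 : (a - 1) * ((a - 1)⁻¹ * q) = q := mul_inv_cancel_left₀ ha1' q
          linear_combination -e3
        rw [e, s.line_R τ]
        exact hRS ((τ.Ri _).2 ⟨_, rfl⟩)
      mA := P_norm_WN hm
      mS := s.toNd.P_norm_SN hm
      mV := fun x => by
        rw [← h1]
        exact ⟨fun h => conj_mem_cj h, fun h => by
          have := mem_cj.1 h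
          rwa [show m0⁻¹ * (m0 * x * m0⁻¹) * m0 = x by group] at this⟩
      mV' := fun x => by
        constructor
        · intro h
          rw [← h2]
          exact conj_mem_cj h
        · intro h
          rw [← h2, mem_cj] at h
          rwa [show m0⁻¹ * (m0 * x * m0⁻¹) * m0 = x by group] at h
      mD := fun d hd => by
        have hζV := s.zeta_norm_V b τ hm h2 ha
        have hζP := s.zeta_norm_P b τ hm ha
        exact mem_inf.2 ⟨BTwo.conj_mem_of_normalizer (norm_WN hζP hζV) hd.1,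
          BTwo.conj_mem_of_normalizer (b.NV_le_ND hζV) hd.2⟩
      mD' := fun d hd => by
        have hζV : m0⁻¹ * t a * m0 ∈ normalizer (V : Set G) := by
          rw [← cj_eq_self_iff]
          calc cj (m0⁻¹ * t a * m0) V = cj m0⁻¹ (cj (t a) (cj m0 V)) := by rw [cj_mul, cj_mul]
            _ = V := by rw [h1, s.t_line b τ ha, ← h1, cj_inv_cj]
        have hζP : m0⁻¹ * t a * m0 ∈ normalizer (P : Set G) :=
          mul_mem (mul_mem (inv_mem (le_normalizer hm)) (s.tP a ha)) (le_normalizer hm)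
        exact mem_inf.2 ⟨BTwo.conj_mem_of_normalizer (norm_WN hζP hζV) hd.1,
          BTwo.conj_mem_of_normalizer (b.NV_le_ND hζV) hd.2⟩ }

include h1 h2 in
/-- **`z z^{m₀}` is trivial on `W_N / (W_N ∩ Z_i)`** -/
theorem tt_cmod {a : F} (ha : a ≠ 0) : t a * (m0 * t a * m0⁻¹) ∈ cmod (SN V R i P) (WN V P) := by
  refine ⟨mul_mem (s.t_norm_SN b τ ha) (mul_mem (mul_mem (s.toNd.P_norm_SN hm) (s.t_norm_SN b τ ha))
    (inv_mem (s.toNd.P_norm_SN hm))), fun x hx => ?_⟩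
  by_cases ha1 : a = 1
  · rw [ha1, τ.one]
    rw [show (1 : G) * (m0 * 1 * m0⁻¹) * x * (1 * (m0 * 1 * m0⁻¹))⁻¹ * x⁻¹ = 1 by group]
    exact one_mem _
  · have hRS : R i ≤ SN V R i P := R_le_SN b.toBT
    exact (s.wt b τ c hm h1 h2 ha ha1).diag (fun x hx => hRS (s.tt_V b τ c hm h2 ha hx))
      (fun x hx => hRS (s.tt_line b τ c hm h1 ha hx)) hx

end Sc

end Cfsg.Agent.Omega.HOneQ

end

section


/-!
# II.0h1, split, `q ≥ 4`, residues `(0, x)`, types `(sigma)` and `(beta)`: the hypotheses `AptH`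

`Sc V R i j vv t P p'`, `SigL V R i j P`, `m` inverting the torus, `m0 ∈ P_W` interchanging `V` and `V' = V^{p'}`.

* `tor_fix_bt` : `t a` fixes only the points `R i`, `R j`;
* `Sc.line_act`, `Sc.line_comm` : `W_i` on `V'`;
* `Sc.exists_d` : `D` acts on `V'` as `W_i` does (`d = (w z)^o`, `o` the order of `z`);
* `Sc.dg_WN` : `z z^{m₀}` is trivial on `W_N / R i`;
* `SigL.PW_comm` : `P_W` centralises `Sh ∩ C_X`;
* `Sc.aptH` : **`AptH`** for `P := P_W`, `S := W_N (Sh ∩ C_X)`, `T := Sh`, `z := t a`, `ρ := m`.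
-/

set_option autoImplicit false
set_option linter.unusedSectionVars false

namespace Cfsg.Agent.Omega.HOneQ

open Subgroup Cfsg.Agent.Omega.BTwo
open Cfsg.Agent.Omega.Lie (TorD)
open Cfsg.Agent.Omega.Lie.Nodes (cmod mem_cmod)

universe u v w

variable {G : Type u} [Group G] {ι : Type w} {V : Subgroup G} {R : ι → Subgroup G} {i j : ι} {P : Subgroup G}
  {F : Type v} [Field F] {vv : F → F → G} {t : F → G} {w1 w2 : F → G}

/-- `W_N (Sh ∩ C_X)` -/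
abbrev SK (V : Subgroup G) (R : ι → Subgroup G) (P : Subgroup G) : Subgroup G := WN V P ⊔ (Sh V R P ⊓ CenX V R)

/-! ### the torus -/

section torus

variable (b : BT V R) (τ : TorD V R i j vv t)
include b τ

theorem mul_self_ne_one {a : F} (ha1 : a ≠ 1) : a * a ≠ 1 := by
  intro h
  have h2 := Cfsg.Agent.Omega.Lie.TorD.two b τ a
  have h3 := Cfsg.Agent.Omega.Lie.TorD.two b τ (1 : F)
  have h4 : (a - 1) * (a - 1) = 0 := by linear_combination h - h2 + h3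
  exact ha1 (sub_eq_zero.1 (mul_self_eq_zero.1 h4))

theorem add_one_ne {a : F} (ha1 : a ≠ 1) : a + 1 ≠ 0 := by
  intro h
  have h3 := Cfsg.Agent.Omega.Lie.TorD.two b τ (1 : F)
  exact ha1 (by linear_combination h - h3)

/-- the torus element fixes only the points `R i`, `R j` -/
theorem tor_fix_bt (c : Coord V R i j vv w1 w2) {a : F} (ha : a ≠ 0) (ha1 : a ≠ 1) {l : ι} (hl : l ≠ i)
    (hfix : cj (t a) (R l) = R l) : l = j := by
  by_contra hlj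
  obtain ⟨w, hw, e⟩ := b.trans i c.ne.symm hl
  obtain ⟨x, hx⟩ := c.W1_act w hw
  have hR : ∀ g, g ∈ R l ↔ ∃ y, vv (x * y) y = g := by
    intro g
    rw [← e, mem_cj, c.mem_R2]
    constructor
    · rintro ⟨y, hy⟩
      refine ⟨y, ?_⟩
      have h1 := hx 0 y
      rw [zero_add] at h1
      rw [← h1, hy]; group
    · rintro ⟨y, rfl⟩
      refine ⟨y, ?_⟩
      have h1 := hx 0 y
      rw [zero_add] at h1
      rw [← h1]; group
  have h1 : vv x 1 ∈ R l := (hR _).2 ⟨1, by rw [mul_one]⟩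
  have h2 : t a * vv x 1 * (t a)⁻¹ ∈ R l := by
    rw [← hfix]
    exact conj_mem_cj h1
  rw [τ.act a x 1 ha, mul_one, hR] at h2
  obtain ⟨y, hy⟩ := h2
  obtain ⟨h3, h4⟩ := c.v_inj hy
  rw [h4] at h3
  have hne : a - a⁻¹ ≠ 0 := by
    intro h0
    apply mul_self_ne_one b τ ha1
    have h6 : a * (a - a⁻¹) = 0 := by rw [h0, mul_zero]
    rw [mul_sub, mul_inv_cancel₀ ha] at h6
    linear_combination h6
  have h5 : x * (a - a⁻¹) = 0 := by linear_combination -h3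
  have h6 : x = 0 := (mul_eq_zero.1 h5).resolve_right hne
  rw [h6] at h1
  have h7 : vv 0 1 ∈ R j := (c.mem_R2 _).2 ⟨1, rfl⟩
  have h8 := b.eq_one hlj h1 h7
  exact one_ne_zero (c.v_one 0 1 h8).2

/-- `t a` normalises `U_i` -/
theorem t_norm_Ui {a : F} (ha : a ≠ 0) : t a ∈ normalizer (UU V R i : Set G) := by
  have h1 := cj_eq_self_iff.2 (normalizer_le_WW V (R i) (τ.normR ha))
  have h2 := cj_eq_self_iff.2 (normalizer_le_normalizer_centralizer V (b.X_le_NV (τ.memX a ha)))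
  rw [← cj_eq_self_iff]
  change cj (t a) (WW V (R i) ⊓ centralizer (V : Set G)) = WW V (R i) ⊓ centralizer (V : Set G)
  rw [cj_inf, h1, h2]

omit τ in
/-- squares of elements of `W_i` are in `D` -/
theorem sq_mem_D {w : G} (hw : w ∈ WW V (R i)) : w * w ∈ DD V R := V_le_D V R (b.R_le i (b.W_sq i hw))

/-- an element of `W_i` fixed by `t a` modulo `U_i` is in `U_i` -/
theorem W_fix {a : F} (ha : a ≠ 0) (ha1 : a ≠ 1) {w : G} (hw : w ∈ WW V (R i))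
    (h : t a * w * (t a)⁻¹ * w⁻¹ ∈ UU V R i) : w ∈ UU V R i := by
  have ha2 := add_one_ne b τ ha1
  have h1 := τ.wW a 1 ha one_ne_zero ha2 w hw
  have hww : w * w ∈ UU V R i := b.D_le_U i (sq_mem_D b hw)
  rw [τ.one, one_mul, inv_one, mul_one] at h1
  have h2 : t (a + 1) * w * (t (a + 1))⁻¹ ∈ UU V R i := by
    have h3 := mul_mem h1 (mul_mem h hww)
    have e : t (a + 1) * w * (t (a + 1))⁻¹ * (t a * w * (t a)⁻¹ * w)⁻¹ * (t a * w * (t a)⁻¹ * w⁻¹ * (w * w)) =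
      t (a + 1) * w * (t (a + 1))⁻¹ := by group
    rwa [e] at h3
  have h3 := conj_inv_mem_of_normalizer (t_norm_Ui b τ ha2) h2
  rwa [show (t (a + 1))⁻¹ * (t (a + 1) * w * (t (a + 1))⁻¹) * t (a + 1) = w by group] at h3

/-- an element of `U_i` fixed by `t a` modulo `D` is in `D` -/
theorem U_fix {a : F} (ha : a ≠ 0) (ha1 : a ≠ 1) {u : G} (hu : u ∈ UU V R i)
    (h : t a * u * (t a)⁻¹ * u⁻¹ ∈ DD V R) : u ∈ DD V R := by
  have ha2 := add_one_ne b τ ha1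
  have h1 := τ.wU a 1 ha one_ne_zero ha2 u hu
  have huu : u * u ∈ DD V R := sq_mem_D b (UU_le_WW i hu)
  rw [τ.one, one_mul, inv_one, mul_one] at h1
  have h2 : t (a + 1) * u * (t (a + 1))⁻¹ ∈ DD V R := by
    have h3 := mul_mem h1 (mul_mem h huu)
    have e : t (a + 1) * u * (t (a + 1))⁻¹ * (t a * u * (t a)⁻¹ * u)⁻¹ * (t a * u * (t a)⁻¹ * u⁻¹ * (u * u)) =
      t (a + 1) * u * (t (a + 1))⁻¹ := by group
    rwa [e] at h3
  have h3 := conj_inv_mem_of_normalizer (b.NV_le_ND (b.X_le_NV (τ.memX _ ha2))) h2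
  rwa [show (t (a + 1))⁻¹ * (t (a + 1) * u * (t (a + 1))⁻¹) * t (a + 1) = u by group] at h3

omit b in
theorem t_pow {a : F} (ha : a ≠ 0) (r : ℕ) : (t a) ^ r = t (a ^ r) := by
  induction r with
  | zero => rw [pow_zero, pow_zero, τ.one]
  | succ r ih => rw [pow_succ, pow_succ, τ.mul _ _ (pow_ne_zero r ha) ha, ih]

omit b in
theorem pow_order {a : F} (ha : a ≠ 0) : a ^ orderOf (t a) = 1 := by
  have h1 := t_pow τ ha (orderOf (t a))
  rw [pow_orderOf_eq_one] at h1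
  have h2 := τ.act (a ^ orderOf (t a)) 1 0 (pow_ne_zero _ ha)
  rw [← h1, one_mul, inv_one, mul_one, mul_one, mul_zero] at h2
  have h3 := Sc.v_sub τ 1 0 (a ^ orderOf (t a)) 0
  rw [← h2, mul_inv_cancel] at h3
  exact (sub_eq_zero.1 (τ.v_inj _ _ h3.symm).1).symm

theorem cast_order {a : F} (ha : a ≠ 0) : ((orderOf (t a) : ℕ) : F) = 1 := by
  obtain ⟨k, hk⟩ := τ.odd a ha
  rw [hk]
  have h3 := Cfsg.Agent.Omega.Lie.TorD.two b τ (k : F)
  push_cast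
  linear_combination h3

end torus

/-! ### `W_i` on the line `V'` -/

namespace Sc

variable {p' : G} (s : Sc V R i j vv t P p') (b : BTS V R) (τ : TorD V R i j vv t) (c : Coord V R i j vv w1 w2)
include s c

/-- `w ∈ W_i` acts on `V'` as a transvection -/
theorem line_act {w : G} (hw : w ∈ WW V (R i)) : ∃ σ : F, ∀ x y,
    w * (p' * vv x y * p'⁻¹) * w⁻¹ = p' * vv (x + σ * y) y * p'⁻¹ := by
  have hw' : p'⁻¹ * w * p' ∈ WW V (R i) :=
    conj_inv_mem_of_normalizer (normalizer_le_WW V (R i) (s.P_le_N s.mem)) hw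
  obtain ⟨σ, hσ⟩ := c.W1_act _ hw'
  refine ⟨σ, fun x y => ?_⟩
  rw [← hσ]; group

include τ

theorem line_comm {w : G} {σ : F} (h : ∀ x y, w * (p' * vv x y * p'⁻¹) * w⁻¹ = p' * vv (x + σ * y) y * p'⁻¹)
    (x y : F) : w * (p' * vv x y * p'⁻¹) * w⁻¹ * (p' * vv x y * p'⁻¹)⁻¹ = vv (σ * y) 0 := by
  rw [h]
  have e2 : p' * vv (x + σ * y) y * p'⁻¹ * (p' * vv x y * p'⁻¹)⁻¹ = p' * (vv (x + σ * y) y * (vv x y)⁻¹) * p'⁻¹ := by
    group
  rw [e2, v_sub τ, add_sub_cancel_left, sub_self, s.line_R τ]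

/-- the field `lin` -/
theorem lin_line {a : F} (ha : a ≠ 0) {w y : G} (hw : w ∈ WW V (R i)) (hy : y ∈ cj p' V) :
    w * (t a * y * (t a)⁻¹) * w⁻¹ * (t a * y * (t a)⁻¹)⁻¹ = t a * (w * y * w⁻¹ * y⁻¹) * (t a)⁻¹ := by
  obtain ⟨σ, hσ⟩ := s.line_act c hw
  obtain ⟨r, q, rfl⟩ := (s.mem_line τ).1 hy
  rw [s.sc a _ _ ha, s.line_comm τ c hσ, s.line_comm τ c hσ, τ.act a _ _ ha, mul_zero]
  congr 1
  ring

omit s in
/-- the field `linV` -/
theorem lin_V {a : F} (ha : a ≠ 0) {w y : G} (hw : w ∈ WW V (R i)) (hy : y ∈ V) :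
    w * (t a * y * (t a)⁻¹) * w⁻¹ * (t a * y * (t a)⁻¹)⁻¹ = (t a)⁻¹ * (w * y * w⁻¹ * y⁻¹) * t a := by
  obtain ⟨σ, hσ⟩ := c.W1_act w hw
  obtain ⟨r, q, rfl⟩ := (τ.v_mem y).1 hy
  have key : ∀ x y, w * vv x y * w⁻¹ * (vv x y)⁻¹ = vv (σ * y) 0 := fun x y => by
    rw [hσ, v_sub τ, add_sub_cancel_left, sub_self]
  have h1 := τ.act a⁻¹ (σ * q) 0 (inv_ne_zero ha)
  rw [τ.inv ha, inv_inv] at h1
  rw [τ.act a _ _ ha, key, key, h1, mul_zero]
  congr 1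
  ring

include b in
/-- **the field `dd`**: `D` acts on `V'` as `W_i` does -/
theorem exists_d {a : F} (ha : a ≠ 0) (ha1 : a ≠ 1) {w : G} (hw : w ∈ WW V (R i)) :
    ∃ d ∈ DD V R, ∀ y ∈ cj p' V, d * y * d⁻¹ = w * y * w⁻¹ := by
  obtain ⟨σ, hσ⟩ := s.line_act c hw
  set z := t a with hz
  set o := orderOf z with ho
  have hzW : z ∈ normalizer (WW V (R i) : Set G) := normalizer_le_WW V (R i) (τ.normR ha)
  -- `d ∈ W_i`
  have h1 : ∀ r : ℕ, ∃ u ∈ WW V (R i), (w * z) ^ r = u * z ^ r := by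
    intro r
    induction r with
    | zero => exact ⟨1, one_mem _, by rw [pow_zero, pow_zero, one_mul]⟩
    | succ r ih =>
      obtain ⟨u, hu, e⟩ := ih
      refine ⟨w * (z * u * z⁻¹), mul_mem hw (conj_mem_of_normalizer hzW hu), ?_⟩
      rw [pow_succ', e, pow_succ']
      group
  obtain ⟨u, hu, e⟩ := h1 o
  rw [ho, pow_orderOf_eq_one, mul_one] at e
  set d := (w * z) ^ o with hd
  have hdW : d ∈ WW V (R i) := by rw [e]; exact hu
  -- `d` is fixed by `z` modulo `R i`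
  have h2 : z * d * z⁻¹ * d⁻¹ ∈ R i := by
    have h3 : w * z * d = d * (w * z) := by rw [hd, ← pow_succ', ← pow_succ]
    have h4 : z * d * z⁻¹ = w⁻¹ * d * w := by
      calc z * d * z⁻¹ = w⁻¹ * (w * z * d) * z⁻¹ := by group
        _ = w⁻¹ * (d * (w * z)) * z⁻¹ := by rw [h3]
        _ = _ := by group
    rw [h4]
    have h5 := b.WW_comm i (inv_mem hw) hdW
    rwa [inv_inv] at h5
  have hRD : R i ≤ DD V R := fun x hx => V_le_D V R (b.R_le i hx)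
  have hdU : d ∈ UU V R i := W_fix b.toBT τ ha ha1 hdW (b.D_le_U i (hRD h2))
  refine ⟨d, U_fix b.toBT τ ha ha1 hdU (hRD h2), ?_⟩
  -- the action on `V'`
  have h3 : ∀ (r : ℕ) (x y : F), (w * z) ^ r * (p' * vv x y * p'⁻¹) * ((w * z) ^ r)⁻¹ =
      p' * vv (a ^ r * (x + r * (σ * y))) (a ^ r * y) * p'⁻¹ := by
    intro r
    induction r with
    | zero =>
      intro x y
      simp
    | succ r ih =>
      intro x y
      have e1 : (w * z) ^ (r + 1) * (p' * vv x y * p'⁻¹) * ((w * z) ^ (r + 1))⁻¹ =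
          w * (z * ((w * z) ^ r * (p' * vv x y * p'⁻¹) * ((w * z) ^ r)⁻¹) * z⁻¹) * w⁻¹ := by
        rw [pow_succ']
        generalize (w * z) ^ r = g
        group
      rw [e1, ih, s.sc a _ _ ha, hσ]
      congr 3
      · push_cast; ring
      · ring
  intro y hy
  obtain ⟨r, q, rfl⟩ := (s.mem_line τ).1 hy
  have h4 := h3 o r q
  rw [ho, pow_order τ ha, cast_order b.toBT τ ha, one_mul, one_mul, one_mul] at h4
  rw [hσ, hd, ho, h4]

/-! ### the field `dg` -/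

section dg

variable {m0 : G} (hm : m0 ∈ P) (h1 : cj m0 V = cj p' V) (h2 : cj m0 (cj p' V) = V)
include b hm h1 h2

/-- **`z z^{m₀}` is trivial on `W_N / R i`** -/
theorem dg_WN {a : F} (ha : a ≠ 0) (hF : ∃ a : F, a ≠ 0 ∧ a ≠ 1) {x : G} (hx : x ∈ WN V P) :
    t a * (m0 * t a * m0⁻¹) * x * (t a * (m0 * t a * m0⁻¹))⁻¹ * x⁻¹ ∈ R i := by
  set z := t a with hz
  set ξ := m0 * z * m0⁻¹ with hξ
  have hmR := s.P_le_N hm
  have hzX : z ∈ XX V R := τ.memX a ha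
  have hzR : z ∈ normalizer (R i : Set G) := τ.normR ha
  have hξR : ξ ∈ normalizer (R i : Set G) := mul_mem (mul_mem hmR hzR) (inv_mem hmR)
  have hζR : z * ξ ∈ normalizer (R i : Set G) := mul_mem hzR hξR
  -- the elements fixed modulo `R i`
  have hWN : ∀ r ∈ R i, ∀ x ∈ WN V P, x * r * x⁻¹ ∈ R i := by
    intro r hr x hx
    have h3 := UU_le_cen i (s.WN_le_U b hx)
    rw [← mem_centralizer_iff.1 h3 r (b.R_le i hr), mul_inv_cancel_right]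
    exact hr
  have hmul : ∀ x ∈ WN V P, ∀ y, z * ξ * x * (z * ξ)⁻¹ * x⁻¹ ∈ R i → z * ξ * y * (z * ξ)⁻¹ * y⁻¹ ∈ R i →
      z * ξ * (x * y) * (z * ξ)⁻¹ * (x * y)⁻¹ ∈ R i := by
    intro x hx y h3 h4
    rw [show z * ξ * (x * y) * (z * ξ)⁻¹ * (x * y)⁻¹ =
      (z * ξ * x * (z * ξ)⁻¹ * x⁻¹) * (x * (z * ξ * y * (z * ξ)⁻¹ * y⁻¹) * x⁻¹) by group]
    exact mul_mem h3 (hWN _ h4 x hx)
  have hζV : ξ ∈ normalizer (V : Set G) := s.zeta_norm_V b τ hm h2 ha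
  have hζV' : m0⁻¹ * z * m0 ∈ normalizer (V : Set G) := by
    rw [← cj_eq_self_iff]
    calc cj (m0⁻¹ * z * m0) V = cj m0⁻¹ (cj z (cj m0 V)) := by rw [cj_mul, cj_mul]
      _ = V := by rw [h1, s.t_line b τ ha, ← h1, cj_inv_cj]
  -- decomposition
  obtain ⟨l, hl, d, hd, hdW, rfl⟩ := s.WN_fact b hx
  have hdW' : m0⁻¹ * d * m0 ∈ WN V P := conj_inv_mem_of_normalizer (P_norm_WN hm) hdW
  obtain ⟨l', hl', d', hd', hd'W, e⟩ := s.WN_fact b hdW'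
  have hv : m0 * l' * m0⁻¹ ∈ V := by
    rw [← h2]
    exact conj_mem_cj hl'
  have e2 : d = (m0 * l' * m0⁻¹) * (m0 * d' * m0⁻¹) := by
    have e3 : d = m0 * (m0⁻¹ * d * m0) * m0⁻¹ := by group
    rw [e3, e]; group
  set v := m0 * l' * m0⁻¹ with hv'
  set f := m0 * d' * m0⁻¹ with hf
  have hfD : f ∈ DD V R := by
    have e3 : f = v⁻¹ * d := by rw [e2]; group
    rw [e3]
    exact mul_mem (inv_mem (V_le_D V R hv)) hd
  have hd'e : m0⁻¹ * f * m0 = d' := by rw [hf]; group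
  -- `[z, f] ∈ R i`
  have h3 : z * f * z⁻¹ * f⁻¹ ∈ R i := by
    have h4 := b.XD hzX hfD
    have h5 : m0⁻¹ * (z * f * z⁻¹ * f⁻¹) * m0 ∈ cj p' V := by
      rw [← h2, mem_cj] at h4
      exact h4
    have h6 : m0⁻¹ * (z * f * z⁻¹ * f⁻¹) * m0 ∈ DD V R := by
      have e3 : m0⁻¹ * (z * f * z⁻¹ * f⁻¹) * m0 = ((m0⁻¹ * z * m0) * d' * (m0⁻¹ * z * m0)⁻¹) * d'⁻¹ := by
        rw [← hd'e]; group
      rw [e3]
      exact mul_mem (conj_mem_of_normalizer (b.NV_le_ND hζV') hd') (inv_mem hd')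
    have h7 := s.cap b τ hF h5 ⟨_, h6, 1, one_mem _, by rw [mul_one]⟩
    have h8 := conj_mem_of_normalizer hmR h7
    rwa [show m0 * (m0⁻¹ * (z * f * z⁻¹ * f⁻¹) * m0) * m0⁻¹ = z * f * z⁻¹ * f⁻¹ by group] at h8
  -- `[ξ, f] ∈ R i`
  have h4 : ξ * f * ξ⁻¹ * f⁻¹ ∈ R i := by
    have h5 : z * d' * z⁻¹ * d'⁻¹ ∈ V := b.XD hzX hd'
    have e3 : ξ * f * ξ⁻¹ * f⁻¹ = m0 * (z * d' * z⁻¹ * d'⁻¹) * m0⁻¹ := by rw [hξ, hf]; group
    have h6 : ξ * f * ξ⁻¹ * f⁻¹ ∈ cj p' V := by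
      rw [e3, ← h1]
      exact conj_mem_cj h5
    have h7 : ξ * f * ξ⁻¹ * f⁻¹ ∈ DD V R :=
      mul_mem (conj_mem_of_normalizer (b.NV_le_ND hζV) hfD) (inv_mem hfD)
    exact s.cap b τ hF h6 ⟨_, h7, 1, one_mem _, by rw [mul_one]⟩
  have h5 : z * ξ * f * (z * ξ)⁻¹ * f⁻¹ ∈ R i := by
    rw [show z * ξ * f * (z * ξ)⁻¹ * f⁻¹ = (z * (ξ * f * ξ⁻¹ * f⁻¹) * z⁻¹) * (z * f * z⁻¹ * f⁻¹) by group]
    exact mul_mem (conj_mem_of_normalizer hzR h4) h3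
  rw [e2]
  refine hmul l (line_le_WN s.mem hl) _ (s.tt_line b τ c hm h1 ha hl) (hmul v (V_le_WN V P hv) _ ?_ h5)
  exact s.tt_V b τ c hm h2 ha hv

end dg

end Sc

/-! ### `P_W` centralises `Sh ∩ C_X` -/

namespace SigL

variable (L : SigL V R i j P)
include L

theorem PW_comm (b : BT V R) {p k : G} (hp : p ∈ PW V R i P) (hk : k ∈ Sh V R P ⊓ CenX V R) : p * k = k * p := by
  have h1 : k ∈ centralizer (PW V R i P : Set G) := by
    refine L.PW_cen b fun q hq => ?_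
    have h1 : q * k * q⁻¹ ∈ Sh V R P := conj_mem_of_normalizer (P_norm_Sh hq) hk.1
    have h2 : q * k * q⁻¹ ∈ centralizer (WW V (R i) : Set G) := by
      have h3 := conj_mem_cj (g := q) (cen_X_le i hk.2)
      rwa [← centralizer_cj, L.cj_W hq] at h3
    obtain ⟨a, ha, h3⟩ := L.Sh_C h1 h2
    refine mem_inf.2 ⟨?_, h2⟩
    have e : q * k * q⁻¹ = a⁻¹ * (a * (q * k * q⁻¹)) := by group
    rw [e]
    refine mul_mem (inv_mem ?_) ((centralizer_le YY_le_XX) h3.2)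
    rw [mem_centralizer_iff]
    intro y hy
    exact (mem_centralizer_iff.1 (YY_le_cen hy) a (b.R_le i ha)).symm
  exact mem_centralizer_iff.1 h1 p hp

end SigL

theorem CenX_norm_WN (n : Nd V R i j P) : Sh V R P ⊓ CenX V R ≤ normalizer (WN V P : Set G) :=
  (inf_le_right.trans ((cen_X_le i).trans (centralizer_le n.WN_le_W))).trans (centralizer_le_normalizer _)

theorem mem_SK (n : Nd V R i j P) {x : G} (hx : x ∈ SK V R P) : ∃ w ∈ WN V P, ∃ k ∈ Sh V R P ⊓ CenX V R, x = w * k :=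
  mem_sup_of_norm (CenX_norm_WN n) hx

/-- `Y ∩ C_X ≤ D` -/
theorem Y_CenX (b : BT V R) {E : Type u} [AddCommGroup E] [Module F E] {P1 P2 : G → E}
    (y : YPair V R i j w1 w2 E P1 P2) (c : Coord V R i j vv w1 w2) {k : G} (hk : k ∈ YY V R) (hC : k ∈ CenX V R) :
    k ∈ DD V R := by
  have _ := b
  have e1 : w1 1 * k * (w1 1)⁻¹ = k := by
    rw [mem_centralizer_iff.1 hC _ (W_le_X V R i (c.w1_mem 1)), mul_inv_cancel_right]
  have e2 : w2 1 * k * (w2 1)⁻¹ = k := by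
    rw [mem_centralizer_iff.1 hC _ (W_le_X V R j (c.w2_mem 1)), mul_inv_cancel_right]
  have h1 := y.w11 1 k hk
  have h2 := y.w22 1 k hk
  rw [e1, one_smul] at h1
  rw [e2, one_smul] at h2
  exact (y.mem_D k hk).2 ⟨left_eq_add.1 h2, left_eq_add.1 h1⟩

namespace Sc

variable {p' : G} (s : Sc V R i j vv t P p') (b : BTS V R) (τ : TorD V R i j vv t) (c : Coord V R i j vv w1 w2)
include s b

/-- the field `SD` -/
theorem SK_D {E : Type u} [AddCommGroup E] [Module F E] {P1 P2 : G → E} (y : YPair V R i j w1 w2 E P1 P2)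
    (c : Coord V R i j vv w1 w2) : SK V R P ⊓ WW V (R j) ≤ DD V R := by
  rintro x ⟨hx, hxW⟩
  obtain ⟨n, hn, k, hk, rfl⟩ := mem_SK s.toNd hx
  have hnU := s.WN_le_U b hn
  have hxU : n * k ∈ UU V R j := mem_inf.2 ⟨hxW, mul_mem (UU_le_cen i hnU) (BT.CenX_le_cen b.toBT hk.2)⟩
  have hkY : k ∈ YY V R := by
    have e : k = n⁻¹ * (n * k) := by group
    rw [e]
    exact mul_mem (inv_mem (UU_le_YY i hnU)) (UU_le_YY j hxU)
  have hkD := Y_CenX b.toBT y c hkY hk.2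
  refine mul_mem ?_ hkD
  rw [b.D_eq' s.hij]
  refine mem_inf.2 ⟨UU_le_WW i hnU, ?_⟩
  have e : n = (n * k) * k⁻¹ := by group
  rw [e]
  exact mul_mem hxW (inv_mem (D_le_W V R j hkD))

include τ c

/-- the field `triv` -/
theorem PW_Sh [Finite G] {m : G} (sw : Sw V R i j t m) {E : Type u} [AddCommGroup E] [Module F E] {P1 P2 : G → E}
    (y : YPair V R i j w1 w2 E P1 P2) (L : SigL V R i j P) (hF : ∃ a : F, a ≠ 0 ∧ a ≠ 1)
    (hXV : XX V R ⊓ centralizer (V : Set G) ≤ YY V R)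
    (hK2 : ∀ w ∈ WW V (R i), ∀ x ∈ cj p' V, ∃ n ∈ WN V P, ∃ z ∈ ZZ V R i,
      w * (m⁻¹ * x * m) * w⁻¹ * (m⁻¹ * x * m)⁻¹ = n * z)
    (H4 : ∀ p ∈ PW V R i P, ∀ x ∈ cj p' V, ∃ n ∈ WN V P, ∃ z ∈ ZZ V R i,
      p * (m⁻¹ * x * m) * p⁻¹ * (m⁻¹ * x * m)⁻¹ = n * z) {p x : G} (hp : p ∈ PW V R i P) (hx : x ∈ Sh V R P) :
    p * x * p⁻¹ * x⁻¹ ∈ SK V R P := by
  have hpP := s.PW_le b.toBT hp
  have h1 : p * x * p⁻¹ * x⁻¹ ∈ Sh V R P := mul_mem (conj_mem_of_normalizer (P_norm_Sh hpP) hx) (inv_mem hx)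
  have h2 : p * x * p⁻¹ * x⁻¹ ∈ QQ (R i) := by
    obtain ⟨σ, hσ, k, hk, rfl⟩ := L.Sh_fact hx
    obtain ⟨l, hl, n, hn, ψ, hψ, rfl⟩ := s.S0_fact b τ sw c y hF hXV hK2 hσ
    have hψ' : ψ ∈ Sh V R P ⊓ CenX V R := mem_inf.2 ⟨S0_le_Sh hψ.1, hψ.2.2⟩
    have hkψ : ψ * k ∈ Sh V R P ⊓ CenX V R := mul_mem hψ' hk
    have e3 := L.PW_comm b.toBT hp hkψ
    obtain ⟨n', hn', z', hz', e4⟩ := H4 p hp l hl
    set u := m⁻¹ * l * m with hu
    have huP : u ∈ P := s.UP (conj_U' b sw (s.leU hl))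
    have e5 : p * (u * n * ψ * k) * p⁻¹ * (u * n * ψ * k)⁻¹ = (p * u * p⁻¹ * u⁻¹) * (u * (p * n * p⁻¹ * n⁻¹) * u⁻¹) := by
      calc p * (u * n * ψ * k) * p⁻¹ * (u * n * ψ * k)⁻¹
          = p * u * n * ((ψ * k) * p⁻¹) * (ψ * k)⁻¹ * n⁻¹ * u⁻¹ := by group
        _ = p * u * n * (p⁻¹ * (p * (ψ * k)) * p⁻¹) * (ψ * k)⁻¹ * n⁻¹ * u⁻¹ := by group
        _ = p * u * n * (p⁻¹ * ((ψ * k) * p) * p⁻¹) * (ψ * k)⁻¹ * n⁻¹ * u⁻¹ := by rw [e3]
        _ = _ := by group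
    rw [e5, e4]
    have hWQ : ∀ g ∈ WN V P, g ∈ QQ (R i) := fun g hg => b.W_le_Q i (s.WN_le_W hg)
    refine mul_mem (mul_mem (hWQ _ hn') (b.W_le_Q i hz'.1)) (hWQ _ ?_)
    exact conj_mem_of_normalizer (P_norm_WN huP) (mul_mem (conj_mem_of_normalizer (P_norm_WN hpP) hn) (inv_mem hn))
  obtain ⟨n, hn, k, hk, e⟩ := L.Sh_Q b h1 h2
  rw [e]
  exact mul_mem ((le_sup_left : WN V P ≤ _) hn) ((le_sup_right : Sh V R P ⊓ CenX V R ≤ _) hk)

/-- **`AptH`** -/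
theorem aptH [Finite G] {m : G} (sw : Sw V R i j t m) {E : Type u} [AddCommGroup E] [Module F E] {P1 P2 : G → E}
    (y : YPair V R i j w1 w2 E P1 P2) (lin : Lin V R i P vv m p')
    (hXV : XX V R ⊓ centralizer (V : Set G) ≤ YY V R)
    (hK2 : ∀ w ∈ WW V (R i), ∀ x ∈ cj p' V, ∃ n ∈ WN V P, ∃ z ∈ ZZ V R i,
      w * (m⁻¹ * x * m) * w⁻¹ * (m⁻¹ * x * m)⁻¹ = n * z)
    (H4 : ∀ p ∈ PW V R i P, ∀ x ∈ cj p' V, ∃ n ∈ WN V P, ∃ z ∈ ZZ V R i,
      p * (m⁻¹ * x * m) * p⁻¹ * (m⁻¹ * x * m)⁻¹ = n * z)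
    {O : Subgroup G} (OP : O ≤ PW V R i P) (OK : O ≤ cmod (R i) (WN V P))
    (PO : PW V R i P ≤ normalizer (O : Set G)) (OT : ∀ a, a ≠ 0 → t a ∈ normalizer (O : Set G))
    (two : IsPGroup 2 O) (perf : PW V R i P ≤ ⁅PW V R i P, PW V R i P⁆ ⊔ O)
    (lift : ∀ g : G, g ∈ normalizer (PW V R i P : Set G) → g ∈ normalizer (O : Set G) →
      (∀ x ∈ PW V R i P, g * x * g⁻¹ * x⁻¹ ∈ cmod (SN V R i P) (WN V P)) → ∀ x ∈ PW V R i P, g * x * g⁻¹ * x⁻¹ ∈ O)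
    {m0 : G} (hm : m0 ∈ PW V R i P) (h1 : cj m0 V = cj p' V) (h2 : cj m0 (cj p' V) = V) {a : F} (ha : a ≠ 0)
    (ha1 : a ≠ 1) :
    AptH V R i j (PW V R i P) O (SK V R P) (Sh V R P) (cj p' V) (t a) m m0 := by
  have hF : ∃ a : F, a ≠ 0 ∧ a ≠ 1 := ⟨a, ha, ha1⟩
  have L := s.sigL b τ sw c y hF lin hXV hK2 H4
  have hPWP := s.PW_le b.toBT
  have hmP := hPWP hm
  have hzX : t a ∈ XX V R := τ.memX a ha
  have hzV : t a ∈ normalizer (V : Set G) := b.X_le_NV hzX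
  have hWNS : WN V P ≤ SK V R P := le_sup_left
  have hzK : ∀ k ∈ Sh V R P ⊓ CenX V R, t a * k = k * t a := fun k hk => mem_centralizer_iff.1 hk.2 _ hzX
  have hSN : SN V R i P ≤ WN V P := inf_le_left
  exact
    { ne := s.hij
      zX := hzX
      zi := τ.normR ha
      zj := τ.normR' ha
      zo := τ.odd a ha
      tf := fun l hl h => tor_fix_bt b.toBT τ c ha ha1 hl h
      zR := fun r hr h => by
        obtain ⟨x, rfl⟩ := (τ.Ri r).1 hr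
        have e : t a * t a * vv x 0 * (t a * t a)⁻¹ = t a * (t a * vv x 0 * (t a)⁻¹) * (t a)⁻¹ := by group
        rw [e, τ.act a _ _ ha, τ.act a _ _ ha, mul_zero, mul_zero] at h
        have h3 := (c.v_inj h).1
        have h4 : (a * a - 1) * x = 0 := by linear_combination h3
        have h5 := (mul_eq_zero.1 h4).resolve_left (sub_ne_zero.2 (mul_self_ne_one b.toBT τ ha1))
        rw [h5, c.v_zero]
      ρX := sw.mX
      ρi := sw.m1
      ρj := sw.m2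
      ρz := by
        have h3 := sw.mt a⁻¹ (inv_ne_zero ha)
        rw [τ.inv ha, inv_inv] at h3
        calc m⁻¹ * t a * m = m⁻¹ * (m * (t a)⁻¹ * m⁻¹) * m := by rw [h3]
          _ = (t a)⁻¹ := by group
      PR := hPWP.trans s.PR
      zP := norm_PW (s.tP a ha) (b.NV_le_NY hzV) (normalizer_le_WW V (R i) (τ.normR ha))
      OP := OP
      OK := fun g hg => by
        obtain ⟨h3, h4⟩ := OK hg
        refine ⟨h3, fun x hx => ?_⟩
        obtain ⟨n, hn, k, hk, rfl⟩ := mem_SK s.toNd hx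
        have e := L.PW_comm b.toBT (OP hg) hk
        have e2 : g * (n * k) * g⁻¹ * (n * k)⁻¹ = g * n * g⁻¹ * n⁻¹ := by
          calc g * (n * k) * g⁻¹ * (n * k)⁻¹ = g * n * (g⁻¹ * (g * k) * g⁻¹) * k⁻¹ * n⁻¹ := by group
            _ = g * n * (g⁻¹ * (k * g) * g⁻¹) * k⁻¹ * n⁻¹ := by rw [e]
            _ = _ := by group
        rw [e2]
        exact h4 n hn
      PO := PO
      zO := OT a ha
      two := two
      perf := perf
      lift := fun g h3 h4 h5 => by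
        refine lift g h3 h4 fun x hx => ?_
        obtain ⟨h6, h7⟩ := h5 x hx
        have h8 : ∀ n ∈ WN V P, g * x * g⁻¹ * x⁻¹ * n * (g * x * g⁻¹ * x⁻¹)⁻¹ * n⁻¹ ∈ SN V R i P := fun n hn =>
          R_le_SN b.toBT (h7 n (hWNS hn))
        refine ⟨?_, h8⟩
        apply mem_normalizer_of_conj
        intro n hn
        have h9 := mul_mem (h8 n (hSN hn)) hn
        rwa [inv_mul_cancel_right] at h9
      XT := L.X_norm
      PT := hPWP.trans P_norm_Sh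
      PS := fun g hg => by
        rw [← cj_eq_self_iff, cj_sup, cj_eq_self_iff.2 (P_norm_WN (hPWP hg))]
        congr 1
        have h3 : ∀ k ∈ Sh V R P ⊓ CenX V R, g * k * g⁻¹ = k := fun k hk => by
          rw [L.PW_comm b.toBT hg hk, mul_inv_cancel_right]
        ext k
        rw [mem_cj]
        constructor
        · intro hk
          have h4 := h3 _ hk
          rw [show g * (g⁻¹ * k * g) * g⁻¹ = k by group] at h4
          rw [h4]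
          exact hk
        · intro hk
          have h4 := h3 _ hk
          have h5 : g⁻¹ * k * g = k := by
            nth_rw 1 [← h4]
            group
          rw [h5]
          exact hk
      zS := by
        rw [← cj_eq_self_iff, cj_sup, cj_eq_self_iff.2 (s.t_norm_WN b τ ha), cj_inf,
          cj_eq_self_iff.2 (L.X_norm hzX), cj_eq_self_iff.2 (BT.NV_le_NCenX b.toBT hzV)]
      com := fun _ hx _ hy => L.Sh_comm hx hy
      ST := sup_le (WN_le_S0.trans S0_le_Sh) inf_le_left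
      VS := (V_le_WN V P).trans hWNS
      VS' := (line_le_WN s.mem).trans hWNS
      triv := fun x hx g hg => s.PW_Sh b τ c sw y L hF hXV hK2 H4 hx hg
      m0P := hm
      m0V := h1
      m0V' := h2
      zV' := cj_eq_self_iff.1 (s.t_line b τ ha)
      dg := fun x hx => by
        obtain ⟨n, hn, k, hk, rfl⟩ := mem_SK s.toNd hx
        have e1 := L.PW_comm b.toBT hm hk
        have e2 := hzK k hk
        have e3 : t a * (m0 * t a * m0⁻¹) * k = k * (t a * (m0 * t a * m0⁻¹)) := by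
          have e4 : m0⁻¹ * k = k * m0⁻¹ := by
            calc m0⁻¹ * k = m0⁻¹ * (k * m0) * m0⁻¹ := by group
              _ = m0⁻¹ * (m0 * k) * m0⁻¹ := by rw [e1]
              _ = _ := by group
          calc t a * (m0 * t a * m0⁻¹) * k = t a * m0 * t a * (m0⁻¹ * k) := by group
            _ = t a * m0 * (t a * k) * m0⁻¹ := by rw [e4]; group
            _ = t a * (m0 * k) * t a * m0⁻¹ := by rw [e2]; group
            _ = (t a * k) * m0 * t a * m0⁻¹ := by rw [e1]; group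
            _ = _ := by rw [e2]; group
        have e5 : t a * (m0 * t a * m0⁻¹) * (n * k) * (t a * (m0 * t a * m0⁻¹))⁻¹ * (n * k)⁻¹ =
            t a * (m0 * t a * m0⁻¹) * n * (t a * (m0 * t a * m0⁻¹))⁻¹ * n⁻¹ := by
          set ζ := t a * (m0 * t a * m0⁻¹) with hζ
          calc ζ * (n * k) * ζ⁻¹ * (n * k)⁻¹ = ζ * n * (ζ⁻¹ * (ζ * k) * ζ⁻¹) * k⁻¹ * n⁻¹ := by group
            _ = ζ * n * (ζ⁻¹ * (k * ζ) * ζ⁻¹) * k⁻¹ * n⁻¹ := by rw [e3]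
            _ = _ := by group
        rw [e5]
        exact s.dg_WN b τ c hmP h1 h2 ha hF hn
      SD := s.SK_D b y c
      lin := fun w hw y hy => s.lin_line τ c ha hw hy
      linV := fun w hw y hy => lin_V τ c ha hw hy
      VD := fun x hx => s.cap b τ hF hx.1 ⟨x, hx.2, 1, one_mem _, by rw [mul_one]⟩
      dd := fun w hw => s.exists_d b τ c ha ha1 hw }

end Sc

end Cfsg.Agent.Omega.HOneQ

end

section


/-!
# II.0h1, split, `q ≥ 4`, residues `(0, x)`, types `(sigma)` and `(beta)`: towards the field `frat`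

* `exists_comm_mod` : an element without fixed points on an abelian quotient;
* `Sc.WN_fix` : `C_{W_N}(U_j mod Z_i) ≤ V Z_i`;
* `NodeQ.U_le_dual` : `U_i ≤ [U_j, W_i] W0` (duality), `W0 = C_{W_i}(W_N)`;
* `Sc.tor_fix` : `[t a, w]` centralises `V_2' = m⁻¹ V' m` only if `w ∈ W0` does;
* `Sc.W0_cen_Sh` : an element of `W0` which centralises `V_2'` centralises `Sh`.
-/

set_option autoImplicit false
set_option linter.unusedSectionVars false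

namespace Cfsg.Agent.Omega.HOneQ

open Subgroup Cfsg.Agent.Omega.BTwo
open Cfsg.Agent.Omega.Lie (TorD)

universe u v w

section abs

variable {G : Type u} [Group G]

/-- an element without fixed points on the abelian quotient `Q / N`: every element is a commutator modulo `N` -/
theorem exists_comm_mod [Finite G] {Q N : Subgroup G} {x : G} (hx : x ∈ normalizer (Q : Set G))
    (hxN : x ∈ normalizer (N : Set G)) (hab : ∀ u ∈ Q, ∀ v ∈ Q, u * v * u⁻¹ * v⁻¹ ∈ N)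
    (hNQ : N ≤ Q) (h : ∀ u ∈ Q, x * u * x⁻¹ * u⁻¹ ∈ N → u ∈ N) {u : G} (hu : u ∈ Q) :
    ∃ u' ∈ Q, (x * u' * x⁻¹ * u'⁻¹)⁻¹ * u ∈ N := by
  have hn : (N.subgroupOf Q).Normal := by
    refine ⟨fun n hn g => ?_⟩
    rw [mem_subgroupOf] at hn ⊢
    have h1 := mul_mem (hab g g.2 n n.2) hn
    rwa [inv_mul_cancel_right] at h1
  have hcm : ∀ u ∈ Q, x * u * x⁻¹ * u⁻¹ ∈ Q := fun u hu =>
    mul_mem (BTwo.conj_mem_of_normalizer hx hu) (inv_mem hu)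
  let f : Q → Q ⧸ N.subgroupOf Q := fun u => QuotientGroup.mk ⟨x * u * x⁻¹ * (u : G)⁻¹, hcm u u.2⟩
  have hf : ∀ u v : Q, f (u * v) = f u * f v := by
    intro u v
    change QuotientGroup.mk _ = QuotientGroup.mk _ * QuotientGroup.mk _
    rw [← QuotientGroup.mk_mul, eq_comm, QuotientGroup.eq, mem_subgroupOf]
    change (x * u * x⁻¹ * (u : G)⁻¹ * (x * v * x⁻¹ * (v : G)⁻¹))⁻¹ * (x * ((u : G) * v) * x⁻¹ * ((u : G) * v)⁻¹) ∈ N
    have h1 := hab _ (inv_mem (hcm v v.2)) u u.2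
    have e : (x * u * x⁻¹ * (u : G)⁻¹ * (x * v * x⁻¹ * (v : G)⁻¹))⁻¹ * (x * ((u : G) * v) * x⁻¹ * ((u : G) * v)⁻¹) =
        (x * v * x⁻¹ * (v : G)⁻¹)⁻¹ * u * (x * v * x⁻¹ * (v : G)⁻¹)⁻¹⁻¹ * (u : G)⁻¹ := by group
    rw [e]
    exact h1
  let φ : Q →* Q ⧸ N.subgroupOf Q := MonoidHom.mk' f hf
  have h0 : N.subgroupOf Q ≤ φ.ker := by
    intro n hn
    rw [MonoidHom.mem_ker]
    change QuotientGroup.mk _ = 1
    rw [QuotientGroup.eq_one_iff, mem_subgroupOf]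
    rw [mem_subgroupOf] at hn
    exact mul_mem (BTwo.conj_mem_of_normalizer hxN hn) (inv_mem hn)
  let g : Q ⧸ N.subgroupOf Q →* Q ⧸ N.subgroupOf Q := QuotientGroup.lift _ φ h0
  have hg : Function.Injective g := by
    rw [injective_iff_map_eq_one]
    intro q hq
    obtain ⟨n, rfl⟩ := QuotientGroup.mk_surjective q
    change φ n = 1 at hq
    have h1 : (QuotientGroup.mk (⟨x * n * x⁻¹ * (n : G)⁻¹, hcm n n.2⟩ : Q) : Q ⧸ N.subgroupOf Q) = 1 := hq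
    rw [QuotientGroup.eq_one_iff, mem_subgroupOf] at h1
    rw [QuotientGroup.eq_one_iff, mem_subgroupOf]
    exact h n n.2 h1
  obtain ⟨q, hq⟩ := (Finite.injective_iff_surjective.1 hg) (QuotientGroup.mk ⟨u, hu⟩)
  obtain ⟨n, rfl⟩ := QuotientGroup.mk_surjective q
  have h1 : (QuotientGroup.mk (⟨x * n * x⁻¹ * (n : G)⁻¹, hcm n n.2⟩ : Q) : Q ⧸ N.subgroupOf Q) =
    QuotientGroup.mk ⟨u, hu⟩ := hq
  rw [QuotientGroup.eq, mem_subgroupOf] at h1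
  exact ⟨n, n.2, h1⟩

end abs

variable {G : Type u} [Group G] {ι : Type w} {V : Subgroup G} {R : ι → Subgroup G} {i j : ι} {P : Subgroup G}
  {F : Type v} [Field F] {vv : F → F → G} {t : F → G} {w1 w2 : F → G}

/-- `t a` normalises `U_j` -/
theorem t_norm_Uj (b : BT V R) (τ : TorD V R i j vv t) {a : F} (ha : a ≠ 0) : t a ∈ normalizer (UU V R j : Set G) := by
  have h1 := cj_eq_self_iff.2 (normalizer_le_WW V (R j) (τ.normR' ha))
  have h2 := cj_eq_self_iff.2 (normalizer_le_normalizer_centralizer V (b.X_le_NV (τ.memX a ha)))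
  rw [← cj_eq_self_iff]
  change cj (t a) (WW V (R j) ⊓ centralizer (V : Set G)) = WW V (R j) ⊓ centralizer (V : Set G)
  rw [cj_inf, h1, h2]

namespace Sc

variable {p' : G} (s : Sc V R i j vv t P p') (b : BTS V R) (τ : TorD V R i j vv t)
include s b τ

/-- **`C_{W_N}(U_j mod Z_i) ≤ V Z_i`** -/
theorem WN_fix (hF : ∃ a : F, a ≠ 0 ∧ a ≠ 1) {x : G} (hx : x ∈ WN V P)
    (h : ∀ u ∈ UU V R j, u * x * u⁻¹ * x⁻¹ ∈ ZZ V R i) : x ∈ V ⊔ ZZ V R i := by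
  obtain ⟨a, ha, ha1⟩ := id hF
  have ha1' : a - 1 ≠ 0 := sub_ne_zero.2 ha1
  -- the subgroup
  let Y : Subgroup G :=
    { carrier := {x | x ∈ WN V P ∧ ∀ u ∈ UU V R j, u * x * u⁻¹ * x⁻¹ ∈ ZZ V R i}
      one_mem' := ⟨one_mem _, fun u _ => by
        rw [mul_one, mul_inv_cancel, one_mul, inv_one]; exact one_mem _⟩
      mul_mem' := by
        rintro x y ⟨hx, h1⟩ ⟨hy, h2⟩
        refine ⟨mul_mem hx hy, fun u hu => ?_⟩
        have h3 := z_comm (h2 u hu) (s.WN_le_W hx)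
        have e : u * (x * y) * u⁻¹ * (x * y)⁻¹ = (u * x * u⁻¹ * x⁻¹) * (u * y * u⁻¹ * y⁻¹) := by
          calc u * (x * y) * u⁻¹ * (x * y)⁻¹ = (u * x * u⁻¹ * x⁻¹) * (x * (u * y * u⁻¹ * y⁻¹)) * x⁻¹ := by group
            _ = _ := by rw [← h3]; group
        rw [e]
        exact mul_mem (h1 u hu) (h2 u hu)
      inv_mem' := by
        rintro x ⟨hx, h1⟩
        refine ⟨inv_mem hx, fun u hu => ?_⟩
        have h3 := z_comm (inv_mem (h1 u hu)) (s.WN_le_W hx)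
        have e : u * x⁻¹ * u⁻¹ * x⁻¹⁻¹ = (u * x * u⁻¹ * x⁻¹)⁻¹ := by
          calc u * x⁻¹ * u⁻¹ * x⁻¹⁻¹ = x⁻¹ * ((u * x * u⁻¹ * x⁻¹)⁻¹ * x) := by group
            _ = x⁻¹ * (x * (u * x * u⁻¹ * x⁻¹)⁻¹) := by rw [← h3]
            _ = _ := by group
        rw [e]
        exact inv_mem (h1 u hu) }
  have hYV : V ≤ Y := fun z hz => ⟨V_le_WN V P hz, fun u hu => by
    rw [← mem_centralizer_iff.1 (UU_le_cen j hu) z hz, mul_inv_cancel_right, mul_inv_cancel]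
    exact one_mem _⟩
  have hYt : ∀ {a : F}, a ≠ 0 → ∀ {x : G}, x ∈ Y → t a * x * (t a)⁻¹ ∈ Y := by
    intro a ha x hx
    refine ⟨BTwo.conj_mem_of_normalizer (s.t_norm_WN b τ ha) hx.1, fun u hu => ?_⟩
    have h1 := hx.2 _ (BTwo.conj_inv_mem_of_normalizer (t_norm_Uj b.toBT τ ha) hu)
    have h2 := BTwo.conj_mem_of_normalizer (N_le_NZ i (τ.normR ha)) h1
    have e : t a * ((t a)⁻¹ * u * t a * x * ((t a)⁻¹ * u * t a)⁻¹ * x⁻¹) * (t a)⁻¹ =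
        u * (t a * x * (t a)⁻¹) * u⁻¹ * (t a * x * (t a)⁻¹)⁻¹ := by group
    rwa [e] at h2
  obtain ⟨l, hl, d, hd, hdW, rfl⟩ := s.WN_fact b hx
  have hY : l * d ∈ Y := ⟨hx, h⟩
  -- `l ∈ R i`
  have hlR : l ∈ R i := by
    obtain ⟨y, z, rfl⟩ := (s.mem_line τ).1 hl
    rw [s.line_mem_R τ]
    by_contra hz
    set l := p' * vv y z * p'⁻¹ with hl0
    have h1 : t a * l * (t a)⁻¹ * l⁻¹ ∈ Y := by
      have h2 : t a * (l * d) * (t a)⁻¹ * (l * d)⁻¹ ∈ Y := mul_mem (hYt ha hY) (inv_mem hY)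
      have h3 : t a * d * (t a)⁻¹ * d⁻¹ ∈ V := b.XD (τ.memX a ha) hd
      have h4 := s.WN_comm b (V_le_WN V P h3) (inv_mem (line_le_WN s.mem hl))
      have e : t a * l * (t a)⁻¹ * l⁻¹ = t a * (l * d) * (t a)⁻¹ * (l * d)⁻¹ * (t a * d * (t a)⁻¹ * d⁻¹)⁻¹ := by
        calc t a * l * (t a)⁻¹ * l⁻¹ = t a * l * (t a)⁻¹ * ((l⁻¹ * (t a * d * (t a)⁻¹ * d⁻¹)) *
              (t a * d * (t a)⁻¹ * d⁻¹)⁻¹) := by group
          _ = t a * l * (t a)⁻¹ * (((t a * d * (t a)⁻¹ * d⁻¹) * l⁻¹) * (t a * d * (t a)⁻¹ * d⁻¹)⁻¹) := by rw [← h4]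
          _ = _ := by group
      rw [e]
      exact mul_mem h2 (inv_mem (hYV h3))
    rw [hl0, s.sc a _ _ ha] at h1
    have e2 : p' * vv (a * y) (a * z) * p'⁻¹ * (p' * vv y z * p'⁻¹)⁻¹ =
        p' * (vv (a * y) (a * z) * (vv y z)⁻¹) * p'⁻¹ := by group
    rw [e2, v_sub τ] at h1
    have hne : a * z - z ≠ 0 := by
      intro h0
      have h2 : (a - 1) * z = 0 := by linear_combination h0
      exact hz ((mul_eq_zero.1 h2).resolve_left ha1')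
    -- the whole line is in `Y`
    have h2 : cj p' V ≤ Y := by
      intro g hg
      obtain ⟨y', z', rfl⟩ := (s.mem_line τ).1 hg
      by_cases hz' : z' = 0
      · subst hz'
        rw [s.line_R τ]
        exact hYV ((τ.v_mem _).2 ⟨_, _, rfl⟩)
      · have hc : z' * (a * z - z)⁻¹ ≠ 0 := mul_ne_zero hz' (inv_ne_zero hne)
        have h3 := hYt hc h1
        rw [s.sc _ _ _ hc, inv_mul_cancel_right₀ hne] at h3
        have h4 := s.line_add τ (y' - z' * (a * z - z)⁻¹ * (a * y - y)) 0 (z' * (a * z - z)⁻¹ * (a * y - y)) z'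
        rw [sub_add_cancel, zero_add, s.line_R τ] at h4
        rw [h4]
        exact mul_mem (hYV ((τ.v_mem _).2 ⟨_, _, rfl⟩)) h3
    -- `U_j` normalises the line
    have h3 : ∀ u ∈ UU V R j, cj u (cj p' V) = cj p' V := by
      intro u hu
      rw [← cj_mul]
      refine s.inj b (mul_mem (s.UP hu) s.mem) s.mem ?_
      rw [cj_mul, cj_le_iff]
      intro g hg
      have e : u * g * u⁻¹ = (u * g * u⁻¹ * g⁻¹) * g := by group
      rw [e]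
      exact mul_mem ((le_sup_right : ZZ V R i ≤ _) ((h2 hg).2 u hu)) ((le_sup_left : cj p' V ≤ _) hg)
    obtain ⟨a1, ha1m, a2, ha2m, -, -, k1, k2, -, k3, -, -⟩ := s.four
    obtain ⟨u1, hu1, e1⟩ := s.trans p' s.mem s.ne a1 ha1m k1
    obtain ⟨u2, hu2, e2⟩ := s.trans p' s.mem s.ne a2 ha2m k2
    rw [h3 u1 hu1] at e1
    rw [h3 u2 hu2] at e2
    exact k3 (e1.symm.trans e2)
  -- `l d ∈ D` commutes with `U_j`
  have hxD : l * d ∈ DD V R := mul_mem (V_le_D V R (b.R_le i hlR)) hd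
  have hc : ∀ u ∈ UU V R j, (l * d) * u = u * (l * d) := by
    intro u hu
    have h1 := h u hu
    have h2 : u * (l * d) * u⁻¹ * (l * d)⁻¹ ∈ R j := b.WW_comm j (UU_le_WW j hu) (D_le_W V R j hxD)
    have h3 : u * (l * d) * u⁻¹ * (l * d)⁻¹ ∈ R i := BT.cen_VW b.toBT (b.R_le j h2) h1.2
    have h4 := b.eq_one s.hij h3 h2
    exact (mul_inv_eq_iff_eq_mul.1 (mul_inv_eq_one.1 h4)).symm
  obtain ⟨z, hz, h1⟩ := b.cen_DU (i := j) hxD hc
  have e : l * d = z⁻¹ * (z * (l * d)) := by group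
  rw [e]
  exact mul_mem ((le_sup_left : V ≤ _) (inv_mem hz))
    ((le_sup_right : ZZ V R i ≤ _) ⟨D_le_W V R i h1.1, cen_X_le i h1.2⟩)

end Sc

/-! ### Duality -/

namespace NodeQ

open Cfsg.Agent.Omega.Lie Cfsg.Agent.Omega.Lie.Quot Cfsg.Agent.Omega.HOne Cfsg.Agent.Omega.HOne.ModZ

variable {M : Type u} [AddCommGroup M] [Module F M] [DistribMulAction (HQ (R i)) M] {p : G → M}
  {f : M →ₗ[F] M →ₗ[F] F} {e : F →ₗ[F] M} {ω : M →ₗ[F] F} {σ : HQ (R i) →* RingAut F} {κ : HQ (R i) → F}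
  [Finite G] [Finite F]

/-- **Duality**: `U_i ≤ [U_j, W_i] C_{W_i}(W_N)` if the elements of `W_N` fixed by `U_j` modulo `Z_i` are in `V Z_i`. -/
theorem U_le_dual (q : Fq V R i vv M p f e ω σ κ) (c : Coord V R i j vv w1 w2) (nd : Nd V R i j P) (b : BT V R)
    {Ψ : Subgroup G} (h1 : ∀ u ∈ UU V R j, ∀ w ∈ WW V (R i), u * w * u⁻¹ * w⁻¹ ∈ Ψ) (h0 : W0 V R i P ≤ Ψ)
    (hcl : ∀ x ∈ WN V P, (∀ u ∈ UU V R j, u * x * u⁻¹ * x⁻¹ ∈ ZZ V R i) → x ∈ V ⊔ ZZ V R i) : UU V R i ≤ Ψ := by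
  have : Finite M := q.toMZ.finite_M
  have : Module.Finite F M := Module.Finite.of_finite
  have hr : LinearMap.BilinForm.IsRefl f := fun x y h => by rw [q.symm, h]
  have hn : LinearMap.BilinForm.Nondegenerate f :=
    ⟨fun x hx => q.nd x hx, fun x hx => q.nd x fun y => by rw [q.symm, hx y]⟩
  have hZW0 : ZZ V R i ≤ W0 V R i P := fun z hz =>
    mem_inf.2 ⟨hz.1, centralizer_le nd.WN_le_W hz.2⟩
  let T : Submodule F M :=
    { carrier := {m | ∀ (a : F), ∀ w ∈ WW V (R i), p w = a • m → w ∈ Ψ}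
      zero_mem' := fun a w hw h => by
        rw [smul_zero] at h
        exact h0 (hZW0 ((q.p_ker _ hw).1 h))
      add_mem' := fun {m m'} hm hm' a w hw h => by
        obtain ⟨w1, hw1, e1⟩ := q.p_surj (a • m)
        have k1 := hm a w1 hw1 e1
        have k2 := hm' a (w1⁻¹ * w) (mul_mem (inv_mem hw1) hw) (by
          rw [q.p_mul _ (inv_mem hw1) _ hw, q.toMZ.p_inv hw1, e1, h, smul_add, neg_add_cancel_left])
        have := mul_mem k1 k2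
        rwa [mul_inv_cancel_left] at this
      smul_mem' := fun c m hm a w hw h => hm (a * c) w hw (by rw [h, smul_smul]) }
  have kW0 : ∀ x ∈ W0 V R i P, p x ∈ T := fun x hx a w hw h =>
    h0 ((mem_W0_iff q c nd hw).2 fun m hm => by
      rw [h, map_smul, LinearMap.smul_apply, (mem_W0_iff q c nd hx.1).1 hx m hm, smul_zero])
  have kU : ∀ u ∈ UU V R j, ∀ w ∈ WW V (R i), p (u * w * u⁻¹ * w⁻¹) ∈ T := by
    intro u hu w hw a w3 hw3 h
    have huC : u ∈ centralizer (R i : Set G) := nd.PR (nd.UP hu)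
    have huN : u ∈ normalizer (R i : Set G) := b.cen_le_N i (UU_le_cen j hu)
    obtain ⟨w2, hw2, e2⟩ := q.p_surj (a • p w)
    have k1 : p w3 = p (u * w2 * u⁻¹ * w2⁻¹) := by
      rw [h, ← q.toMZ.smul_sub huN hw, ← q.toMZ.smul_sub huN hw2, e2, smul_sub]
      congr 1
      exact (cen_smul q c huC huN a (p w)).symm
    have k2 := (q.toMZ.p_eq_iff hw3 (MZ.comm_mem_W huN hw2)).1 k1
    have k3 := mul_mem (h0 (hZW0 k2)) (h1 u hu w2 hw2)
    rwa [inv_mul_cancel_right] at k3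
  intro x hx
  have hxW := UU_le_WW i hx
  have key : p x ∈ T := by
    rw [← LinearMap.BilinForm.orthogonal_orthogonal hn hr T, LinearMap.BilinForm.mem_orthogonal_iff]
    intro m hm
    rw [LinearMap.BilinForm.mem_orthogonal_iff] at hm
    obtain ⟨w', hw', rfl⟩ := q.p_surj m
    refine (f_zero_iff q c hw' hxW).2 ?_
    -- `w' ∈ W_N Z_i`
    have k1 : w' ∈ WN V P ⊔ ZZ V R i := dc q c nd hw' fun x0 hx0 =>
      ((f_zero_iff q c hx0.1 hw').1 (hm _ (kW0 x0 hx0))).symm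
    -- `[U_j, w'] ≤ Z_i`
    have k2 : ∀ u ∈ UU V R j, u * w' * u⁻¹ * w'⁻¹ ∈ ZZ V R i := by
      intro u hu
      have huN : u ∈ normalizer (R i : Set G) := b.cen_le_N i (UU_le_cen j hu)
      have huH := q.cenV_H0 c huN (UU_le_cen j hu)
      rw [← q.p_ker _ (MZ.comm_mem_W huN hw'), ← q.toMZ.smul_sub huN hw']
      apply q.nd
      intro m2
      obtain ⟨w, hw, e1⟩ := q.p_surj ((pr (R i) ⟨u, huN⟩)⁻¹ • m2)
      have e2 : m2 = pr (R i) ⟨u, huN⟩ • p w := by rw [e1, smul_inv_smul]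
      have k3 : f (p (u * w * u⁻¹ * w⁻¹)) (p w') = 0 := hm _ (kU u hu w hw)
      rw [← q.toMZ.smul_sub huN hw, map_sub, LinearMap.sub_apply, sub_eq_zero] at k3
      rw [q.symm, e2, map_sub, q.H0_isom c huH, k3, sub_self]
    -- `w' = n z`
    have hZW : ZZ V R i ≤ normalizer (WN V P : Set G) := fun z hz => P_norm_WN (nd.QP (b.W_le_Q i hz.1))
    obtain ⟨n, hn', z, hz, rfl⟩ := mem_sup_of_norm hZW k1
    have k3 : n ∈ V ⊔ ZZ V R i := by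
      refine hcl n hn' fun u hu => ?_
      have huN : u ∈ normalizer (R i : Set G) := b.cen_le_N i (UU_le_cen j hu)
      have h3 : u * z * u⁻¹ * z⁻¹ ∈ ZZ V R i :=
        mul_mem (BTwo.conj_mem_of_normalizer (N_le_NZ i huN) hz) (inv_mem hz)
      have h4 := z_comm h3 (nd.WN_le_W hn')
      have e1 : u * n * u⁻¹ * n⁻¹ = (u * (n * z) * u⁻¹ * (n * z)⁻¹) * (u * z * u⁻¹ * z⁻¹)⁻¹ := by
        calc u * n * u⁻¹ * n⁻¹ = (u * (n * z) * u⁻¹ * (n * z)⁻¹) * (n * (u * z * u⁻¹ * z⁻¹) * n⁻¹)⁻¹ := by group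
          _ = _ := by rw [← h4, mul_inv_cancel_right]
      rw [e1]
      exact mul_mem (k2 u hu) (inv_mem h3)
    have k4 : V ⊔ ZZ V R i ≤ centralizer {x} := by
      refine sup_le (fun y hy => ?_) fun y hy => ?_
      · rw [mem_centralizer_singleton_iff]
        exact mem_centralizer_iff.1 (UU_le_cen i hx) y hy
      · rw [mem_centralizer_singleton_iff]
        exact z_comm hy hxW
    have k5 := mem_centralizer_singleton_iff.1 (k4 (mul_mem k3 ((le_sup_right : ZZ V R i ≤ _) hz)))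
    exact k5
  exact key 1 x hxW (by rw [one_smul])

end NodeQ

/-! ### The torus on `W0` -/

namespace Sc

variable {p' : G} (s : Sc V R i j vv t P p') (b : BTS V R) (τ : TorD V R i j vv t) {m : G} (sw : Sw V R i j t m)
include s b τ sw

/-- `[m w m⁻¹, x]`, for `w ∈ W0`, `x ∈ V'`: `= v(0, z ρ) ψ` -/
theorem kx_full (hF : ∃ a : F, a ≠ 0 ∧ a ≠ 1) (lin : Lin V R i P vv m p')
    (linJ : ∀ w ∈ W0 V R i P, ∃ ρ : F, ∀ y z r s', KX V R P vv m w (p' * vv y z * p'⁻¹) r s' → s' = z * ρ)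
    {w : G} (hw : w ∈ W0 V R i P) : ∃ ρ : F, ∀ y z, ∃ ψ ∈ Psi V R P,
      (m * w * m⁻¹) * (p' * vv y z * p'⁻¹) * (m * w * m⁻¹)⁻¹ * (p' * vv y z * p'⁻¹)⁻¹ = vv 0 (z * ρ) * ψ := by
  obtain ⟨ρ, hρ⟩ := linJ w hw
  refine ⟨ρ, fun y z => ?_⟩
  have hx : p' * vv y z * p'⁻¹ ∈ cj p' V := (s.mem_line τ).2 ⟨_, _, rfl⟩
  obtain ⟨r, s', h⟩ := s.kx b τ sw hw hx
  have h1 := s.key_zero b τ sw hF lin hw hx h
  have h2 := hρ _ _ _ _ h
  subst h1
  subst h2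
  exact h

/-- **the torus has no fixed points on `W0 / C(V_2')`** -/
theorem tor_fix (lin : Lin V R i P vv m p')
    (linJ : ∀ w ∈ W0 V R i P, ∃ ρ : F, ∀ y z r s', KX V R P vv m w (p' * vv y z * p'⁻¹) r s' → s' = z * ρ)
    {a : F} (ha : a ≠ 0) (ha1 : a ≠ 1) {w : G} (hw : w ∈ W0 V R i P)
    (hg : ∀ x ∈ cj p' V, (m * (t a * w * (t a)⁻¹ * w⁻¹) * m⁻¹) * x = x * (m * (t a * w * (t a)⁻¹ * w⁻¹) * m⁻¹)) :
    ∀ x ∈ cj p' V, (m * w * m⁻¹) * x = x * (m * w * m⁻¹) := by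
  have hF : ∃ a : F, a ≠ 0 ∧ a ≠ 1 := ⟨a, ha, ha1⟩
  have ha1' : a - 1 ≠ 0 := sub_ne_zero.2 ha1
  obtain ⟨ρ, hρ⟩ := s.kx_full b τ sw hF lin linJ hw
  set W := m * w * m⁻¹ with hW
  have hgW0 : t a * w * (t a)⁻¹ * w⁻¹ ∈ W0 V R i P := mul_mem (s.W0_tor b τ hw ha) (inv_mem hw)
  have hWU : W ∈ UU V R j := conj_U b sw (W0_le_U hw)
  have hGU : m * (t a * w * (t a)⁻¹ * w⁻¹) * m⁻¹ ∈ UU V R j := conj_U b sw (W0_le_U hgW0)
  set Γ := m * (t a * w * (t a)⁻¹ * w⁻¹) * m⁻¹ with hΓ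
  have hmt := sw.mt a ha
  -- `m (t w t⁻¹) m⁻¹ = t⁻¹ W t`
  have e1 : Γ * W = (t a)⁻¹ * W * t a := by
    have e2 : m * (t a)⁻¹ * m⁻¹ = t a := by
      have e3 : m * (t a)⁻¹ * m⁻¹ = (m * t a * m⁻¹)⁻¹ := by group
      rw [e3, hmt, inv_inv]
    calc Γ * W = (m * t a * m⁻¹) * (m * w * m⁻¹) * (m * (t a)⁻¹ * m⁻¹) := by rw [hΓ, hW]; group
      _ = _ := by rw [hmt, e2]
  -- `[W, t x t⁻¹] = t [W, x] t⁻¹`
  have key : ∀ y z, W * (p' * vv (a * y) (a * z) * p'⁻¹) * W⁻¹ * (p' * vv (a * y) (a * z) * p'⁻¹)⁻¹ =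
      t a * (W * (p' * vv y z * p'⁻¹) * W⁻¹ * (p' * vv y z * p'⁻¹)⁻¹) * (t a)⁻¹ := by
    intro y z
    have hx : p' * vv y z * p'⁻¹ ∈ cj p' V := (s.mem_line τ).2 ⟨_, _, rfl⟩
    obtain ⟨ψ, hψ, e2⟩ := hρ y z
    rw [← s.sc a y z ha]
    set x := p' * vv y z * p'⁻¹ with hx0
    have h1 := hg x hx
    -- `[Γ W, x] = [W, x]`
    have h2 : Γ * (vv 0 (z * ρ) * ψ) = (vv 0 (z * ρ) * ψ) * Γ := by
      have h3 := mem_centralizer_iff.1 (UU_le_cen j hGU) _ ((τ.v_mem _).2 ⟨0, z * ρ, rfl⟩)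
      have h4 := mem_centralizer_iff.1 (Psi_le_CenX hψ) Γ (YY_le_XX (UU_le_YY j hGU))
      calc Γ * (vv 0 (z * ρ) * ψ) = (Γ * vv 0 (z * ρ)) * ψ := by group
        _ = vv 0 (z * ρ) * (Γ * ψ) := by rw [← h3]; group
        _ = _ := by rw [h4]; group
    have h3 : (Γ * W) * x * (Γ * W)⁻¹ * x⁻¹ = W * x * W⁻¹ * x⁻¹ := by
      calc (Γ * W) * x * (Γ * W)⁻¹ * x⁻¹ = Γ * (W * x * W⁻¹ * x⁻¹) * Γ⁻¹ * (Γ * x) * Γ⁻¹ * x⁻¹ := by group
        _ = Γ * (vv 0 (z * ρ) * ψ) * Γ⁻¹ * (x * Γ) * Γ⁻¹ * x⁻¹ := by rw [e2, h1]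
        _ = (vv 0 (z * ρ) * ψ) * Γ * Γ⁻¹ * (x * Γ) * Γ⁻¹ * x⁻¹ := by rw [h2]
        _ = vv 0 (z * ρ) * ψ := by group
        _ = _ := by rw [e2]
    rw [e1] at h3
    rw [← h3]
    group
  -- `z ρ = 0`
  have hρ0 : ρ = 0 := by
    obtain ⟨ψ, hψ, e2⟩ := hρ 0 1
    obtain ⟨ψ', hψ', e3⟩ := hρ (a * 0) (a * 1)
    have h1 := key 0 1
    rw [e2, e3] at h1
    have h2 : t a * (vv 0 (1 * ρ) * ψ) * (t a)⁻¹ = vv 0 (a⁻¹ * (1 * ρ)) * ψ := by
      have h3 := mem_centralizer_iff.1 (Psi_le_CenX hψ) (t a) (τ.memX a ha)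
      have h4 := τ.act a 0 (1 * ρ) ha
      rw [mul_zero] at h4
      calc t a * (vv 0 (1 * ρ) * ψ) * (t a)⁻¹ = (t a * vv 0 (1 * ρ) * (t a)⁻¹) * (t a * ψ) * (t a)⁻¹ := by group
        _ = _ := by rw [h4, h3]; group
    rw [h2] at h1
    obtain ⟨-, h5, -⟩ := coord_unique b.toBT τ (Psi_le_CenX hψ') (Psi_le_CenX hψ) h1
    have h6 : (a * a - 1) * ρ = 0 := by
      have h7 : a * (a * 1 * ρ) = a * (a⁻¹ * (1 * ρ)) := by rw [h5]
      rw [mul_inv_cancel_left₀ ha] at h7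
      linear_combination h7
    exact (mul_eq_zero.1 h6).resolve_left (sub_ne_zero.2 (mul_self_ne_one b.toBT τ ha1))
  -- `[W, x]` is additive in `x`
  have hz : ∀ y z, W * (p' * vv (a * y) (a * z) * p'⁻¹) * W⁻¹ * (p' * vv (a * y) (a * z) * p'⁻¹)⁻¹ =
      W * (p' * vv y z * p'⁻¹) * W⁻¹ * (p' * vv y z * p'⁻¹)⁻¹ := by
    intro y z
    obtain ⟨ψ, hψ, e2⟩ := hρ y z
    rw [key, e2, hρ0, mul_zero, v_zero τ, one_mul]
    have h3 := mem_centralizer_iff.1 (Psi_le_CenX hψ) (t a) (τ.memX a ha)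
    rw [h3, mul_inv_cancel_right]
  intro x hx
  obtain ⟨y, z, rfl⟩ := (s.mem_line τ).1 hx
  set y0 := (a - 1)⁻¹ * y with hy0
  set z0 := (a - 1)⁻¹ * z with hz0
  have e3 : p' * vv (a * y0) (a * z0) * p'⁻¹ = (p' * vv y z * p'⁻¹) * (p' * vv y0 z0 * p'⁻¹) := by
    rw [← s.line_add τ]
    have e4 : y + y0 = a * y0 := by
      rw [hy0]
      have : (a - 1) * ((a - 1)⁻¹ * y) = y := mul_inv_cancel_left₀ ha1' y
      linear_combination -this
    have e5 : z + z0 = a * z0 := by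
      rw [hz0]
      have : (a - 1) * ((a - 1)⁻¹ * z) = z := mul_inv_cancel_left₀ ha1' z
      linear_combination -this
    rw [e4, e5]
  have h1 := hz y0 z0
  rw [e3] at h1
  obtain ⟨ψ, hψ, e2⟩ := hρ y0 z0
  rw [hρ0, mul_zero, v_zero τ, one_mul] at e2
  set x := p' * vv y z * p'⁻¹ with hx0
  set x0 := p' * vv y0 z0 * p'⁻¹ with hx1
  have h2 : W * (x * x0) * W⁻¹ * (x * x0)⁻¹ = (W * x * W⁻¹ * x⁻¹) * (W * x0 * W⁻¹ * x0⁻¹) := by
    have h3 := s.WN_comm b (line_le_WN s.mem hx) hψ.1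
    calc W * (x * x0) * W⁻¹ * (x * x0)⁻¹ = (W * x * W⁻¹ * x⁻¹) * (x * (W * x0 * W⁻¹ * x0⁻¹)) * x⁻¹ := by group
      _ = (W * x * W⁻¹ * x⁻¹) * (x * ψ) * x⁻¹ := by rw [e2]
      _ = (W * x * W⁻¹ * x⁻¹) * (ψ * x) * x⁻¹ := by rw [h3]
      _ = _ := by rw [e2]; group
  rw [h2] at h1
  have h3 : W * x * W⁻¹ * x⁻¹ = 1 := mul_eq_right.1 h1
  exact mul_inv_eq_iff_eq_mul.1 (mul_inv_eq_one.1 h3)

/-- an element of `W0` which centralises `V_2'` centralises `Sh` -/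
theorem W0_cen_Sh [Finite G] (c : Coord V R i j vv w1 w2) (hXV : XX V R ⊓ centralizer (V : Set G) ≤ YY V R)
    (L : SigL V R i j P) {w : G} (hw : w ∈ W0 V R i P)
    (h : ∀ x ∈ cj p' V, (m * w * m⁻¹) * x = x * (m * w * m⁻¹)) : w ∈ centralizer (Sh V R P : Set G) := by
  have hwW : w ∈ WW V (R i) := hw.1
  have hy : ∀ x ∈ cj p' V, w * (m⁻¹ * x * m) = (m⁻¹ * x * m) * w := by
    intro x hx
    calc w * (m⁻¹ * x * m) = m⁻¹ * ((m * w * m⁻¹) * x) * m := by group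
      _ = m⁻¹ * (x * (m * w * m⁻¹)) * m := by rw [h x hx]
      _ = _ := by group
  have h0 : S0 V R P ≤ centralizer {w} := by
    refine s.S0_le b τ sw c hXV ?_ ?_
    · intro x hx
      rw [mem_centralizer_singleton_iff]
      exact (W0_comm hw hx).symm
    · intro g hg x hx
      rw [mem_centralizer_singleton_iff]
      set y := m⁻¹ * x * m with hyd
      have hyU : y ∈ UU V R j := conj_U' b sw (s.leU hx)
      set r := g⁻¹ * w * g⁻¹⁻¹ * w⁻¹ with hr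
      have hrR : r ∈ R i := b.WW_comm i (inv_mem hg) hwW
      have h2 : r * y = y * r := mem_centralizer_iff.1 (UU_le_cen j hyU) r (b.R_le i hrR)
      have h3 := hy x hx
      rw [← hyd] at h3
      have e : w * g = g * (r * w) := by rw [hr]; group
      calc g * y * g⁻¹ * w = g * y * (g⁻¹ * (w * g)) * g⁻¹ := by group
        _ = g * (y * r) * w * g⁻¹ := by rw [e]; group
        _ = g * r * (y * w) * g⁻¹ := by rw [← h2]; group
        _ = (g * (r * w)) * y * g⁻¹ := by rw [← h3]; group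
        _ = w * (g * y * g⁻¹) := by rw [← e]; group
  rw [mem_centralizer_iff]
  intro x hx
  obtain ⟨σ, hσ, k, hk, rfl⟩ := L.Sh_fact hx
  have h1 := mem_centralizer_singleton_iff.1 (h0 hσ)
  have h2 := mem_centralizer_iff.1 hk.2 w (W_le_X V R i hwW)
  calc σ * k * w = σ * (k * w) := by group
    _ = (σ * w) * k := by rw [← h2]; group
    _ = _ := by rw [h1]; group

/-- **every element of `W0` is `[t a, w']` modulo the centraliser of `Sh`** -/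
theorem exists_W0 [Finite G] (c : Coord V R i j vv w1 w2) (hXV : XX V R ⊓ centralizer (V : Set G) ≤ YY V R)
    (L : SigL V R i j P) (lin : Lin V R i P vv m p')
    (linJ : ∀ w ∈ W0 V R i P, ∃ ρ : F, ∀ y z r s', KX V R P vv m w (p' * vv y z * p'⁻¹) r s' → s' = z * ρ)
    {a : F} (ha : a ≠ 0) (ha1 : a ≠ 1) {w : G} (hw : w ∈ W0 V R i P) :
    ∃ w' ∈ W0 V R i P, (t a * w' * (t a)⁻¹ * w'⁻¹)⁻¹ * w ∈ WW V (R i) ∧
      (t a * w' * (t a)⁻¹ * w'⁻¹)⁻¹ * w ∈ centralizer (Sh V R P : Set G) := by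
  set K : Subgroup G := W0 V R i P ⊓ centralizer ((cj m⁻¹ (cj p' V) : Subgroup G) : Set G) with hK
  have hKm : ∀ {g : G}, g ∈ W0 V R i P → (g ∈ K ↔ ∀ x ∈ cj p' V, (m * g * m⁻¹) * x = x * (m * g * m⁻¹)) := by
    intro g hg
    rw [hK, mem_inf, mem_centralizer_iff]
    constructor
    · rintro ⟨-, h⟩ x hx
      have h1 := h (m⁻¹ * x * m) (by
        have h2 := conj_mem_cj (g := m⁻¹) hx
        rwa [inv_inv] at h2)
      calc (m * g * m⁻¹) * x = m * (g * (m⁻¹ * x * m)) * m⁻¹ := by group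
        _ = m * ((m⁻¹ * x * m) * g) * m⁻¹ := by rw [h1]
        _ = _ := by group
    · intro h
      refine ⟨hg, fun y hy => ?_⟩
      have h1 : m * y * m⁻¹ ∈ cj p' V := by
        have h2 := mem_cj.1 hy
        rwa [inv_inv] at h2
      have h2 := h _ h1
      calc y * g = m⁻¹ * ((m * y * m⁻¹) * (m * g * m⁻¹)) * m := by group
        _ = m⁻¹ * ((m * g * m⁻¹) * (m * y * m⁻¹)) * m := by rw [h2]
        _ = _ := by group
  have htW0 : t a ∈ normalizer (W0 V R i P : Set G) := by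
    have h1 := cj_eq_self_iff.2 (normalizer_le_WW V (R i) (τ.normR ha))
    have h2 := cj_eq_self_iff.2 (normalizer_le_normalizer_centralizer _ (s.t_norm_WN b τ ha))
    rw [← cj_eq_self_iff]
    change cj (t a) (WW V (R i) ⊓ centralizer (WN V P : Set G)) = WW V (R i) ⊓ centralizer (WN V P : Set G)
    rw [cj_inf, h1, h2]
  have htL : cj (t a) (cj m⁻¹ (cj p' V)) = cj m⁻¹ (cj p' V) := by
    have e2 : t a * m⁻¹ = m⁻¹ * (t a)⁻¹ := by
      have h1 := sw.mt a ha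
      calc t a * m⁻¹ = m⁻¹ * (m * t a * m⁻¹) := by group
        _ = _ := by rw [h1]
    rw [← cj_mul, e2, cj_mul]
    congr 1
    have h1 := s.t_line b τ (inv_ne_zero ha)
    rwa [τ.inv ha] at h1
  have htK : t a ∈ normalizer (K : Set G) := by
    rw [← cj_eq_self_iff, hK, cj_inf, cj_eq_self_iff.2 htW0, ← centralizer_cj, htL]
  have hRK : R i ≤ K := by
    refine le_inf (le_inf (b.R_le_W i i) ?_) ?_
    · intro r hr
      rw [mem_centralizer_iff]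
      intro x hx
      exact (mem_centralizer_iff.1 (UU_le_cen i (s.WN_le_U b hx)) r (b.R_le i hr)).symm
    · intro r hr
      rw [mem_centralizer_iff]
      intro y hy
      have h2 := mem_cj.1 hy
      rw [inv_inv] at h2
      have h3 := conj_U' b sw (s.leU h2)
      have e : m⁻¹ * (m * y * m⁻¹) * m = y := by group
      rw [e] at h3
      exact (mem_centralizer_iff.1 (UU_le_cen j h3) r (b.R_le i hr)).symm
  obtain ⟨w', hw', h1⟩ := exists_comm_mod (Q := W0 V R i P) (N := K) (x := t a) htW0 htK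
    (fun u hu v hv => hRK (b.WW_comm i hu.1 hv.1)) inf_le_left
    (fun u hu h => (hKm hu).2 (s.tor_fix b τ sw lin linJ ha ha1 hu
      ((hKm (mul_mem (BTwo.conj_mem_of_normalizer htW0 hu) (inv_mem hu))).1 h))) hw
  exact ⟨w', hw', h1.1.1, s.W0_cen_Sh b τ sw c hXV L h1.1 ((hKm h1.1).1 h1)⟩

end Sc

end Cfsg.Agent.Omega.HOneQ

end
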