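import Cfsg.Agent.Mrg.Omega.BTwo.Split


/-!
# II.0h1, split case, all `q`: #12896 (5), (7)

`B_i = C(W i)`, `C_X = C(X)`, `Q_i = O₂(N(R i))`, `I = Q_1 ∩ Q_2 = ⋂ Q_i` (`CC R`).

* `comm_cen` : `[B_i, B_j] ≤ C_X`;
* `comm_hat` : `[B_i, C_{Q_j}(V)] ≤ R_i × C_X`;
* `comm_I` **(7)** : `[b, x] = a⁻¹ d` with `a ∈ R_i`, `d ∈ C_X` for `b ∈ B_i`, `x ∈ I`;
* `comm_I_conj` **(7)** : then `[u, x] = [v, a⁻¹]` for `v ∈ W_j`, `u = b⁻¹ b^v`;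
* `comm_u_eq_one` : `[u, x] = 1` if `[b, x] = 1`;
* `hat_fact` : `C_{Q_i}(V) = I · U_i`.
-/

set_option autoImplicit false

namespace Cfsg.Agent.Omega.HOneQ

open Subgroup Cfsg.Agent.Omega.BTwo

variable {G : Type*} [Group G] {ι : Type*} {V : Subgroup G} {R : ι → Subgroup G}

/-- `[B_i, B_j] ≤ C_X` -/
theorem comm_cen (b : BT V R) {i j : ι} (hij : i ≠ j) {c c' : G} (hc : c ∈ centralizer (WW V (R i) : Set G))
    (hc' : c' ∈ centralizer (WW V (R j) : Set G)) : c * c' * c⁻¹ * c'⁻¹ ∈ CenX V R := by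
  have n1 := normalizer_le_normalizer_centralizer _ (b.cen_le_NW j (cen_W_le V (R i) hc))
  have n2 := normalizer_le_normalizer_centralizer _ (b.cen_le_NW i (cen_W_le V (R j) hc'))
  have h1 : c * c' * c⁻¹ * c'⁻¹ ∈ centralizer (WW V (R j) : Set G) :=
    mul_mem (conj_mem_of_normalizer n1 hc') (inv_mem hc')
  have h2 : c * c' * c⁻¹ * c'⁻¹ ∈ centralizer (WW V (R i) : Set G) := by
    have e : c * c' * c⁻¹ * c'⁻¹ = c * (c' * c⁻¹ * c'⁻¹) := by group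
    rw [e]
    exact mul_mem hc (conj_mem_of_normalizer n2 (inv_mem hc))
  exact b.mem_cen_X hij h2 h1

/-- `C_{Q_i}(V) = I · U_i` -/
theorem hat_fact [Finite G] (b : BTS V R) {i : ι} {g : G} (hg : g ∈ QQ (R i))
    (hgV : g ∈ centralizer (V : Set G)) : ∃ x ∈ CC R, ∃ u ∈ UU V R i, x * u = g := by
  obtain ⟨x, hx, w, hw, e⟩ := b.Q_fact_W hg
  refine ⟨x, hx, w, mem_inf.2 ⟨hw, ?_⟩, e⟩
  have h1 : w = x⁻¹ * g := by rw [← e]; group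
  rw [h1]
  exact mul_mem (inv_mem (b.C_le_cen hx)) hgV

variable [Finite G] (b : BTS V R)
include b

/-- `[B_i, C_{Q_j}(V)] ≤ R_i × C_X` -/
theorem comm_hat {i j : ι} (hij : i ≠ j) {c u : G} (hc : c ∈ centralizer (WW V (R i) : Set G))
    (hu : u ∈ QQ (R j)) (huV : u ∈ centralizer (V : Set G)) :
    ∃ a ∈ R i, a * (c * u * c⁻¹ * u⁻¹) ∈ CenX V R := by
  refine b.cen_W_Q hij ?_ ?_
  · have h1 := normalizer_le_normalizer_centralizer _ (b.cen_le_NW i huV)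
    have e : c * u * c⁻¹ * u⁻¹ = c * (u * c⁻¹ * u⁻¹) := by group
    rw [e]
    exact mul_mem hc (conj_mem_of_normalizer h1 (inv_mem hc))
  · exact mul_mem (conj_mem_of_normalizer (le_normalizer_O2 _ (b.cen_W_le_N i j hc)) hu) (inv_mem hu)

/-- **(7)**, first part: `[b, x] ∈ R_i × C_X` for `b ∈ B_i`, `x ∈ I` -/
theorem comm_I {i : ι} {c x : G} (hc : c ∈ centralizer (WW V (R i) : Set G)) (hx : x ∈ CC R) :
    ∃ a ∈ R i, a * (c * x * c⁻¹ * x⁻¹) ∈ CenX V R := by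
  obtain ⟨j, hj, -⟩ := b.third i i
  exact comm_hat b hj.symm hc (mem_iInf.1 hx j) (b.C_le_cen hx)

omit [Finite G] in
/-- **(7)**, second part: `[u, x] = [v, a⁻¹]`, `u = b⁻¹ b^v` -/
theorem comm_I_conj {i j : ι} {c x v a : G} (hc : c ∈ centralizer (WW V (R i) : Set G))
    (hx : x ∈ CC R) (hv : v ∈ WW V (R j)) (h : a * (c * x * c⁻¹ * x⁻¹) ∈ CenX V R) :
    (c⁻¹ * (v * c * v⁻¹)) * x * (c⁻¹ * (v * c * v⁻¹))⁻¹ * x⁻¹ = v * a⁻¹ * v⁻¹ * a := by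
  have hcV := cen_W_le V (R i) hc
  set u := c⁻¹ * (v * c * v⁻¹) with hu
  -- `u ∈ U_j`
  have huU : u ∈ UU V R j := by
    have h1 := b.cen_W_W (inv_mem hc) hv
    have e : u = c⁻¹ * v * c⁻¹⁻¹ * v⁻¹ := by rw [hu]; group
    rw [e]
    exact h1
  have hxj : x ∈ QQ (R j) := mem_iInf.1 hx j
  -- `x^v = x s`
  set s := x⁻¹ * (v * x * v⁻¹) with hs
  have hsR : s ∈ R j := by
    have h1 := b.WQ j (inv_mem hxj) hv
    have e : s = x⁻¹ * v * x⁻¹⁻¹ * v⁻¹ := by rw [hs]; group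
    rw [e]
    exact h1
  have hsV := b.R_le j hsR
  have c1 : s * c = c * s := mem_centralizer_iff.1 hcV s hsV
  have c2 : s * u = u * s := mem_centralizer_iff.1 (UU_le_cen j huU) s hsV
  -- `v [c, x] v⁻¹ = [c u, x s] = [u, x] [c, x]`
  have e1 : v * (c * x * c⁻¹ * x⁻¹) * v⁻¹ = (c * u) * (x * s) * (c * u)⁻¹ * (x * s)⁻¹ := by
    rw [hu, hs]; group
  have hux : u * x * u⁻¹ * x⁻¹ ∈ R j := by
    have h1 := b.WQ j hxj (UU_le_WW j huU)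
    have e : u * x * u⁻¹ * x⁻¹ = (x * u * x⁻¹ * u⁻¹)⁻¹ := by group
    rw [e]
    exact inv_mem h1
  have c3 := mem_centralizer_iff.1 hcV _ (b.R_le j hux)
  have e2 : (c * u) * (x * s) * (c * u)⁻¹ * (x * s)⁻¹ =
      (u * x * u⁻¹ * x⁻¹) * (c * x * c⁻¹ * x⁻¹) := by
    have c4 : (c * u) * s = s * (c * u) := by rw [mul_assoc, ← c2, ← mul_assoc, ← c1, mul_assoc]
    have c5 : s * (c * u)⁻¹ = (c * u)⁻¹ * s := by
      calc s * (c * u)⁻¹ = (c * u)⁻¹ * ((c * u) * s) * (c * u)⁻¹ := by group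
        _ = (c * u)⁻¹ * (s * (c * u)) * (c * u)⁻¹ := by rw [c4]
        _ = _ := by group
    calc (c * u) * (x * s) * (c * u)⁻¹ * (x * s)⁻¹
        = (c * u) * x * (s * (c * u)⁻¹) * s⁻¹ * x⁻¹ := by group
      _ = (c * u) * x * ((c * u)⁻¹ * s) * s⁻¹ * x⁻¹ := by rw [c5]
      _ = c * (u * x * u⁻¹ * x⁻¹) * x * c⁻¹ * x⁻¹ := by group
      _ = (u * x * u⁻¹ * x⁻¹) * c * x * c⁻¹ * x⁻¹ := by rw [← c3]
      _ = _ := by group
  -- `v` centralises `a [c, x]`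
  have c6 : v * (a * (c * x * c⁻¹ * x⁻¹)) = a * (c * x * c⁻¹ * x⁻¹) * v :=
    mem_centralizer_iff.1 h v (W_le_X V R j hv)
  rw [e2] at e1
  set k := c * x * c⁻¹ * x⁻¹ with hk
  have e3 : u * x * u⁻¹ * x⁻¹ = v * k * v⁻¹ * k⁻¹ := by rw [e1]; group
  rw [e3]
  calc v * k * v⁻¹ * k⁻¹ = v * a⁻¹ * v⁻¹ * (v * (a * k)) * v⁻¹ * k⁻¹ := by group
    _ = v * a⁻¹ * v⁻¹ * (a * k * v) * v⁻¹ * k⁻¹ := by rw [c6]
    _ = v * a⁻¹ * v⁻¹ * a := by group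

/-- if `b ∈ B_i` commutes with `x ∈ I`, then so does `u = b⁻¹ b^v` -/
theorem comm_u_eq_one {i j : ι} {c x v : G} (hc : c ∈ centralizer (WW V (R i) : Set G))
    (hx : x ∈ CC R) (hv : v ∈ WW V (R j)) (h : c * x = x * c) :
    (c⁻¹ * (v * c * v⁻¹)) * x = x * (c⁻¹ * (v * c * v⁻¹)) := by
  have h1 : (1 : G) * (c * x * c⁻¹ * x⁻¹) ∈ CenX V R := by
    have e : (1 : G) * (c * x * c⁻¹ * x⁻¹) = 1 := by rw [h]; group
    rw [e]; exact one_mem _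
  have h2 := comm_I_conj b hc hx hv h1
  rw [inv_one, mul_one, mul_one, mul_inv_cancel] at h2
  rwa [mul_inv_eq_one, mul_inv_eq_iff_eq_mul] at h2

end Cfsg.Agent.Omega.HOneQ
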