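import Cfsg.Agent.Mrg.Omega.HOneQ.OneNode
import Cfsg.Agent.Mrg.Omega.Lie.End.Gam


/-!
# II.0h1, split, `q ≥ 4`: there is no node of type `(γ)` (#17641 (5))

* `reg_of_gam` : a node of type `(γ)` is regular (BT version of helper988's `hreg_of_gam`);
* **`not_gamT`** : with helper678's `uniq_of_reg`, `false_of_unique`.
-/

set_option autoImplicit false
set_option linter.unusedSectionVars false

namespace Cfsg.Agent.Omega.HOneQ.GamH

open Subgroup Cfsg Cfsg.Agent.ParSys Cfsg.Agent.Omega.BTwo Cfsg.Agent.Omega.Lie Cfsg.Agent.Omega.Lie.Quot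
open Cfsg.Agent.Omega.IIa4 Cfsg.Agent.Omega.Lie.End.OfLay Cfsg.Agent.Omega.Lie.End
open Cfsg.Agent.Omega.HOne Cfsg.Agent.Omega.HOne.ModZ

universe u v w

variable {G : Type u} [Group G] {ι : Type w} {V : Subgroup G} {R : ι → Subgroup G} {i j : ι} {F : Type v} [Field F]
  {v : F → F → G} {w1 w2 t : F → G}

/-- `pr x ∈ im N(V)` iff `x ∈ N(V)` -/
theorem mem_E0 (b : BT V R) {x : G} (hx : x ∈ normalizer (R i : Set G)) :
    pr (R i) ⟨x, hx⟩ ∈ im (R i) (normalizer (V : Set G)) ↔ x ∈ normalizer (V : Set G) :=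
  pr_mem_im_iff (b.Q_le_NV i) hx

/-- **type `(γ)` is regular** -/
theorem reg_of_gam (b : BT V R) (c : Coord V R i j v w1 w2)
    {S' B' P' : Subgroup (HQ (R i))} (hptr : Hall.HallData.PTr B' S' P')
    (hS : S' ≤ im (R i) (normalizer (V : Set G))) (hB : B' ≤ im (R i) (normalizer (V : Set G))) {p : G}
    (hp : p ∈ normalizer (R i : Set G)) (hpP : pr (R i) ⟨p, hp⟩ ∈ P')
    (hpV : ∃ x ∈ V, ∃ y ∈ V, p * x * p⁻¹ * y ≠ y * (p * x * p⁻¹)) {u g : G} (hu : u ∈ UU V R j)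
    (hg : g ∈ normalizer (R i : Set G)) (hgP : pr (R i) ⟨g, hg⟩ ∈ P') (hgV : g ∉ normalizer (V : Set G))
    (hug : g⁻¹ * u * g ∈ normalizer (V : Set G)) : u ∈ DD V R := by
  have hpE : pr (R i) ⟨p, hp⟩ ∉ im (R i) (normalizer (V : Set G)) := by
    rw [mem_E0 b]
    intro h
    obtain ⟨x, hx, y, hy, hxy⟩ := hpV
    exact hxy (b.V_comm _ (BTwo.conj_mem_of_normalizer h hx) y hy)
  have hgE : pr (R i) ⟨g, hg⟩ ∉ im (R i) (normalizer (V : Set G)) := by rwa [mem_E0 b]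
  obtain ⟨s, hs, d, hd, hsd⟩ := hptr _ hpP (fun h => hpE (hB h)) _ hgP (fun h => hgE (hB h))
  obtain ⟨s, hsN, rfl⟩ := exists_pr s
  obtain ⟨d, hdN, rfl⟩ := exists_pr d
  have hsV := (mem_E0 b hsN).1 (hS hs)
  have hdV := (mem_E0 b hdN).1 (hB hd)
  have hgN : s * p * d ∈ normalizer (R i : Set G) := mul_mem (mul_mem hsN hp) hdN
  -- `g = s p d q`, `q ∈ Q_i ≤ N(V)`
  have h0 : (s * p * d)⁻¹ * g ∈ normalizer (V : Set G) := by
    have h1 : pr (R i) ⟨s * p * d, hgN⟩ = pr (R i) ⟨g, hg⟩ := hsd.symm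
    exact b.Q_le_NV i ((pr_eq_pr hgN hg).1 h1)
  have h1 : (s * p * d)⁻¹ * u * (s * p * d) ∈ normalizer (V : Set G) := by
    have h2 := mul_mem (mul_mem h0 hug) (inv_mem h0)
    have e : (s * p * d)⁻¹ * g * (g⁻¹ * u * g) * ((s * p * d)⁻¹ * g)⁻¹ = (s * p * d)⁻¹ * u * (s * p * d) := by group
    rwa [e] at h2
  refine GamOf.mem_D_of_norm b c hgN ?_ hu h1
  obtain ⟨x, hx, y, hy, hxy⟩ := hpV
  have hd' := BTwo.conj_mem_of_normalizer (inv_mem hdV) hx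
  rw [inv_inv] at hd'
  refine ⟨d⁻¹ * x * d, hd', s * y * s⁻¹, BTwo.conj_mem_of_normalizer hsV hy, fun h3 => hxy ?_⟩
  have e1 : s * p * d * (d⁻¹ * x * d) * (s * p * d)⁻¹ * (s * y * s⁻¹) = s * (p * x * p⁻¹ * y) * s⁻¹ := by group
  have e2 : s * y * s⁻¹ * (s * p * d * (d⁻¹ * x * d) * (s * p * d)⁻¹) = s * (y * (p * x * p⁻¹)) * s⁻¹ := by group
  rw [e1, e2] at h3
  exact mul_left_cancel (mul_right_cancel h3)

variable {S : Subgroup (HQ (R i))} {α : Type} {K : α → Subgroup (HQ (R i))} {J : α → Type}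
  {P : ∀ a, J a → Subgroup (K a)} {m : ∀ a, J a → J a → ℕ}

/-- **No node of type `(γ)`** -/
theorem not_gamT [Finite G] [Finite α] [Finite F] [CharP F 2] (b : BTS V R) (c : Coord V R i j v w1 w2)
    (τ : TorD V R i j v t) (h4 : 4 ≤ Nat.card F) (hF : ∃ a : F, a ≠ 0 ∧ a ≠ 1)
    (hodd : Odd ((normalizer (V : Set G)).relIndex (normalizer (R i : Set G))))
    (hz : ∃ z ∈ ZZ V R j, z ∉ DD V R) (D : RS V R i j (TT τ) S K J P m) (hone : ∀ a, OneL (K a) (J a))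
    (hNV : ∀ (g : G) (hg : g ∈ normalizer (R i : Set G)),
      pr (R i) ⟨g, hg⟩ ∈ normalizer (AA V R i j : Set (HQ (R i))) → g ∈ normalizer (V : Set G))
    (x : Σ a, J a) : ¬ GamT V (PG K (TT τ) S P x) := by
  intro hg
  have hij : i ≠ j := c.ne
  have hNV' : ∀ g (hg : g ∈ normalizer (R i : Set G)),
      (∀ a ∈ AA V R i j, pr (R i) ⟨g, hg⟩ * a * (pr (R i) ⟨g, hg⟩)⁻¹ ∈ AA V R i j) →
        g ∈ normalizer (V : Set G) := fun g hg h => hNV g hg (mem_normalizer_of_conj fun a ha => h a ha)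
  obtain ⟨p, hp, hpV⟩ := hg
  obtain ⟨hpN, hpP⟩ := mem_up.1 hp
  have hCE := D.CC_le_E0 hNV
  have hpre := D.psit.pre
  have hx : ¬ PG K (TT τ) S P x ≤ normalizer (V : Set G) := by
    intro h
    obtain ⟨y, hy, z, hz, hne⟩ := hpV
    exact hne (b.V_comm _ (BTwo.conj_mem_of_normalizer (h hp) hy) z hz)
  have huniq := OneNode.uniq_of_reg b.toBT τ hij h4 D hNV' x hx fun u hu g hg hgV hug => by
    obtain ⟨hgN, hgP⟩ := mem_up.1 hg
    exact reg_of_gam b.toBT c (hpre.ptr x) ((hpre.U_le).trans hCE) hCE hpN hpP hpV hu hgN hgP hgV hug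
  obtain ⟨M, _, _, p, mz⟩ := exists_MZ b.toBT i
  obtain ⟨_, f, e, ω, σ, κ, q⟩ := mz.exists_fq hF b.toBT c τ
  obtain ⟨N, _, _, P1, P2, y⟩ := c.exists_yPair b.toBT
  exact OneNode.false_of_unique q b c τ y hF h4 hodd hz D hone hNV' huniq

end Cfsg.Agent.Omega.HOneQ.GamH
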