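import Cfsg.Agent.Mrg.Omega.Lie.Nodes.FratRes
import Cfsg.Agent.Mrg.Omega.HOneQ.ResK
import Cfsg.Agent.Mrg.Omega.Lie.Nodes.NodeCard

section


/-!
# II.0h1, split, `q ≥ 4`: the torus on the lines of a node (o1), (o2); the double perp (o5), linearity (o6) (#15939)
-/

set_option autoImplicit false
set_option linter.unusedSectionVars false

namespace Cfsg.Agent.Omega.HOneQ.NodeQ

open Subgroup Cfsg.Agent.Omega.BTwo Cfsg.Agent.Omega.Lie Cfsg.Agent.Omega.Lie.Quot Cfsg.Agent.Omega.HOne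
  Cfsg.Agent.Omega.HOne.ModZ Cfsg.Agent.Omega.Lie.Nodes

universe u v w

variable {G : Type u} [Group G] {ι : Type w} {V : Subgroup G} {R : ι → Subgroup G} {i j : ι}
  {F : Type v} [Field F] {v : F → F → G} {w1 w2 t : F → G}
  {M : Type u} [AddCommGroup M] [Module F M] [DistribMulAction (HQ (R i)) M] {p : G → M}
  {f : M →ₗ[F] M →ₗ[F] F} {e : F →ₗ[F] M} {ω : M →ₗ[F] F} {σ : HQ (R i) →* RingAut F} {κ : HQ (R i) → F}
  [Finite G] [Finite F] [CharP F 2] {P : Subgroup G}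

variable (q : Fq V R i v M p f e ω σ κ) (c : Coord V R i j v w1 w2) (b : BTS V R) (τ : TorD V R i j v t)
  (nd : Nd V R i j P) (tP : ∀ a, a ≠ 0 → t a ∈ normalizer (P : Set G))
include q c

theorem t_line_eq {x : G} (hx : x ∈ normalizer (R i : Set G)) (a : Fˣ) (m : M)
    (hN : t a * x * (t a)⁻¹ ∈ normalizer (R i : Set G)) :
    π R i hN • m = tQ τ a • (π R i hx • ((tQ τ a)⁻¹ • m)) := by
  have _ := q
  have _ := c
  rw [← mul_smul, ← mul_smul]
  congr 1

include b tP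

theorem t_line {x : G} (hx : x ∈ P) {a : Fˣ} {χ : F}
    (h : tQ τ a • (π R i (nd.P_le_N hx) • e 1) = χ • (π R i (nd.P_le_N hx) • e 1)) :
    cj (t a * x * (t a)⁻¹) V = cj x V := by
  have hx1 : t a * x * (t a)⁻¹ ∈ P := conj_mem_of_normalizer (tP a a.ne_zero) hx
  refine (line_iff q c b nd hx1 hx).2 ⟨a * χ, ?_⟩
  have h1 : (tQ τ a)⁻¹ • e 1 = (a : F) • e 1 := by
    have h2 : tQ τ a • ((a : F) • e 1) = (a : F) • (tQ τ a • e 1) := q.t_smul c τ a a _
    have h3 : tQ τ a • e 1 = (a : F)⁻¹ • e 1 := q.t_e c τ a 1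
    rw [inv_smul_eq_iff, h2, h3, smul_inv_smul₀ a.ne_zero]
  rw [t_line_eq q c τ (nd.P_le_N hx) a, h1, cen_smul q c (nd.PR hx), mul_smul, ← h]
  exact q.t_smul c τ a a _

theorem t_cj {x : G} (hx : x ∈ P) {a : Fˣ} {χ : F}
    (h : tQ τ a • (π R i (nd.P_le_N hx) • e 1) = χ • (π R i (nd.P_le_N hx) • e 1)) :
    cj (t a) (cj x V) = cj x V := by
  have h1 := t_line q c b τ nd tP hx h
  have h2 : cj (t a) V = V := cj_eq_self_iff.2 (b.X_le_NV (τ.memX a a.ne_zero))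
  calc cj (t a) (cj x V) = cj (t a * x * (t a)⁻¹) (cj (t a) V) := by
        rw [← cj_mul, ← cj_mul]
        congr 1
        group
    _ = cj x V := by rw [h2, h1]

omit b tP in
theorem pxe_ne (b : BTS V R) {x : G} (hx : x ∈ normalizer (R i : Set G)) : π R i hx • e 1 ≠ 0 := by
  intro h0
  apply e1_ne q c b.toBT
  rw [← inv_smul_smul (π R i hx) (e 1), h0, smul_zero]

omit b tP in
theorem mem_UU_of {x : G} (hx : x ∈ P) (h0 : ω (π R i (nd.P_le_N hx) • e 1) = 0) : cj x V ≤ UU V R i := by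
  intro z hz
  rw [← q.mem_P c (nd.line_le hx hz)]
  obtain ⟨β, γ, h2⟩ := (c.mem_V _).1 (mem_cj.1 hz)
  have h3 : z = x * v β γ * x⁻¹ := by rw [h2]; group
  rw [h3, p_line q c (nd.PR hx) (nd.P_le_N hx), map_smul, h0, smul_zero]

/-- **(o2), types (beta), (sigma)** : the torus acts on the line `V^x` by scalars -/
theorem sc_of (hF : ∃ a : F, a ≠ 0 ∧ a ≠ 1) {x : G} (hx : x ∈ P) (hne : cj x V ≠ V)
    (h : ∀ a : Fˣ, tQ τ a • (π R i (nd.P_le_N hx) • e 1) = (a : F) • (π R i (nd.P_le_N hx) • e 1)) :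
    Sc V R i j v t P x := by
  have hne0 := pxe_ne q c b (nd.P_le_N hx)
  have h0 : ω (π R i (nd.P_le_N hx) • e 1) = 0 := by
    obtain ⟨a, ha0, ha1⟩ := hF
    have h1 := q.t_ω c τ (Units.mk0 a ha0) (π R i (nd.P_le_N hx) • e 1)
    have h2 : pr (R i) ⟨t ((Units.mk0 a ha0 : Fˣ) : F), τ.normR (Units.mk0 a ha0).ne_zero⟩ •
        (π R i (nd.P_le_N hx) • e 1) = a • (π R i (nd.P_le_N hx) • e 1) := h (Units.mk0 a ha0)
    rw [h2, map_smul, smul_eq_mul] at h1
    change a * _ = a ^ 2 * _ at h1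
    have h3 : (a * (a - 1)) * ω (π R i (nd.P_le_N hx) • e 1) = 0 := by linear_combination -h1
    exact (mul_eq_zero.1 h3).resolve_left (mul_ne_zero ha0 (sub_ne_zero.2 ha1))
  refine { toNd := nd, tP := tP, mem := hx, ne := hne, leU := mem_UU_of q c nd hx h0, sc := ?_ }
  intro a y z ha
  set a' : Fˣ := Units.mk0 a ha with ha'
  have hl := t_line q c b τ nd tP hx (h a')
  change cj (t a * x * (t a)⁻¹) V = cj x V at hl
  set k := x⁻¹ * (t a * x * (t a)⁻¹) with hk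
  have hkP : k ∈ P := mul_mem (inv_mem hx) (conj_mem_of_normalizer (tP a ha) hx)
  have hkV : k ∈ normalizer (V : Set G) := by
    rw [← cj_eq_self_iff, hk, cj_mul, hl, cj_inv_cj]
  obtain ⟨β, γ, hγ, hact⟩ := act_lin b.toBT c hkV (nd.PR hkP)
  have key : ∀ y z, t a * (x * v y z * x⁻¹) * (t a)⁻¹ = x * v (a * y + β * (a⁻¹ * z)) (γ * (a⁻¹ * z)) * x⁻¹ := by
    intro y z
    rw [← hact, ← τ.act a y z ha, hk]
    group
  have hγ' : γ * a⁻¹ = a := by
    have h1 := congrArg p (key 0 1)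
    have hW : x * v 0 1 * x⁻¹ ∈ WW V (R i) := nd.line_le hx (conj_mem_cj (c.v_mem 0 1))
    rw [p_line q c (nd.PR hx) (nd.P_le_N hx), ← q.p_act (t a) (τ.normR ha) _ hW,
      p_line q c (nd.PR hx) (nd.P_le_N hx), one_smul, mul_one] at h1
    have h2 : pr (R i) ⟨t a, τ.normR ha⟩ • (π R i (nd.P_le_N hx) • e 1) = a • (π R i (nd.P_le_N hx) • e 1) := h a'
    rw [h2] at h1
    have h3 : (a - γ * a⁻¹) • (π R i (nd.P_le_N hx) • e 1) = 0 := by rw [sub_smul, ← h1, sub_self]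
    exact (sub_eq_zero.1 ((smul_eq_zero.1 h3).resolve_right hne0)).symm
  set θ := β * a⁻¹ with hθ
  have key2 : ∀ y z, t a * (x * v y z * x⁻¹) * (t a)⁻¹ = x * v (a * y + θ * z) (a * z) * x⁻¹ := by
    intro y z
    rw [key, ← mul_assoc, ← mul_assoc, hγ']
  have hpow : ∀ m : ℕ, (t a) ^ m * (x * v 0 1 * x⁻¹) * ((t a) ^ m)⁻¹ =
      x * v ((m : F) * (a ^ m * (a⁻¹ * θ))) (a ^ m) * x⁻¹ := by
    intro m
    induction m with
    | zero => simp
    | succ m ih =>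
      have h1 : (t a) ^ (m + 1) * (x * v 0 1 * x⁻¹) * ((t a) ^ (m + 1))⁻¹ =
          t a * ((t a) ^ m * (x * v 0 1 * x⁻¹) * ((t a) ^ m)⁻¹) * (t a)⁻¹ := by
        rw [pow_succ']
        group
      rw [h1, ih, key2]
      congr 3
      · push_cast
        rw [pow_succ]
        linear_combination (-(a ^ m * θ)) * mul_inv_cancel₀ ha
      · ring
  have hθ0 : θ = 0 := by
    have h1 := hpow (orderOf (t a))
    rw [pow_orderOf_eq_one, one_mul, inv_one, mul_one] at h1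
    have h2 : v 0 1 = v (((orderOf (t a) : ℕ) : F) * (a ^ orderOf (t a) * (a⁻¹ * θ))) (a ^ orderOf (t a)) := by
      have h3 := congrArg (fun z => x⁻¹ * z * x) h1
      simpa [mul_assoc] using h3
    obtain ⟨h3, h4⟩ := c.v_inj h2
    have h5 : ((orderOf (t a) : ℕ) : F) = 1 := by
      obtain ⟨l, hl⟩ := τ.odd a ha
      rw [hl]
      push_cast
      rw [CharTwo.two_eq_zero, zero_mul, zero_add]
    rw [h5, ← h4, one_mul, one_mul] at h3
    exact (mul_eq_zero.1 h3.symm).resolve_left (inv_ne_zero ha)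
  rw [key2, hθ0, zero_mul, add_zero]

/-- **(o2), type (alpha)** -/
theorem alpha_le_D {N : Type u} [AddCommGroup N] [Module F N] {P1 P2 : G → N}
    (y : YPair V R i j w1 w2 N P1 P2) (hF : ∃ a : F, a ≠ 0 ∧ a ≠ 1) {x : G} (hx : x ∈ P)
    (h : ∀ a : Fˣ, tQ τ a • (π R i (nd.P_le_N hx) • e 1) = π R i (nd.P_le_N hx) • e 1) : cj x V ≤ DD V R := by
  obtain ⟨a, ha0, ha1⟩ := hF
  set a' : Fˣ := Units.mk0 a ha0 with ha'
  have h1' : tQ τ a' • (π R i (nd.P_le_N hx) • e 1) = (1 : F) • (π R i (nd.P_le_N hx) • e 1) := by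
    rw [h, one_smul]
  have hcj := t_cj q c b τ nd tP hx h1'
  have h0 : ω (π R i (nd.P_le_N hx) • e 1) = 0 := by
    have h1 := q.t_ω c τ a' (π R i (nd.P_le_N hx) • e 1)
    have h2 : pr (R i) ⟨t (a' : F), τ.normR a'.ne_zero⟩ • (π R i (nd.P_le_N hx) • e 1) =
      π R i (nd.P_le_N hx) • e 1 := h a'
    rw [h2] at h1
    change _ = a ^ 2 * _ at h1
    have h3 : ((a - 1) * (a - 1)) * ω (π R i (nd.P_le_N hx) • e 1) = 0 := by
      linear_combination -h1 - (a - 1) * ω (π R i (nd.P_le_N hx) • e 1) * (CharTwo.two_eq_zero (R := F))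
    exact (mul_eq_zero.1 h3).resolve_left (mul_ne_zero (sub_ne_zero.2 ha1) (sub_ne_zero.2 ha1))
  intro z hz
  have hzU := mem_UU_of q c nd hx h0 hz
  have hzW := nd.line_le hx hz
  have hz' : t a * z * (t a)⁻¹ ∈ cj x V := by
    rw [← hcj]
    exact conj_mem_cj hz
  have hcR : t a * z * (t a)⁻¹ * z⁻¹ ∈ R i := by
    refine nd.line_inf_Z b.toBT hx (mul_mem hz' (inv_mem hz)) ?_
    rw [← q.toMZ.p_ker _ (mul_mem (nd.line_le hx hz') (inv_mem hzW)),
      ← q.toMZ.smul_sub (τ.normR ha0) hzW]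
    obtain ⟨β, γ, h2⟩ := (c.mem_V _).1 (mem_cj.1 hz)
    have h3 : z = x * v β γ * x⁻¹ := by rw [h2]; group
    have h4 : pr (R i) ⟨t a, τ.normR ha0⟩ • (π R i (nd.P_le_N hx) • e 1) = π R i (nd.P_le_N hx) • e 1 := h a'
    rw [h3, p_line q c (nd.PR hx) (nd.P_le_N hx)]
    have h5 := q.t_smul c τ a' γ (π R i (nd.P_le_N hx) • e 1)
    change pr (R i) ⟨t a, τ.normR ha0⟩ • _ = γ • (pr (R i) ⟨t a, τ.normR ha0⟩ • _) at h5
    rw [h5, h4, sub_self]
  have hzY := UU_le_YY i hzU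
  have htzY : t a * z * (t a)⁻¹ ∈ YY V R := by
    have h6 := mul_mem (b.toBT.D_le_Y (V_le_D V R (b.toBT.R_le i hcR))) hzY
    rwa [inv_mul_cancel_right] at h6
  have h7 := (y.mem_D _ (b.toBT.D_le_Y (V_le_D V R (b.toBT.R_le i hcR)))).1 (V_le_D V R (b.toBT.R_le i hcR))
  rw [y.mul1 _ htzY _ (inv_mem hzY), y.inv1 hzY, (t_Y b.toBT c τ y ha0 hzY).1] at h7
  have h8 : (a - 1) • P1 z = 0 := by rw [sub_smul, one_smul, sub_eq_add_neg]; exact h7.1
  exact (y.mem_D z hzY).2 ⟨(smul_eq_zero.1 h8).resolve_left (sub_ne_zero.2 ha1), (y.mem_U1 z hzY).1 hzU⟩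

end Cfsg.Agent.Omega.HOneQ.NodeQ

end

section


/-!
# II.0h1, split, `q ≥ 4`: the node theorem (N) for a node `P` (#15939)

`NQ` : common part of types (beta), (sigma); `NSQ`, `NBQ`, `NAQ`, `NGQ`; **`node_q`**.
-/

set_option autoImplicit false
set_option linter.unusedSectionVars false

namespace Cfsg.Agent.Omega.HOneQ.NodeQ

open Subgroup Cfsg.Agent.Omega.BTwo Cfsg.Agent.Omega.Lie Cfsg.Agent.Omega.Lie.Quot Cfsg.Agent.Omega.HOne
  Cfsg.Agent.Omega.HOne.ModZ Cfsg.Agent.Omega.Lie.Nodes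

universe u v w

variable {G : Type u} [Group G] {ι : Type w} {V : Subgroup G} {R : ι → Subgroup G} {i j : ι}
  {F : Type v} [Field F] {v : F → F → G} {w1 w2 t : F → G}
  {M : Type u} [AddCommGroup M] [Module F M] [DistribMulAction (HQ (R i)) M] {p : G → M}
  {f : M →ₗ[F] M →ₗ[F] F} {e : F →ₗ[F] M} {ω : M →ₗ[F] F} {σ : HQ (R i) →* RingAut F} {κ : HQ (R i) → F}
  [Finite G] [Finite F] [CharP F 2] {P : Subgroup G}
  {N : Type u} [AddCommGroup N] [Module F N] {P1 P2 : G → N}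

/-- **types (beta), (sigma)** of a node in `II.0h1`; `nk = n k`, `sk = s(k, ·)`, `qk = q(·, k)` -/
structure NQ (V : Subgroup G) (R : ι → Subgroup G) (i : ι) [DistribMulAction (HQ (R i)) M] (P : Subgroup G) (e1 : M) (nk : M) (sk : N →ₗ[F] M)
    (qk : N → F) : Prop where
  /-- some `m ∈ P` interchanges the points `e` and `n k` -/
  m : ∃ (x : G) (_ : x ∈ P) (hN : x ∈ normalizer (R i : Set G)) (β γ : F), β ≠ 0 ∧ γ ≠ 0 ∧
    π R i hN • e1 = β • nk ∧ π R i hN • nk = γ • e1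
  hPN : ∀ x (_ : x ∈ P) (hN : x ∈ normalizer (R i : Set G)),
    ∀ m ∈ Submodule.span F {e1} ⊔ LinearMap.range sk ⊔ Submodule.span F {nk},
      π R i hN • m ∈ Submodule.span F {e1} ⊔ LinearMap.range sk ⊔ Submodule.span F {nk}
  hspan : Submodule.span F {e1} ⊔ LinearMap.range sk ⊔ Submodule.span F {nk} =
    Submodule.span F {m | ∃ (x : G) (_ : x ∈ P) (hN : x ∈ normalizer (R i : Set G)), m = π R i hN • e1}
  not_eZ : ∀ x (_ : x ∈ P) (hN : x ∈ normalizer (R i : Set G)), cj x V ≠ V → ∀ (a : F) (l : N),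
    π R i hN • e1 ≠ a • e1 + sk l
  orb : ∀ x (_ : x ∈ P) (hN : x ∈ normalizer (R i : Set G)), cj x V ≠ V → ∃ a : F, a ≠ 0 ∧ ∃ l : N,
    π R i hN • e1 = a • (nk + sk l + qk l • e1)
  orb' : ∀ l : N, ∃ (x : G) (_ : x ∈ P) (hN : x ∈ normalizer (R i : Set G)) (a : F), a ≠ 0 ∧
    π R i hN • e1 = a • (nk + sk l + qk l • e1)
  /-- the T-invariant line -/
  sc : ∃ (x : G) (_ : x ∈ P) (hN : x ∈ normalizer (R i : Set G)) (a : F), a ≠ 0 ∧ π R i hN • e1 = a • nk

/-- type (sigma) -/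
structure NSQ (V : Subgroup G) (R : ι → Subgroup G) (i : ι) [DistribMulAction (HQ (R i)) M] (P : Subgroup G) (e1 : M) (nk : M) (sk : N →ₗ[F] M)
    (qk : N → F) : Prop extends NQ V R i P e1 nk sk qk where
  s_zero : ∀ l, sk l = 0
  q_ne : ∃ l, qk l ≠ 0
  card : (normalizer (V : Set G)).relIndex P = Nat.card F + 1

/-- type (beta) -/
structure NBQ (V : Subgroup G) (R : ι → Subgroup G) (i : ι) [DistribMulAction (HQ (R i)) M] (P : Subgroup G) (e1 : M) (nk : M) (sk : N →ₗ[F] M)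
    (qk : N → F) : Prop extends NQ V R i P e1 nk sk qk where
  s_iff : ∀ l, sk l = 0 ↔ qk l = 0
  finrank : Module.finrank F (LinearMap.range sk) = 2
  card : (normalizer (V : Set G)).relIndex P = Nat.card F ^ 2 + 1

section card

variable (q : Fq V R i v M p f e ω σ κ) (c : Coord V R i j v w1 w2) (b : BTS V R) (nd : Nd V R i j P)
include q c b nd

/-- the number of lines -/
theorem card_rel (hl : ∀ x ∈ im (R i) P, ∀ (a : F) (m : M), x • a • m = a • x • m) :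
    (stP F (im (R i) P) (e 1) hl).relIndex (im (R i) P) = (normalizer (V : Set G)).relIndex P := by
  have hPN := nd.P_le_N
  obtain ⟨S, hS⟩ : ∃ S, S = stP F (im (R i) P) (e 1) hl := ⟨_, rfl⟩
  have hS' : ∀ z, z ∈ S ↔ z ∈ im (R i) P ∧ ∃ a : F, a ≠ 0 ∧ z • e 1 = a • e 1 := fun z => by rw [hS]; rfl
  rw [← hS, show im (R i) P = (P.subgroupOf (normalizer (R i : Set G))).map (pr (R i)) from rfl, ← relIndex_comap,
    ← relIndex_subgroupOf hPN, ← inf_relIndex_right, ← inf_relIndex_right ((normalizer (V : Set G)).subgroupOf _)]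
  congr 1
  ext x
  simp only [mem_inf, mem_comap, mem_subgroupOf, hS']
  refine and_congr_left fun hx => ?_
  constructor
  · rintro ⟨-, a, -, ha⟩
    exact cj_eq_self_iff.1 ((V_iff q c b nd hx).2 ⟨a, ha⟩)
  · intro h
    obtain ⟨a, ha⟩ := (V_iff q c b nd hx).1 (cj_eq_self_iff.2 h)
    refine ⟨pr_mem_im x.2 hx, a, ?_, ha⟩
    rintro rfl
    rw [zero_smul] at ha
    exact pxe_ne q c b (nd.P_le_N hx) ha

end card

section main

variable (q : Fq V R i v M p f e ω σ κ) (b : BTS V R) (c : Coord V R i j v w1 w2) (τ : TorD V R i j v t)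
  (y : YPair V R i j w1 w2 N P1 P2) (hF : ∃ a : F, a ≠ 0 ∧ a ≠ 1)
  {π' : LinearMap.ker ω →ₗ[F] N ⧸ N0 b.toBT c y} {M0 : Submodule F M} {n : N →ₗ[F] M}
  {s : N →ₗ[F] N →ₗ[F] M} {sh : N → N →ₗ[F] F}
  (E : EigAbs.Eig f e ω (q.TL c τ) (q.DS b.toBT c τ y hF) (N0 b.toBT c y) π' (q.AL b.toBT c y) M0 n s sh)
  (nd : Nd V R i j P) (tP : ∀ a, a ≠ 0 → t a ∈ normalizer (P : Set G))
include E nd tP

theorem om_of {m : M} (hm : Om F (im (R i) P) (e 1) m) :
    ∃ (x : G) (_ : x ∈ P) (hN : x ∈ normalizer (R i : Set G)), ∃ a : F, a ≠ 0 ∧ m = a • (π R i hN • e 1) := by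
  obtain ⟨z, hz, a, ha, rfl⟩ := hm
  obtain ⟨g, hN, hg, rfl⟩ := mem_im.1 hz
  exact ⟨g, hg, hN, a, ha, rfl⟩

theorem to_om {x : G} (hx : x ∈ P) (hN : x ∈ normalizer (R i : Set G)) :
    Om F (im (R i) P) (e 1) (π R i hN • e 1) :=
  ⟨_, pr_mem_im hN hx, 1, one_ne_zero, by rw [one_smul]⟩

theorem nq_of {k : N} (hk : (N0 b.toBT c y).mkQ k ≠ 0) (hom : Om F (im (R i) P) (e 1) (n k)) :
    NQ V R i P (e 1) (n k) (s k) (fun l => sh l k) := by
  have H := nodeFr q b c τ y hF E nd tP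
  set k' := (N0 b.toBT c y).mkQ k with hk'
  have hnk : nQ q b c τ y hF E k' = n k := rfl
  have hsk : sQ q b c τ y hF E k' = s k := rfl
  have hshk : ∀ l, shQ q b c τ y hF E l k' = sh l k := fun l => rfl
  have hom' : Om F (im (R i) P) (e 1) (nQ q b c τ y hF E k') := hom
  have hne : ∀ a : F, n k ≠ a • e 1 := by
    intro a ha
    have h1 := H.indep (-a) 0 k' (zero_mem _) (by rw [neg_smul, hnk, ha]; abel)
    exact hk h1.2.2
  have hne' : ∀ a : F, e 1 ≠ a • n k := by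
    intro a ha
    have h1 := H.indep 1 0 (-(a • k')) (zero_mem _) (by rw [map_neg, map_smul, one_smul, hnk, ← ha]; abel)
    exact one_ne_zero h1.1
  have hV : ∀ {x : G} (hx : x ∈ P) (hN : x ∈ normalizer (R i : Set G)), cj x V ≠ V →
      ∀ a : F, π R i hN • e 1 ≠ a • e 1 := fun hx hN h a ha => h ((V_iff q c b nd hx).2 ⟨a, ha⟩)
  exact
    { m := by
        obtain ⟨m, hm, ⟨β, hβ, h1⟩, γ, hγ, h2⟩ := H.two_trans (x := e 1) (y := n k) (z := n k) (w := e 1)
          Om.self hom hom Om.self hne hne'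
        obtain ⟨g, hN, hg, rfl⟩ := mem_im.1 hm
        exact ⟨g, hg, hN, β, γ, hβ, hγ, h1, h2⟩
      hPN := fun x hx hN m hm => H.NN_act hk hom' (pr_mem_im hN hx) hm
      hspan := by
        have h1 := H.NN_eq hk hom'
        change Submodule.span F {e 1} ⊔ LinearMap.range (s k) ⊔ Submodule.span F {n k} = _ at h1
        rw [h1]
        apply le_antisymm
        · rw [Submodule.span_le]
          rintro _ ⟨z, hz, a, -, rfl⟩
          obtain ⟨g, hN, hg, rfl⟩ := mem_im.1 hz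
          exact Submodule.smul_mem _ _ (Submodule.subset_span ⟨g, hg, hN, rfl⟩)
        · rw [Submodule.span_le]
          rintro _ ⟨x, hx, hN, rfl⟩
          exact Submodule.subset_span (to_om q b c τ y hF E nd tP hx hN)
      not_eZ := fun x hx hN hxV a l hc => by
        by_cases hl : s k l = 0
        · rw [hl, add_zero] at hc
          exact hV hx hN hxV a hc
        · have h1 := H.not_om hk hom' (c := a) (a := l) hl
          change ¬ Om F (im (R i) P) (e 1) (a • e 1 + s k l) at h1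
          rw [← hc] at h1
          exact h1 (to_om q b c τ y hF E nd tP hx hN)
      orb := fun x hx hN hxV => by
        rcases (H.om_iff hk hom' _).1 (to_om q b c τ y hF E nd tP hx hN) with ⟨a, -, h1⟩ | ⟨a, ha, l, h1⟩
        · exact absurd h1 (hV hx hN hxV a)
        · exact ⟨a, ha, l, h1⟩
      orb' := fun l => by
        obtain ⟨x, hx, hN, a, ha, h1⟩ := om_of q b c τ y hF E nd tP (H.om_n hom' l)
        refine ⟨x, hx, hN, a⁻¹, inv_ne_zero ha, ?_⟩
        change n k + s k l + sh l k • e 1 = _ at h1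
        rw [h1, inv_smul_smul₀ ha]
      sc := by
        obtain ⟨x, hx, hN, a, ha, h1⟩ := om_of q b c τ y hF E nd tP hom
        exact ⟨x, hx, hN, a⁻¹, inv_ne_zero ha, by rw [h1, inv_smul_smul₀ ha]⟩ }

/-- **THE NODE THEOREM (N) in `II.0h1`** -/
theorem node_q :
    (∃ x ∈ P, cj x V ≠ V ∧ cj x V ≤ DD V R ∧ ∀ a, a ≠ 0 → t a ∈ normalizer (cj x V : Set G)) ∨
    (∃ k : N, NSQ V R i P (e 1) (n k) (s k) (fun l => sh l k)) ∨
    (∃ k : N, NBQ V R i P (e 1) (n k) (s k) (fun l => sh l k)) ∨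
    ((∀ x (_ : x ∈ P) (hN : x ∈ normalizer (R i : Set G)), cj x V ≠ V → ω (π R i hN • e 1) ≠ 0) ∧
      ∃ x ∈ P, cj x V ≠ V ∧ ∀ a, a ≠ 0 → t a ∈ normalizer (cj x V : Set G)) := by
  have H := nodeFr q b c τ y hF E nd tP
  have : Finite M := q.toMZ.finite_M
  have hF1 : 0 < Nat.card F - 1 := by
    have := Finite.one_lt_card (α := F)
    omega
  have hcard : ∀ {a : ℕ}, Nat.card {m : M // Om F (im (R i) P) (e 1) m} = (Nat.card F - 1) * a →
      (normalizer (V : Set G)).relIndex P = a := fun hc => by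
    rw [H.card_om, card_rel q c b nd] at hc
    exact Nat.eq_of_mul_eq_mul_left hF1 hc
  have hTV : ∀ {x : G} (hx : x ∈ P), (∀ a : Fˣ, ∃ χ : F, tQ τ a • (π R i (nd.P_le_N hx) • e 1) =
      χ • (π R i (nd.P_le_N hx) • e 1)) → ∀ a, a ≠ 0 → t a ∈ normalizer (cj x V : Set G) := by
    intro x hx h a ha
    obtain ⟨χ, hχ⟩ := h (Units.mk0 a ha)
    exact cj_eq_self_iff.1 (t_cj q c b τ nd tP hx hχ)
  rcases H.node hF with ⟨d, hd, hd0, hom, -⟩ | ⟨k, hk, hom, hs, ⟨l, hl⟩, hall⟩ | ⟨k, hk, hom, hs, hr, hall⟩ |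
    ⟨m, hm, hme, hmT⟩
  · left
    obtain ⟨x, hx, hN, a, ha, h1⟩ := om_of q b c τ y hF E nd tP hom
    have h2 : π R i (nd.P_le_N hx) • e 1 = a⁻¹ • d := by rw [h1, inv_smul_smul₀ ha]
    have hT : ∀ s : Fˣ, tQ τ s • (π R i (nd.P_le_N hx) • e 1) = π R i (nd.P_le_N hx) • e 1 := by
      intro s
      rw [h2, H.T_lin, H.T_0 s d hd]
    refine ⟨x, hx, fun hV => ?_, alpha_le_D q c b τ nd tP y hF hx hT, hTV hx fun s => ⟨1, by rw [hT, one_smul]⟩⟩
    obtain ⟨a', h3⟩ := (V_iff q c b nd hx).1 hV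
    rw [h2] at h3
    have h4 := H.indep (-a') (a⁻¹ • d) 0 (M0.smul_mem _ hd) (by rw [neg_smul, h3, map_zero]; abel)
    exact hd0 ((smul_eq_zero.1 h4.2.1).resolve_left (inv_ne_zero ha))
  · right; left
    obtain ⟨k, rfl⟩ := (N0 b.toBT c y).mkQ_surjective k
    have hN := nq_of q b c τ y hF E nd tP hk hom
    refine ⟨k, { hN with s_zero := hs, q_ne := ⟨l, hl⟩, card := hcard (card_om_line (d := n k) ?_ hall) }⟩
    intro a a' h0
    have h1 := H.indep a 0 (a' • (N0 b.toBT c y).mkQ k) (zero_mem _) (by rw [map_smul, add_zero, ← h0]; rfl)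
    exact ⟨h1.1, (smul_eq_zero.1 h1.2.2).resolve_right hk⟩
  · right; right; left
    obtain ⟨k, rfl⟩ := (N0 b.toBT c y).mkQ_surjective k
    have hN := nq_of q b c τ y hF E nd tP hk hom
    exact ⟨k, { hN with s_iff := hs, finrank := hr,
                        card := hcard (H.card_om_beta' hk hom (fun l hl => (hs l).1 hl) hr) }⟩
  · right; right; right
    have hme' : ∀ a : F, m ≠ a • e 1 := by
      rintro a rfl
      apply hme
      rw [map_smul, q.ωe c, smul_zero]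
    refine ⟨fun x hx hN hxV h0 => hme ?_, ?_⟩
    · obtain ⟨l, a, hac⟩ := H.tr _ m (to_om q b c τ y hF E nd tP hx hN) hm
        (fun a ha => hxV ((V_iff q c b nd hx).2 ⟨a, ha⟩)) hme'
      have ha : a ≠ 0 := by
        rintro rfl
        rw [zero_smul] at hac
        exact H.om_ne (H.om_act (H.A_mem l) (to_om q b c τ y hF E nd tP hx hN)) hac
      obtain ⟨u, huN, hu, h1⟩ := mem_im.1 (al_mem b.toBT y l)
      have h2 := q.cenV_ω c huN (UU_le_cen j hu) (π R i hN • e 1)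
      rw [h1, h0, hac, map_smul, smul_eq_mul] at h2
      exact (mul_eq_zero.1 h2).resolve_left ha
    · obtain ⟨x, hx, hN, a, ha, h1⟩ := om_of q b c τ y hF E nd tP hm
      have h2 : π R i (nd.P_le_N hx) • e 1 = a⁻¹ • m := by rw [h1, inv_smul_smul₀ ha]
      refine ⟨x, hx, fun hV => ?_, hTV hx fun s' => ?_⟩
      · obtain ⟨a', h3⟩ := (V_iff q c b nd hx).1 hV
        exact hme' (a * a') (by rw [h1, h3, smul_smul])
      · obtain ⟨χ, hχ⟩ := hmT s'
        exact ⟨χ, by rw [h2, H.T_lin, hχ, smul_comm]⟩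

/-- **(o2)**: the line over the point `n k` in types (beta), (sigma) -/
theorem NQ.exists_sc {k : N} (o : NQ V R i P (e 1) (n k) (s k) (fun l => sh l k)) :
    ∃ x, Sc V R i j v t P x ∧ ∃ (hN : x ∈ normalizer (R i : Set G)) (a : F), a ≠ 0 ∧ π R i hN • e 1 = a • n k := by
  have H := nodeFr q b c τ y hF E nd tP
  obtain ⟨x, hx, hN, a, ha, h1⟩ := o.sc
  have h2 : π R i (nd.P_le_N hx) • e 1 = a • n k := h1
  refine ⟨x, sc_of q c b τ nd tP hF hx (fun hV => ?_) (fun s' => ?_), hN, a, ha, h1⟩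
  · obtain ⟨a', h3⟩ := (V_iff q c b nd hx).1 hV
    rw [h2] at h3
    have h4 := H.indep (-a') 0 (a • (N0 b.toBT c y).mkQ k) (zero_mem _) (by
      rw [map_smul, add_zero]
      change -a' • e 1 + a • n k = 0
      rw [neg_smul, h3]
      abel)
    have h5 : n k = 0 := by
      have h6 := (smul_eq_zero.1 h4.2.2).resolve_left ha
      have h7 : nQ q b c τ y hF E ((N0 b.toBT c y).mkQ k) = 0 := by rw [h6, map_zero]
      exact h7
    rw [h5, smul_zero] at h1
    exact pxe_ne q c b hN h1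
  · rw [h2, H.T_lin]
    have h3 := H.T_1 s' ((N0 b.toBT c y).mkQ k)
    change tQ τ s' • n k = (s' : F) • n k at h3
    rw [h3, smul_comm]

end main

end Cfsg.Agent.Omega.HOneQ.NodeQ

end
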