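import Cfsg.Agent.Mrg.Omega.Lie.End.KSideMain
import Cfsg.Agent.Nodes.RGDLib
import Cfsg.Agent.Mrg.Omega.Lie.CubSQ
import Cfsg.Agent.Mrg.Omega.Lie.End.OfLay

section


/-!
# The sectional Curtis–Richen property `CRad.SecCR` from the theorem of Curtis and Richen (`Omega/CR`)

* `restrict` : a family of root group data restricted to a subgroup;
* `secAct` : the action of `K` on the section `X / Y`;
* `secCR_of_fam` : `SecCR E T S N M` from `Fam` with `GGt = E ⊔ T`, `S = Ut`, `T' ≤ N`.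
-/

set_option autoImplicit false
set_option linter.unusedSectionVars false

namespace Cfsg.Agent.Omega.HOneQ.SecCR

open CoxeterSystem Cfsg.Agent.ChevalleyStructure.CoxeterGeom Cfsg.Agent.Tits.Roots Cfsg.Agent.Tits.Core
  Cfsg.Agent.Tits.Exchange Cfsg.Agent.Nodes.Reps Cfsg.Agent.Nodes.BNOf Cfsg.Agent.Nodes.StabComb
  Cfsg.Agent.Nodes.Bruhat Cfsg.Agent.Nodes.OppDec Cfsg.Agent.Nodes.LeviDec Cfsg.Agent.KFacts.RgdOpp
open Cfsg.Agent.Omega.CR Cfsg.Agent.Omega.HOneQ.CRad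

variable {κ : Type*} [Fintype κ] {I W : κ → Type*} {Y : Type*} [∀ l, Fintype (I l)] [∀ l, DecidableEq (I l)]
  [∀ l, Group (W l)] [Group Y] {M : ∀ l, CoxeterMatrix (I l)}
  {cs : ∀ l, CoxeterSystem (M l) (W l)} {A : ∀ l, I l → I l → ℤ} {h : ∀ l, IsCartan (M l) (A l)} {p : ℕ}
  {T : Subgroup Y} {n : ∀ l, I l → Y} {X : ∀ l, (I l → ℤ) → Subgroup Y} {C : κ → Subgroup Y}

/-- restriction of a family to a subgroup -/
theorem restrict (F : Fam cs h p T n X C) (K : Subgroup Y) (hX : ∀ l x, IsRoot (cs l) (h l) x → X l x ≤ K)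
    (hn : ∀ l i, n l i ∈ K) :
    Fam cs h p (T.subgroupOf K) (fun l i => ⟨n l i, hn l i⟩) (fun l x => (X l x).subgroupOf K)
      (fun l => (C l).subgroupOf K) where
  rgd l := Cfsg.Agent.Nodes.RGDLib.rgd_restrict (F.rgd l) K (hX l) (hn l)
  X_le l x hx := fun _ hg => F.X_le l x hx hg
  n_mem l i := F.n_mem l i
  comm l m hlm a ha b hb := Subtype.ext (F.comm l m hlm _ ha _ hb)

theorem n_mem_GGt (F : Fam cs h p T n X C) (l : κ) (i : I l) : n l i ∈ GGt cs h T X := by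
  apply GG_le_GGt l
  have h1 : n l i ∈ LJ (cs l) (h l) T (X l) Set.univ := n_mem_LJ (F.rgd l) (Set.mem_univ i)
  have h2 : LJ (cs l) (h l) T (X l) Set.univ ≤ GG (cs l) (h l) T (X l) :=
    sup_le le_sup_left ((RGD.Sup_le fun z hz => (RGD.le_Sup (X := X l) (S := {x | IsRoot (cs l) (h l) x}) hz.1)).trans
      le_sup_right)
  exact h2 h1

theorem X_le_GGt (l : κ) (x : I l → ℤ) (hx : IsRoot (cs l) (h l) x) : X l x ≤ GGt cs h T X :=
  ((RGD.le_Sup (X := X l) (S := {x | IsRoot (cs l) (h l) x}) hx).trans le_sup_right).trans (GG_le_GGt l)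

theorem Ut_restrict_le (K : Subgroup Y) :
    Ut cs h (fun l x => (X l x).subgroupOf K) ≤ (Ut cs h X).subgroupOf K := by
  refine iSup_le fun l => RGD.Sup_le fun z hz => ?_
  intro g hg
  rw [Subgroup.mem_subgroupOf] at hg ⊢
  exact U_le_Ut l (RGD.le_Sup (X := X l) hz hg)

theorem GGt_restrict_eq : GGt cs h (T.subgroupOf (GGt cs h T X)) (fun l x => (X l x).subgroupOf (GGt cs h T X)) = ⊤ := by
  have h1 : (GGt cs h (T.subgroupOf (GGt cs h T X)) (fun l x => (X l x).subgroupOf (GGt cs h T X))).map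
      (GGt cs h T X).subtype = GGt cs h T X := by
    apply le_antisymm
    · rintro _ ⟨g, -, rfl⟩
      exact g.2
    · have hT : T ≤ GGt cs h T X := le_sup_left
      refine sup_le ?_ (iSup_le fun l => sup_le ?_ (RGD.Sup_le fun z hz => ?_))
      · intro t ht
        exact ⟨⟨t, hT ht⟩, Subgroup.mem_sup_left ht, rfl⟩
      · intro t ht
        exact ⟨⟨t, hT ht⟩, Subgroup.mem_sup_left ht, rfl⟩
      · intro g hg
        refine ⟨⟨g, X_le_GGt l z hz hg⟩, ?_, rfl⟩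
        exact GG_le_GGt l (Subgroup.mem_sup_right (RGD.le_Sup
          (X := fun x => (X l x).subgroupOf (GGt cs h T X)) (S := {x | IsRoot (cs l) (h l) x}) hz hg))
  rw [eq_top_iff]
  rintro ⟨g, hg⟩ -
  rw [← h1] at hg
  obtain ⟨g', hg', e⟩ := hg
  have : g' = ⟨g, h1 ▸ ⟨g', hg', e⟩⟩ := Subtype.ext e
  rw [← this]
  exact hg'

section act

variable {V : Type*} [AddCommGroup V] [DistribMulAction Y V]

/-- the action on a section -/
@[reducible] def secAct (K : Subgroup Y) {P Q : AddSubgroup V} (hP : Inv K P) (hQ : Inv K Q) :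
    DistribMulAction K (↥P ⧸ Q.addSubgroupOf P) where
  smul s := Quotient.map' (fun x : ↥P => (⟨(s : Y) • (x : V), hP _ s.2 _ x.2⟩ : ↥P)) (by
    intro a b hab
    rw [QuotientAddGroup.leftRel_apply, AddSubgroup.mem_addSubgroupOf] at hab ⊢
    have h1 := hQ _ s.2 _ hab
    rw [AddSubgroup.coe_add, AddSubgroup.coe_neg, smul_add, smul_neg] at h1
    exact h1)
  one_smul x := by
    induction x using Quotient.inductionOn' with
    | h x =>
      show Quotient.mk'' _ = Quotient.mk'' _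
      congr 1
      exact Subtype.ext (one_smul Y (x : V))
  mul_smul a b x := by
    induction x using Quotient.inductionOn' with
    | h x =>
      show Quotient.mk'' _ = Quotient.mk'' _
      congr 1
      exact Subtype.ext (mul_smul (a : Y) (b : Y) (x : V))
  smul_zero s := by
    show Quotient.mk'' _ = Quotient.mk'' _
    congr 1
    exact Subtype.ext (smul_zero (s : Y))
  smul_add s x y := by
    induction x using Quotient.inductionOn' with
    | h x =>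
      induction y using Quotient.inductionOn' with
      | h y =>
        show Quotient.mk'' _ = Quotient.mk'' _
        congr 1
        exact Subtype.ext (smul_add (s : Y) (x : V) (y : V))

/-- **the sectional Curtis–Richen property** -/
theorem secCR_of_fam [Finite Y] [∀ l, Finite (W l)] [Finite V] (F : Fam cs h 2 T n X C) {E T₀ N : Subgroup Y}
    (hG : GGt cs h T X = E ⊔ T₀) (hN : T ≤ N) (hexp : ∀ v : V, v + v = 0) : SecCR E T₀ (Ut cs h X) N V := by
  intro P Q hPE hPT hQE hQT hlt hsim D hQD hDP hDN hDS x hx hxS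
  have : Fact (Nat.Prime 2) := ⟨Nat.prime_two⟩
  have hP : Inv (GGt cs h T X) P := by rw [hG]; exact inv_sup hPE hPT
  have hQ : Inv (GGt cs h T X) Q := by rw [hG]; exact inv_sup hQE hQT
  let inst : DistribMulAction (GGt cs h T X) (↥P ⧸ Q.addSubgroupOf P) := secAct (GGt cs h T X) hP hQ
  have F' := restrict F (GGt cs h T X) (fun l x hx => X_le_GGt l x hx) (n_mem_GGt F)
  have hsm : ∀ (g : GGt cs h T X) (v : ↥P), g • (v : ↥P ⧸ Q.addSubgroupOf P) =
      ((⟨(g : Y) • (v : V), hP _ g.2 _ v.2⟩ : ↥P) : ↥P ⧸ Q.addSubgroupOf P) := fun _ _ => rfl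
  have hmk : ∀ v w : ↥P, ((v : ↥P ⧸ Q.addSubgroupOf P) = (w : ↥P ⧸ Q.addSubgroupOf P)) ↔ (v : V) - w ∈ Q := by
    intro v w
    rw [eq_comm, QuotientAddGroup.eq, AddSubgroup.mem_addSubgroupOf, AddSubgroup.coe_add, AddSubgroup.coe_neg,
      neg_add_eq_sub]
  have hexp' : ∀ v : ↥P ⧸ Q.addSubgroupOf P, 2 • v = 0 := by
    intro v
    induction v using Quotient.inductionOn' with
    | h v =>
      rw [two_nsmul]
      show ((v + v : ↥P) : ↥P ⧸ Q.addSubgroupOf P) = 0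
      have : v + v = 0 := Subtype.ext (hexp v)
      rw [this]
      rfl
  have hirr : ∀ L : AddSubgroup (↥P ⧸ Q.addSubgroupOf P),
      (∀ g ∈ GGt cs h (T.subgroupOf (GGt cs h T X)) (fun l x => (X l x).subgroupOf (GGt cs h T X)), ∀ v ∈ L, g • v ∈ L) →
        L = ⊥ ∨ L = ⊤ := by
    intro L hL
    let Z : AddSubgroup V := (L.comap (QuotientAddGroup.mk' (Q.addSubgroupOf P))).map P.subtype
    have hZ : ∀ v : ↥P, (v : V) ∈ Z ↔ (v : ↥P ⧸ Q.addSubgroupOf P) ∈ L := by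
      intro v
      constructor
      · rintro ⟨w, hw, e⟩
        have : w = v := Subtype.ext e
        subst this
        exact hw
      · intro hv
        exact ⟨v, hv, rfl⟩
    have hZP : Z ≤ P := by
      rintro _ ⟨v, -, rfl⟩
      exact v.2
    have hZG : Inv (GGt cs h T X) Z := by
      intro g hg v hv
      have h1 := (hZ ⟨v, hZP hv⟩).1 hv
      have h2 := hL ⟨g, hg⟩ (by rw [GGt_restrict_eq]; trivial) _ h1
      rw [hsm] at h2
      exact (hZ _).2 h2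
    have hQZ : Q ≤ Z := by
      intro v hv
      refine (hZ ⟨v, hlt.le hv⟩).2 ?_
      have h1 : ((⟨v, hlt.le hv⟩ : ↥P) : ↥P ⧸ Q.addSubgroupOf P) = 0 := by
        rw [QuotientAddGroup.eq_zero_iff, AddSubgroup.mem_addSubgroupOf]
        exact hv
      rw [h1]
      exact zero_mem _
    have hEG : E ≤ GGt cs h T X := by rw [hG]; exact le_sup_left
    have hTG : T₀ ≤ GGt cs h T X := by rw [hG]; exact le_sup_right
    rcases hsim Z (fun g hg => hZG g (hEG hg)) (fun g hg => hZG g (hTG hg)) hQZ hZP with h1 | h1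
    · left
      rw [eq_bot_iff]
      intro v hv
      induction v using Quotient.inductionOn' with
      | h v =>
        have h2 : (v : V) ∈ Z := (hZ v).2 hv
        rw [h1] at h2
        rw [AddSubgroup.mem_bot]
        exact (QuotientAddGroup.eq_zero_iff v).2 (AddSubgroup.mem_addSubgroupOf.2 h2)
    · right
      rw [eq_top_iff]
      intro v _
      induction v using Quotient.inductionOn' with
      | h v =>
        have h2 : (v : V) ∈ Z := by rw [h1]; exact v.2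
        exact (hZ v).1 h2
  let e : AddSubgroup (↥P ⧸ Q.addSubgroupOf P) := (D.addSubgroupOf P).map (QuotientAddGroup.mk' (Q.addSubgroupOf P))
  have he : ∀ v : ↥P, (v : ↥P ⧸ Q.addSubgroupOf P) ∈ e ↔ (v : V) ∈ D := by
    intro v
    constructor
    · rintro ⟨w, hw, e⟩
      have h1 : (w : V) - v ∈ Q := (hmk w v).1 e
      have h2 : (w : V) ∈ D := AddSubgroup.mem_addSubgroupOf.1 hw
      have h3 := sub_mem h2 (hQD.le h1)
      rwa [sub_sub_cancel] at h3
    · intro hv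
      exact ⟨v, AddSubgroup.mem_addSubgroupOf.2 hv, rfl⟩
  have hUt := Ut_restrict_le (cs := cs) (h := h) (X := X) (GGt cs h T X)
  have key := F'.act_le hexp' hirr (e := e) ?_ ?_ ?_ (x := ((⟨x, hx⟩ : ↥P) : ↥P ⧸ Q.addSubgroupOf P)) ?_
  · exact (he ⟨x, hx⟩).1 key
  · intro h0
    obtain ⟨v, hv, hvQ⟩ := SetLike.exists_of_lt hQD
    apply hvQ
    have h1 := (he ⟨v, hDP hv⟩).2 hv
    rw [h0, AddSubgroup.mem_bot, QuotientAddGroup.eq_zero_iff, AddSubgroup.mem_addSubgroupOf] at h1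
    exact h1
  · intro u hu v hv
    induction v using Quotient.inductionOn' with
    | h v =>
      have h1 : (v : V) ∈ D := (he v).1 hv
      have h2 := hDS u (hUt hu) v h1
      exact (hmk ⟨(u : Y) • (v : V), hP _ u.2 _ v.2⟩ v).2 h2
  · intro t ht v hv
    induction v using Quotient.inductionOn' with
    | h v =>
      have h1 : (v : V) ∈ D := (he v).1 hv
      exact (he ⟨(t : Y) • (v : V), hP _ t.2 _ v.2⟩).2 (hDN t (hN ht) v h1)
  · intro u hu
    exact (hmk ⟨(u : Y) • (x : V), hP _ u.2 _ hx⟩ ⟨x, hx⟩).2 (hxS u (hUt hu))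

end act

end Cfsg.Agent.Omega.HOneQ.SecCR

end

section


/-!
# The K-side data `HOneQ.Fr.KD` from commuting components with root group data

`D : Comps cs h 2 T n X C T0`: `E = ⨆ C l`, `S = Ut`, `HE = ⨆ T l`, `w` the longest element.
-/

set_option autoImplicit false
set_option linter.unusedSectionVars false

namespace Cfsg.Agent.Omega.CR

open Subgroup CoxeterSystem Cfsg.Agent.ChevalleyStructure.CoxeterGeom Cfsg.Agent.Tits.Roots Cfsg.Agent.Tits.Core
  Cfsg.Agent.Tits.Exchange Cfsg.Agent.Nodes.Reps Cfsg.Agent.Nodes.BNOf Cfsg.Agent.Nodes.StabComb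
  Cfsg.Agent.Nodes.Bruhat Cfsg.Agent.Nodes.OppDec Cfsg.Agent.Nodes.LeviDec Cfsg.Agent.Nodes.NormalForm
  Cfsg.Agent.KFacts.RgdOpp
open Cfsg.Agent.Omega.HOneQ Cfsg.Agent.Omega.HOneQ.Fr Cfsg.Agent.Omega.HOneQ.SecCR

universe u

variable {κ : Type*} [Fintype κ] {I W : κ → Type*} {Y : Type u} [∀ l, Fintype (I l)] [∀ l, DecidableEq (I l)]
  [∀ l, Group (W l)] [Group Y] {M : ∀ l, CoxeterMatrix (I l)}
  {cs : ∀ l, CoxeterSystem (M l) (W l)} {A : ∀ l, I l → I l → ℤ} {h : ∀ l, IsCartan (M l) (A l)}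
  {T : κ → Subgroup Y} {n : ∀ l, I l → Y} {X : ∀ l, (I l → ℤ) → Subgroup Y} {C : κ → Subgroup Y} {T0 : Subgroup Y}

namespace Comps

variable (D : Comps cs h 2 T n X C T0) [Finite Y] [∀ l, Finite (W l)]
include D

/-- **The K-side data.** -/
theorem kd (hC : ∀ l, C l ≤ RGD.Sup (X l) {x | IsRoot (cs l) (h l) x})
    (hconn : ∀ l, ∀ J : Set (I l), J.Nonempty → J ≠ Set.univ → ∃ a ∈ J, ∃ b, b ∉ J ∧ M l a b ≠ 2)
    {A₁ : Subgroup Y} (hne : ∀ l, A₁ ⊓ RGD.Sup (X l) (RGD.Pos (cs l) (h l)) ≠ ⊥)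
    (hU : ∀ u ∈ Ut cs h X, ∀ a ∈ A₁, u * a * u⁻¹ ∈ A₁) (hT : ∀ t ∈ ⨆ l, T l, ∀ a ∈ A₁, t * a * t⁻¹ ∈ A₁)
    (hcom : ∀ x ∈ ⨆ l, T l, ∀ t ∈ T0, x * t * x⁻¹ * t⁻¹ ∈ A₁) :
    ∃ w : Y, KD (⨆ l, C l) (Ut cs h X) (⨆ l, T l) A₁ T0 w := by
  have : Fact (Nat.Prime 2) := ⟨Nat.prime_two⟩
  obtain ⟨w, hw, hwN, hwU⟩ := D.exists_w
  have hN : ∀ K : Subgroup Y, (∀ s ∈ Ut cs h X, w * s * w⁻¹ ∈ K) → UNt cs h X ≤ K := by
    intro K hK
    rw [← hwU]
    rintro _ ⟨u, hu, rfl⟩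
    exact hK u hu
  refine ⟨w, ⟨D.cpl hC, hcom, hw, fun t ht => ?_, fun K hAK hK => D.gen hC hconn hne hU hT (hN K hK) hAK, ?_, ?_⟩⟩
  · have h1 := inv_mem (hwN.2 t⁻¹ (inv_mem ht))
    have e : (w⁻¹ * (t⁻¹ * w * t⁻¹⁻¹))⁻¹ = t⁻¹ * w⁻¹ * t * w := by group
    rwa [e] at h1
  · intro V _ _ _ hexp
    have hG : GGt cs h (T0 ⊔ ⨆ m, T m) X = (⨆ l, C l) ⊔ T0 := by
      rw [D.GGt_eq fun l => (D.C_eq hC l).ge, sup_comm]
    exact secCR_of_fam D.fam hG le_rfl hexp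
  · intro V _ _ _ hexp hirr L hL
    rcases subsingleton_or_nontrivial V with hV | hV
    · rw [eq_top_iff]
      intro v _
      rw [Subsingleton.elim v 0]
      exact zero_mem _
    refine D.fam.act_gen (fun v => by rw [two_nsmul]; exact hexp v) ?_ (L := L) ?_
    · intro L' hL'
      rw [D.GGt_eq fun l => (D.C_eq hC l).ge] at hL'
      exact hirr L' (fun g hg x hx => hL' g (mem_sup_right hg) x hx) (fun g hg x hx => hL' g (mem_sup_left hg) x hx)
    · intro x hx u hu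
      rw [← hwU] at hu
      obtain ⟨s, hs, rfl⟩ := hu
      exact hL s hs x hx

end Comps

end Cfsg.Agent.Omega.CR

end

section


/-!
# From `KDiag` of the components to `Comps` and `KD`

`K l ≤ H` pairwise commuting, `T0` of odd order normalises them, `KDiag (S ⊓ K l) (Tact T0 (K l))`:

* `exists_comps` : `Comps` for suitable root group data;
* `exists_kd` : `KD (⨆ K l) (S ⊓ ⨆ K l) HE A₁ T0 w`, `HE` centralised by `T0`.
-/

set_option autoImplicit false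
set_option linter.unusedSectionVars false

namespace Cfsg.Agent.Omega.CR

open Subgroup CoxeterSystem Cfsg.Agent.ChevalleyStructure.CoxeterGeom Cfsg.Agent.Tits.Roots Cfsg.Agent.Tits.Core
  Cfsg.Agent.Tits.RootComb Cfsg.Agent.Nodes.Comb Cfsg.Agent.Nodes.Reps Cfsg.Agent.Nodes.BNOf
  Cfsg.Agent.Nodes.Bruhat Cfsg.Agent.KFacts.RgdAut Cfsg.Agent.KFacts.RgdDiag Cfsg.Agent.KFacts.RgdCharP
  Cfsg.Agent.Omega.Lie.End Cfsg.Agent.Omega.Lie.End.Mov Cfsg.Agent.Omega.Lie.End.OfLay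
open Cfsg.Agent.Omega.HOneQ Cfsg.Agent.Omega.HOneQ.Fr

universe u

variable {H : Type u} [Group H] [Finite H] {κ : Type*} [Fintype κ] {K : κ → Subgroup H} {S T0 : Subgroup H}

theorem mem_map_subtype {K : Subgroup H} {P : Subgroup K} {x : H} : x ∈ P.map K.subtype ↔ ∃ hx : x ∈ K, (⟨x, hx⟩ : K) ∈ P := by
  constructor
  · rintro ⟨y, hy, rfl⟩
    exact ⟨y.2, hy⟩
  · rintro ⟨hx, h⟩
    exact ⟨⟨x, hx⟩, h, rfl⟩

/-- the automorphism induced by `t` -/
theorem exists_tact {K : Subgroup H} {t : H} (ht : t ∈ T0) (hN : t ∈ normalizer (K : Set H)) :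
    ∃ γ ∈ Tact T0 K, ∀ x : K, ((γ x : K) : H) = t * x * t⁻¹ :=
  ⟨K.normalizerMonoidHom ⟨t, hN⟩, mem_Tact.2 ⟨t, ht, hN, fun _ => rfl⟩, fun _ => rfl⟩

theorem exists_comps (hcomm : ∀ l m, l ≠ m → ∀ a ∈ K l, ∀ b ∈ K m, a * b = b * a)
    (hN : ∀ l, T0 ≤ normalizer (K l : Set H)) (hodd : Odd (Nat.card T0))
    (kd : ∀ l, KDiag (S.subgroupOf (K l)) (Tact T0 (K l))) :
    ∃ (d : κ → ℕ) (M : ∀ l, CoxeterMatrix (Fin (d l))) (A : ∀ l, Fin (d l) → Fin (d l) → ℤ)
      (h : ∀ l, IsCartan (M l) (A l)) (T : κ → Subgroup H) (n : ∀ l, Fin (d l) → H)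
      (X : ∀ l, (Fin (d l) → ℤ) → Subgroup H),
      (∀ l, Finite (M l).Group) ∧ (∀ l, Conn (M l)) ∧
      Comps (fun l => (M l).toCoxeterSystem) h 2 T n X K T0 ∧
      (∀ l, K l ≤ RGD.Sup (X l) {x | IsRoot (M l).toCoxeterSystem (h l) x}) ∧
      (∀ l, RGD.Sup (X l) (RGD.Pos (M l).toCoxeterSystem (h l)) = S ⊓ K l) ∧
      (∀ l, ∀ t ∈ T0, ∀ s ∈ T l, t * s * t⁻¹ = s) := by
  choose d M A h T n X hW hc R hG1 hU hD using kd
  have hSup : ∀ l (S' : Set (Fin (d l) → ℤ)), RGD.Sup (fun x => (X l x).map (K l).subtype) S' =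
      (RGD.Sup (X l) S').map (K l).subtype := by
    intro l S'
    unfold RGD.Sup
    rw [Subgroup.map_iSup]
  have key : ∀ l, ∀ t ∈ T0, ∀ s ∈ (T l).map (K l).subtype, t * s * t⁻¹ = s := by
    rintro l t ht _ ⟨s, hs, rfl⟩
    obtain ⟨γ, hγ, e⟩ := exists_tact ht (hN l ht)
    have h1 := e s
    rw [(hD l γ hγ).2 s hs] at h1
    exact h1.symm
  refine ⟨d, M, A, h, fun l => (T l).map (K l).subtype, fun l i => n l i, fun l x => (X l x).map (K l).subtype, hW, hc,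
    ?_, ?_, ?_, key⟩
  · refine ⟨fun l => Nodes.RGDLib.rgd_map_of_injective (R l) (K l).subtype (K l).subtype_injective, fun l => ?_,
      fun l x _ => ?_, fun l i => (n l i).2, hcomm, fun l t ht s hs => ?_, fun l x hx t ht y hy => ?_,
      fun l i t ht => ?_, Nat.coprime_two_right.2 hodd⟩
    · rintro _ ⟨x, -, rfl⟩
      exact x.2
    · rintro _ ⟨x, -, rfl⟩
      exact x.2
    · rw [key l t ht s hs]
      exact hs
    · obtain ⟨y, hy, rfl⟩ := hy
      obtain ⟨γ, hγ, e⟩ := exists_tact ht (hN l ht)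
      have h1 := (Diag.mem_iff (R l) (hD l γ hγ).1 hx y).2 hy
      exact ⟨γ y, h1, e y⟩
    · obtain ⟨γ, hγ, e⟩ := exists_tact ht (hN l ht)
      have h1 := (rp_simple (M l).toCoxeterSystem (R l).nsys i).unique (Diag.rp (R := R l) (hD l γ hγ).1 i)
      refine ⟨(n l i)⁻¹ * γ (n l i), h1, ?_⟩
      change ((n l i : K l) : H)⁻¹ * ((γ (n l i) : K l) : H) = _
      rw [e]
  · intro l
    rw [hSup, hG1]
    intro x hx
    exact ⟨⟨x, hx⟩, mem_top _, rfl⟩
  · intro l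
    rw [hSup, hU, subgroupOf_map_subtype]

theorem iSup_le_norm (hcomm : ∀ l m, l ≠ m → ∀ a ∈ K l, ∀ b ∈ K m, a * b = b * a) (l : κ) :
    (⨆ m, K m) ≤ normalizer (K l : Set H) := by
  refine iSup_le fun m => ?_
  by_cases hm : m = l
  · rw [hm]; exact le_normalizer
  · refine le_normalizer_of fun x hx s hs => ?_
    rw [hcomm m l hm x hx s hs, mul_inv_cancel_right]
    exact hs

/-- **`KD` for the product of the components.** -/
theorem exists_kd (hcomm : ∀ l m, l ≠ m → ∀ a ∈ K l, ∀ b ∈ K m, a * b = b * a)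
    (hN : ∀ l, T0 ≤ normalizer (K l : Set H)) (hodd : Odd (Nat.card T0))
    (kd : ∀ l, KDiag (S.subgroupOf (K l)) (Tact T0 (K l))) (hS : IsPGroup 2 S) {A₁ : Subgroup H}
    (hne : ∀ l, A₁ ⊓ (S ⊓ K l) ≠ ⊥) (hST : ∀ t ∈ T0, ∀ s ∈ S, s⁻¹ * (t * s * t⁻¹) ∈ A₁)
    (hA : ∀ n : H, (∀ s ∈ S ⊓ ⨆ l, K l, n * s * n⁻¹ ∈ S ⊓ ⨆ l, K l) → (∀ t ∈ T0, n * t * n⁻¹ * t⁻¹ ∈ A₁) →
      ∀ a ∈ A₁, n * a * n⁻¹ ∈ A₁) :
    ∃ (HE : Subgroup H) (w : H), KD (⨆ l, K l) (S ⊓ ⨆ l, K l) HE A₁ T0 w ∧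
      (∀ t ∈ T0, ∀ s ∈ HE, t * s * t⁻¹ = s) := by
  have : Fact (Nat.Prime 2) := ⟨Nat.prime_two⟩
  obtain ⟨d, M, A, h, T, n, X, hW, hc, D, hC, hU, hT⟩ := exists_comps hcomm hN hodd kd
  have hUt : Ut (fun l => (M l).toCoxeterSystem) h X = ⨆ l, S ⊓ K l := by
    unfold Ut
    exact iSup_congr hU
  have hUS : Ut (fun l => (M l).toCoxeterSystem) h X ≤ S ⊓ ⨆ l, K l := by
    rw [hUt]
    exact iSup_le fun l => inf_le_inf_left S (le_iSup K l)
  -- `S ⊓ E = U`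
  have hSE : S ⊓ ⨆ l, K l = Ut (fun l => (M l).toCoxeterSystem) h X := by
    refine le_antisymm ?_ hUS
    rintro x ⟨hxS, hxK⟩
    have h1 : ∀ y ∈ S ⊓ ⨆ l, K l, ∀ s ∈ Ut (fun l => (M l).toCoxeterSystem) h X,
        y * s * y⁻¹ ∈ Ut (fun l => (M l).toCoxeterSystem) h X := by
      rintro y ⟨hyS, hyK⟩
      have h2 : Ut (fun l => (M l).toCoxeterSystem) h X ≤
          (Ut (fun l => (M l).toCoxeterSystem) h X).comap (MulAut.conj y).toMonoidHom := by
        rw [hUt]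
        refine iSup_le fun l s hs => (le_iSup (fun l => S ⊓ K l) l) (mem_inf.2 ⟨?_, ?_⟩)
        · exact S.mul_mem (S.mul_mem hyS hs.1) (S.inv_mem hyS)
        · exact (mem_normalizer_iff.1 (iSup_le_norm hcomm l hyK) s).1 hs.2
      exact fun s hs => h2 hs
    have h2 : x ∈ normalizer (Ut (fun l => (M l).toCoxeterSystem) h X : Set H) := by
      refine mem_normalizer_of_le (h1 x ⟨hxS, hxK⟩) fun s hs => ?_
      have h3 := h1 x⁻¹ (inv_mem (mem_inf.2 ⟨hxS, hxK⟩)) s hs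
      rwa [inv_inv] at h3
    have h3 : x ∈ Ut (fun l => (M l).toCoxeterSystem) h X ⊔ ⨆ l, T l := by
      rw [← D.normalizer_eq hC]
      exact ⟨hxK, h2⟩
    obtain ⟨k, hk⟩ := hS ⟨x, hxS⟩
    exact mem_of_pow (le_sup_right.trans D.HE_norm_Ut) D.coprime_HE h3 (congrArg Subtype.val hk)
  have h3 : ∀ t ∈ T0, (⨆ l, T l) ≤ centralizer {t} := by
    intro t ht
    refine iSup_le fun l s hs => ?_
    rw [mem_centralizer_singleton_iff]
    exact (mul_inv_eq_iff_eq_mul.1 (hT l t ht s hs)).symm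
  have h4 : ∀ t ∈ T0, ∀ s ∈ ⨆ l, T l, t * s * t⁻¹ = s := by
    intro t ht s hs
    have h5 := mem_centralizer_singleton_iff.1 (h3 t ht hs)
    rw [← h5, mul_inv_cancel_right]
  have h6 : ∀ x ∈ ⨆ l, T l, ∀ t ∈ T0, x * t * x⁻¹ * t⁻¹ ∈ A₁ := by
    intro x hx t ht
    have h5 := h4 t ht x hx
    have h6 : x * t * x⁻¹ * t⁻¹ = 1 := by
      calc x * t * x⁻¹ * t⁻¹ = x * (t * x * t⁻¹)⁻¹ := by group
        _ = 1 := by rw [h5, mul_inv_cancel]
    rw [h6]
    exact one_mem _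
  obtain ⟨w, hw⟩ := D.kd hC hc (A₁ := A₁) (fun l => by rw [hU l]; exact hne l)
    (fun u hu => by
      rw [← hSE] at hu
      refine hA u (fun s hs => mul_mem (mul_mem hu hs) (inv_mem hu)) fun t ht => ?_
      have h5 := hST t ht u⁻¹ (inv_mem hu.1)
      have e : u⁻¹⁻¹ * (t * u⁻¹ * t⁻¹) = u * t * u⁻¹ * t⁻¹ := by group
      rwa [e] at h5)
    (fun t ht => hA t (fun s hs => by
      rw [hSE] at hs ⊢
      exact (mem_normalizer_iff.1 ((le_sup_right.trans D.HE_norm_Ut) ht) s).1 hs) (h6 t ht)) h6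
  rw [← hSE] at hw
  exact ⟨_, w, hw, h4⟩

end Cfsg.Agent.Omega.CR

end
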